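import Groth.Agent.CompleteLib.Basic
import Groth.Agent.CompleteLib.TwoIdeals
import Groth.Agent.HenselLib.Perm
import Mathlib.RingTheory.Ideal.KrullsHeightTheorem

/-! Rig-closed primes of Noetherian adic rings. -/

set_option autoImplicit false

universe u

namespace AdicRingLib.RigClosed

variable {S : Type u} [CommRing S]

/-- In a Noetherian domain in which every nonzero prime contains a fixed nonzero ideal, every
nonzero prime is maximal. -/
theorem isMaximal_of_forall_le [IsDomain S] [IsNoetherianRing S] {J : Ideal S} (hJ : J ≠ ⊥)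
    (h : ∀ P : Ideal S, P.IsPrime → P ≠ ⊥ → J ≤ P) (P : Ideal S) [P.IsPrime] (hP : P ≠ ⊥) :
    P.IsMaximal := by
  classical
  obtain ⟨Q, hQ, hQP⟩ := Ideal.exists_minimalPrimes_le (h P ‹_› hP)
  obtain ⟨M, hM, hPM⟩ := Ideal.exists_le_maximal P ‹P.IsPrime›.ne_top
  suffices M ≤ Q by rw [le_antisymm (this.trans hQP) hPM] at hM; exact hM
  by_contra hMQ
  let F := (Ideal.finite_minimalPrimes_of_isNoetherianRing S J).toFinset
  have hF : ∀ {Q'}, Q' ∈ F ↔ Q' ∈ J.minimalPrimes := Set.Finite.mem_toFinset _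
  have hsub : ¬ (M : Set S) ⊆ ⋃ i ∈ (↑F : Set (Ideal S)), (i : Set S) := by
    rw [Ideal.subset_union_prime (⊥ : Ideal S) (⊥ : Ideal S) fun i hi _ _ => (hF.1 hi).1.1]
    rintro ⟨i, hi, hMi⟩
    have hle : Q ≤ i := (hQP.trans hPM).trans hMi
    have : i = Q := le_antisymm ((hF.1 hi).2 hQ.1 hle) hle
    exact hMQ (this ▸ hMi)
  rw [Set.not_subset] at hsub
  obtain ⟨x, hxM, hx⟩ := hsub
  simp only [Set.mem_iUnion, not_exists] at hx
  obtain ⟨P', hP', hP'M⟩ := Ideal.exists_minimalPrimes_le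
    (show Ideal.span {x} ≤ M from (Ideal.span_singleton_le_iff_mem M).2 hxM)
  have := hP'.1.1
  have hxP' : x ∈ P' := hP'.1.2 (Ideal.mem_span_singleton_self x)
  have hQbot : Q ≠ ⊥ := fun e => hJ (le_bot_iff.1 (e ▸ hQ.1.2))
  have hP'bot : P' ≠ ⊥ := fun e => by
    have hx0 : x = 0 := by simpa [e] using hxP'
    exact hx Q (hF.2 hQ) (hx0 ▸ Q.zero_mem)
  obtain ⟨Q', hQ', hQ'P⟩ := Ideal.exists_minimalPrimes_le (h P' ‹_› hP'bot)
  have := hQ'.1.1
  have h1 : (⊥ : Ideal S) < Q' :=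
    bot_lt_iff_ne_bot.2 fun e => hJ (le_bot_iff.1 (e ▸ hQ'.1.2))
  have h2 : Q' < P' := lt_of_le_of_ne hQ'P fun e => hx Q' (hF.2 hQ') (e ▸ hxP')
  have := Ideal.height_add_one_le_of_lt_of_isPrime h1
  have h3 := (add_le_add this (le_refl 1)).trans (Ideal.height_add_one_le_of_lt_of_isPrime h2)
  have h4 := h3.trans (Ideal.height_le_one_of_isPrincipal_of_mem_minimalPrimes _ _ hP')
  rw [Ideal.height_bot] at h4
  exact absurd h4 (by norm_num)

/-- In a Henselian domain a maximal ideal which is minimal over the Henselian ideal is the only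
maximal ideal. -/
theorem eq_of_isMaximal_of_mem_minimalPrimes [IsDomain S] [IsNoetherianRing S] {J : Ideal S}
    [HenselianRing S J] {Q M : Ideal S} [hQm : Q.IsMaximal] (hQ : Q ∈ J.minimalPrimes) [hM : M.IsMaximal] :
    M = Q := by
  classical
  have hJM : J ≤ M := (HenselianRing.jac (I := J)).trans (sInf_le ⟨bot_le, hM⟩)
  by_contra hne
  obtain ⟨M', hM', hM'M⟩ := Ideal.exists_minimalPrimes_le hJM
  have hM'Q : M' ≠ Q := fun e => hne ((hQm.eq_of_le hM.ne_top (e ▸ hM'M)).symm)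
  let F := (Ideal.finite_minimalPrimes_of_isNoetherianRing S J).toFinset.erase Q
  have hF : ∀ {Q'}, Q' ∈ F ↔ Q' ≠ Q ∧ Q' ∈ J.minimalPrimes := by
    simp [F]
  let K := F.inf id
  have hKQ : ¬ K ≤ Q := fun hle => by
    obtain ⟨i, hi, hiQ⟩ := (Ideal.IsPrime.inf_le' hQm.isPrime).1 hle
    exact (hF.1 hi).1 (le_antisymm hiQ (hQ.2 (hF.1 hi).2.1 hiQ))
  have hKQtop : K ⊔ Q = ⊤ := hQm.1.2 _ (lt_of_le_of_ne le_sup_right fun e => hKQ (e ▸ le_sup_left))
  obtain ⟨k, hk, q, hq, hkq⟩ := Submodule.mem_sup.1 (hKQtop ▸ Submodule.mem_top (x := (1 : S)))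
  have hinf : K ⊓ Q ≤ J.radical := by
    rw [Ideal.radical_eq_sInf]
    refine le_sInf fun P ⟨hJP, hP⟩ => ?_
    obtain ⟨P', hP', hP'P⟩ := Ideal.exists_minimalPrimes_le hJP
    by_cases e : P' = Q
    · exact inf_le_right.trans (e ▸ hP'P)
    · exact inf_le_left.trans ((Finset.inf_le (f := id) (hF.2 ⟨e, hP'⟩)).trans hP'P)
  haveI : HenselianRing S J.radical := HenselLib.henselianRing_of_le_radical le_rfl
  obtain ⟨e, he, hek⟩ := HenselLib.exists_idempotent_lift (I := J.radical) (B := S) k (by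
    rw [Algebra.algebraMap_self, Ideal.map_id, show k * k - k = -(k * q) by
      linear_combination k * hkq]
    exact neg_mem (hinf ⟨Ideal.mul_mem_right _ _ hk, Ideal.mul_mem_left _ _ hq⟩))
  rw [Algebra.algebraMap_self, Ideal.map_id] at hek
  rcases IsIdempotentElem.iff_eq_zero_or_one.1 he with rfl | rfl
  · rw [zero_sub, neg_mem_iff] at hek
    exact hQm.ne_top ((Ideal.eq_top_iff_one Q).2
      (hkq ▸ add_mem (hQ.1.1.radical_le_iff.2 hQ.1.2 hek) hq))
  · have hK : J.radical ≤ K := Finset.le_inf fun i hi => (hF.1 hi).2.1.1.radical_le_iff.2 (hF.1 hi).2.1.2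
    have h1 : (1 : S) ∈ K := by
      rw [← hkq]
      refine add_mem hk (hK ?_)
      rwa [← hkq, add_sub_cancel_left] at hek
    exact hM'.1.1.ne_top ((Ideal.eq_top_iff_one _).2 (Finset.inf_le (f := id) (hF.2 ⟨hM'Q, hM'⟩) h1))

/-- In a complete Noetherian domain in which every nonzero prime contains the (nonzero) ideal of
definition there is exactly one nonzero prime, its radical. -/
theorem eq_radical_of_forall_le [IsDomain S] [IsNoetherianRing S] {J : Ideal S} [IsAdicComplete J S]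
    (hJ : J ≠ ⊥) (h : ∀ P : Ideal S, P.IsPrime → P ≠ ⊥ → J ≤ P) (P : Ideal S) [hP : P.IsPrime]
    (hP0 : P ≠ ⊥) : P = J.radical := by
  have hPm := isMaximal_of_forall_le hJ h P hP0
  have hmin : P ∈ J.minimalPrimes := by
    refine ⟨⟨hP, h P hP hP0⟩, fun Q ⟨hQ, hJQ⟩ hQP => ?_⟩
    have := hQ
    have hQm := isMaximal_of_forall_le hJ h Q fun e => hJ (le_bot_iff.1 (e ▸ hJQ))
    exact (hQm.eq_of_le hP.ne_top hQP).symm.le
  refine le_antisymm ?_ (hP.radical_le_iff.2 hmin.1.2)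
  rw [Ideal.radical_eq_sInf]
  refine le_sInf fun Q ⟨hJQ, hQ⟩ => ?_
  have := isMaximal_of_forall_le hJ h Q fun e => hJ (le_bot_iff.1 (e ▸ hJQ))
  exact (eq_of_isMaximal_of_mem_minimalPrimes (J := J) (Q := P) hmin (M := Q)).ge

theorem isLocalRing_of_forall_le [IsDomain S] [IsNoetherianRing S] {J : Ideal S} [IsAdicComplete J S]
    (hJ : J ≠ ⊥) (h : ∀ P : Ideal S, P.IsPrime → P ≠ ⊥ → J ≤ P) : IsLocalRing S := by
  refine IsLocalRing.of_unique_max_ideal ?_
  have hJm : ∀ M : Ideal S, M.IsMaximal → M = J.radical := fun M hM =>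
    eq_radical_of_forall_le hJ h M fun e => hJ (le_bot_iff.1
      (e ▸ (IsAdicComplete.le_jacobson_bot J).trans (sInf_le ⟨bot_le, hM⟩)))
  obtain ⟨M, hM⟩ := Ideal.exists_maximal S
  exact ⟨M, hM, fun M' hM' => (hJm M' hM').trans (hJm M hM).symm⟩

section Quotient

variable {A : Type u} [CommRing A] (I : Ideal A) (q : PrimeSpectrum A)

/-- The rig-closed condition, read in the quotient by the prime. -/
theorem forall_le_map_iff :
    (¬ I ≤ q.asIdeal ∧ ∀ q' : PrimeSpectrum A, q ≤ q' → ¬ I ≤ q'.asIdeal → q' = q) ↔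
      (I.map (Ideal.Quotient.mk q.asIdeal) ≠ ⊥ ∧ ∀ P : Ideal (A ⧸ q.asIdeal), P.IsPrime → P ≠ ⊥ →
        I.map (Ideal.Quotient.mk q.asIdeal) ≤ P) := by
  have hbot : I.map (Ideal.Quotient.mk q.asIdeal) = ⊥ ↔ I ≤ q.asIdeal := by
    rw [Ideal.map_eq_bot_iff_le_ker, Ideal.mk_ker]
  constructor
  · rintro ⟨hI, hmax⟩
    refine ⟨fun e => hI (hbot.1 e), fun P hP hP0 => ?_⟩
    rw [Ideal.map_le_iff_le_comap]
    by_contra hIP
    have hle : q.asIdeal ≤ P.comap (Ideal.Quotient.mk q.asIdeal) := fun x hx => by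
      rw [Ideal.mem_comap, Ideal.Quotient.eq_zero_iff_mem.2 hx]; exact P.zero_mem
    have := congrArg PrimeSpectrum.asIdeal (hmax ⟨P.comap (Ideal.Quotient.mk q.asIdeal), inferInstance⟩ hle hIP)
    refine hP0 ?_
    rw [← Ideal.map_comap_of_surjective _ Ideal.Quotient.mk_surjective P]
    exact (congrArg _ this).trans (Ideal.map_quotient_self _)
  · rintro ⟨hI, h⟩
    refine ⟨fun e => hI (hbot.2 e), fun q' hqq' hIq' => ?_⟩
    by_contra hne
    let P := q'.asIdeal.map (Ideal.Quotient.mk q.asIdeal)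
    have hker : RingHom.ker (Ideal.Quotient.mk q.asIdeal) ≤ q'.asIdeal := by rw [Ideal.mk_ker]; exact hqq'
    have hP : P.IsPrime := Ideal.map_isPrime_of_surjective Ideal.Quotient.mk_surjective hker
    have hcomap : P.comap (Ideal.Quotient.mk q.asIdeal) = q'.asIdeal := by
      rw [Ideal.comap_map_of_surjective _ Ideal.Quotient.mk_surjective, ← RingHom.ker_eq_comap_bot]
      exact sup_eq_left.2 hker
    refine hIq' (hcomap ▸ Ideal.map_le_iff_le_comap.1 (h P hP fun e => hne ?_))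
    refine PrimeSpectrum.ext ?_
    rw [← hcomap, e, ← RingHom.ker_eq_comap_bot, Ideal.mk_ker]

theorem isAdicComplete_quotient [IsNoetherianRing A] [IsAdicComplete I A] (J : Ideal A) :
    IsAdicComplete (I.map (Ideal.Quotient.mk J)) (A ⧸ J) := by
  have h : IsAdicComplete I (A ⧸ J) := CompleteLib.isAdicComplete_of_finite
  exact (IsAdicComplete.map_algebraMap_iff (S := A ⧸ J) _ _).2 h

theorem isLocalRing_quotient [IsNoetherianRing A] [IsAdicComplete I A]
    (hq : ¬ I ≤ q.asIdeal ∧ ∀ q' : PrimeSpectrum A, q ≤ q' → ¬ I ≤ q'.asIdeal → q' = q) :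
    IsLocalRing (A ⧸ q.asIdeal) := by
  obtain ⟨h1, h2⟩ := (forall_le_map_iff I q).1 hq
  haveI := isAdicComplete_quotient I q.asIdeal
  exact isLocalRing_of_forall_le h1 h2

end Quotient

end AdicRingLib.RigClosed
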