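import Groth.Agent.FlatLib.FibreLocal

/-! Flatness at points: composition, descent, and change of base at a point with reduced fibre. -/

set_option autoImplicit false

universe u

namespace AdicRingLib.FlatPoint

variable {R S T : Type u} [CommRing R] [CommRing S] [CommRing T]

/-- If `R → S` is flat at the image of `Q` and `S → T` is flat at `Q` then `R → T` is flat at `Q`. -/
theorem flat_comp (f : R →+* S) (g : S →+* T) (Q : Ideal T) [Q.IsPrime]
    (hf : ((algebraMap S (Localization.AtPrime (Q.comap g))).comp f).Flat)
    (hg : ((algebraMap T (Localization.AtPrime Q)).comp g).Flat) :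
    ((algebraMap T (Localization.AtPrime Q)).comp (g.comp f)).Flat := by
  let L := Localization.AtPrime (Q.comap g)
  let M := Localization.AtPrime Q
  let := ((algebraMap T M).comp g).toAlgebra
  let := (Localization.localRingHom (Q.comap g) Q g rfl).toAlgebra
  have : IsScalarTower S L M := IsScalarTower.of_algebraMap_eq fun s =>
    (Localization.localRingHom_to_map (Q.comap g) Q g rfl s).symm
  have : Module.Flat S M := hg
  have h : (algebraMap L M).Flat :=
    (Module.flat_iff_of_isLocalization L (Q.comap g).primeCompl M).2 (inferInstance : Module.Flat S M)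
  have h2 := hf.comp h
  rwa [← RingHom.comp_assoc, ← IsScalarTower.algebraMap_eq] at h2

/-- Flatness at a prime descends along a flat map. -/
theorem flat_descend (f : R →+* S) (g : S →+* T) (Q : Ideal T) [Q.IsPrime] (hg : g.Flat)
    (h : ((algebraMap T (Localization.AtPrime Q)).comp (g.comp f)).Flat) :
    ((algebraMap S (Localization.AtPrime (Q.comap g))).comp f).Flat := by
  let L := Localization.AtPrime (Q.comap g)
  let M := Localization.AtPrime Q
  let := ((algebraMap S L).comp f).toAlgebra
  let := ((algebraMap T M).comp g).toAlgebra
  let := ((algebraMap T M).comp (g.comp f)).toAlgebra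
  let := (Localization.localRingHom (Q.comap g) Q g rfl).toAlgebra
  have : IsScalarTower S L M := IsScalarTower.of_algebraMap_eq fun s =>
    (Localization.localRingHom_to_map (Q.comap g) Q g rfl s).symm
  have : IsScalarTower R L M := IsScalarTower.of_algebraMap_eq fun r =>
    (Localization.localRingHom_to_map (Q.comap g) Q g rfl (f r)).symm
  have : IsLocalHom (algebraMap L M) := Localization.isLocalHom_localRingHom (Q.comap g) Q g rfl
  have hT : (algebraMap T M).Flat := RingHom.flat_algebraMap_iff.2 inferInstance
  have : Module.Flat S M := hg.comp hT
  have : Module.Flat L M := (Module.flat_iff_of_isLocalization L (Q.comap g).primeCompl M).2 inferInstance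
  have : Module.FaithfullyFlat L M := Module.FaithfullyFlat.of_flat_of_isLocalHom
  have : Module.Flat R M := h
  exact FlatLib.flat_of_faithfullyFlat_module (R := R) (S := L) (M := M)

/-- Over a point `Q` whose preimage `P` in `S` has maximal ideal extended from `R`, flatness over
`R` implies flatness over `S`. -/
theorem flat_of_map_eq [IsNoetherianRing S] [IsNoetherianRing T] (f : R →+* S) (g : S →+* T)
    (Q : Ideal T) [Q.IsPrime]
    (hP : (((Q.comap g).comap f).map ((algebraMap S (Localization.AtPrime (Q.comap g))).comp f)) =
      IsLocalRing.maximalIdeal (Localization.AtPrime (Q.comap g)))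
    (h : ((algebraMap T (Localization.AtPrime Q)).comp (g.comp f)).Flat) :
    ((algebraMap T (Localization.AtPrime Q)).comp g).Flat := by
  let L := Localization.AtPrime (Q.comap g)
  let M := Localization.AtPrime Q
  have : IsNoetherianRing L := IsLocalization.isNoetherianRing (Q.comap g).primeCompl L inferInstance
  have : IsNoetherianRing M := IsLocalization.isNoetherianRing Q.primeCompl M inferInstance
  let := ((algebraMap S L).comp f).toAlgebra
  let := ((algebraMap T M).comp g).toAlgebra
  let := ((algebraMap T M).comp (g.comp f)).toAlgebra
  let := (Localization.localRingHom (Q.comap g) Q g rfl).toAlgebra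
  have : IsScalarTower S L M := IsScalarTower.of_algebraMap_eq fun s =>
    (Localization.localRingHom_to_map (Q.comap g) Q g rfl s).symm
  have : IsScalarTower R L M := IsScalarTower.of_algebraMap_eq fun r =>
    (Localization.localRingHom_to_map (Q.comap g) Q g rfl (f r)).symm
  have : IsLocalHom (algebraMap L M) := Localization.isLocalHom_localRingHom (Q.comap g) Q g rfl
  have : Module.Flat R M := h
  have hinj := FlatLib.injective_lTensor_map (R := R) (S := L) (M := M) ((Q.comap g).comap f)
  have hJ : (IsLocalRing.maximalIdeal L).map (algebraMap L M) ≤ Ideal.jacobson ⊥ := by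
    rw [IsLocalRing.jacobson_eq_maximalIdeal _ bot_ne_top]
    exact ((IsLocalRing.local_hom_TFAE (algebraMap L M)).out 0 2).1 ‹IsLocalHom (algebraMap L M)›
  let := Ideal.Quotient.field (IsLocalRing.maximalIdeal L)
  have hinj' : Function.Injective (LinearMap.lTensor M (IsLocalRing.maximalIdeal L).subtype) := hP ▸ hinj
  have : Module.Flat L M := FlatCrit.flat_of_injective_of_flat_quotient (S := M) (IsLocalRing.maximalIdeal L)
    hJ hinj' inferInstance
  have h2 : (algebraMap S L).Flat := RingHom.flat_algebraMap_iff.2 inferInstance
  have h3 := h2.comp (RingHom.flat_algebraMap_iff.2 this)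
  rwa [← IsScalarTower.algebraMap_eq] at h3

end AdicRingLib.FlatPoint
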