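import Groth.Agent.AdicRingLib.Saturated
import Mathlib.RingTheory.AdicCompletion.AsTensorProduct
import Mathlib.RingTheory.AdicCompletion.Completeness

/-!
An Artin–Rees property for possibly non-Noetherian rings, and its consequences for completions.
-/

set_option autoImplicit false

universe u v

open TensorProduct IsLocalRing

namespace AdicRingLib

variable {B : Type u} [CommRing B]

/-- The Artin–Rees property: the `K`-adic topology of a finite module induces that of its
submodules, in a uniform form with finitely generated witnesses. -/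
def HasAR (K : Ideal B) : Prop :=
  ∀ (M : Type u) [AddCommGroup M] [Module B M] [Module.Finite B M] (N : Submodule B M),
    ∃ N₀ : Submodule B M, N₀ ≤ N ∧ N₀.FG ∧ ∃ n₀ : ℕ, ∀ m, K ^ (m + n₀) • ⊤ ⊓ N ≤ K ^ m • N₀

theorem hasAR_of_isNoetherianRing [IsNoetherianRing B] (K : Ideal B) : HasAR K := fun M _ _ _ N => by
  obtain ⟨k, hk⟩ := Ideal.exists_pow_inf_eq_pow_smul K N
  refine ⟨N, le_rfl, IsNoetherian.noetherian N, k, fun m => ?_⟩
  rw [hk (m + k) (by omega), Nat.add_sub_cancel]
  exact Submodule.smul_mono le_rfl inf_le_right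

theorem HasAR.of_surjective {C : Type u} [CommRing C] {K : Ideal B} (h : HasAR K) (f : B →+* C)
    (hf : Function.Surjective f) : HasAR (K.map f) := fun M _ _ _ N => by
  let _ : Algebra B C := f.toAlgebra
  let _ : Module B M := Module.compHom M f
  have : IsScalarTower B C M := ⟨fun b c x => by
    show (f b * c) • x = f b • c • x
    rw [mul_smul]⟩
  have : Module.Finite B C := Module.Finite.of_surjective (Algebra.linearMap B C) hf
  have : Module.Finite B M := Module.Finite.trans C M
  have hmap : ∀ (J : Ideal B) (P : Submodule C M),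
      (J • P.restrictScalars B : Submodule B M) = (J.map f • P).restrictScalars B := fun J P =>
    (Ideal.smul_restrictScalars J P).symm
  obtain ⟨N₀, hN₀, hfg, n₀, hAR⟩ := h M (N.restrictScalars B)
  refine ⟨Submodule.span C (N₀ : Set M), Submodule.span_le.2 hN₀, ?_, n₀, fun m x hx => ?_⟩
  · obtain ⟨S, rfl⟩ := hfg
    exact ⟨S, (Submodule.span_span_of_tower B C (S : Set M)).symm⟩
  · have h1 : x ∈ K ^ (m + n₀) • (⊤ : Submodule B M) := by
      have h2 : x ∈ ((K ^ (m + n₀)).map f • (⊤ : Submodule C M)).restrictScalars B := by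
        rw [Ideal.map_pow]; exact hx.1
      rwa [← hmap, Submodule.restrictScalars_top] at h2
    have hle : N₀ ≤ (Submodule.span C (N₀ : Set M)).restrictScalars B := fun y hy => Submodule.subset_span hy
    have h4 : x ∈ K ^ m • N₀ := hAR m (Submodule.mem_inf.2 ⟨h1, hx.2⟩)
    have h3 : x ∈ K ^ m • (Submodule.span C (N₀ : Set M)).restrictScalars B :=
      Submodule.smul_mono (le_refl (K ^ m)) hle h4
    rw [hmap, Ideal.map_pow] at h3
    exact h3

variable {K : Ideal B} (h : HasAR K)
include h

/-- Completion preserves injectivity into finite modules. -/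
theorem HasAR.map_injective {M N : Type u} [AddCommGroup M] [Module B M] [AddCommGroup N] [Module B N]
    [Module.Finite B N] {f : M →ₗ[B] N} (hf : Function.Injective f) :
    Function.Injective (AdicCompletion.map K f) := by
  obtain ⟨N₀, hN₀, -, k, hk⟩ := h N (LinearMap.range f)
  rw [← LinearMap.ker_eq_bot, LinearMap.ker_eq_bot']
  intro x
  apply AdicCompletion.induction_on K M x (fun a ↦ ?_)
  intro hx
  refine AdicCompletion.mk_zero_of _ _ _ ⟨42, fun n _ ↦ ⟨n + k, by omega, n, by omega, ?_⟩⟩
  rw [← Submodule.comap_map_eq_of_injective hf (K ^ n • ⊤ : Submodule B M),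
    Submodule.map_smul'', Submodule.map_top]
  refine Submodule.smul_mono le_rfl hN₀ (hk n ⟨?_, ⟨a (n + k), rfl⟩⟩)
  simpa using congrArg (fun x ↦ x.val (n + k)) hx

/-- The kernel of a completed surjection is spanned by the kernel. -/
theorem HasAR.mem_span_of_map_eq_zero {M P : Type u} [AddCommGroup M] [Module B M] [Module.Finite B M]
    [AddCommGroup P] [Module B P] {π : M →ₗ[B] P} (hπ : Function.Surjective π)
    {x : AdicCompletion K M} (hx : AdicCompletion.map K π x = 0) :
    x ∈ Submodule.span (AdicCompletion K B) (AdicCompletion.of K M '' (LinearMap.ker π : Set M)) := by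
  classical
  obtain ⟨N₀, hN₀, hfg, n₀, hAR⟩ := h M (LinearMap.ker π)
  revert hx
  apply AdicCompletion.induction_on K M x (fun b ↦ ?_)
  intro hx
  have hb : ∀ n, ∃ c ∈ LinearMap.ker π, b n - c ∈ (K ^ n • ⊤ : Submodule B M) := fun n => by
    have h1 : π (b n) ∈ (K ^ n • ⊤ : Submodule B P) := by
      simpa using congrArg (fun x ↦ x.val n) hx
    rw [← LinearMap.range_eq_top.2 hπ, LinearMap.range_eq_map, ← Submodule.map_smul''] at h1
    obtain ⟨y, hy, hyb⟩ := h1
    exact ⟨b n - y, by simp [hyb], by simpa using hy⟩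
  choose c hcN hc using hb
  have hδ : ∀ k, c (k + n₀ + 1) - c (k + n₀) ∈ K ^ k • N₀ := fun k => by
    refine hAR k ⟨?_, sub_mem (hcN _) (hcN _)⟩
    rw [show c (k + n₀ + 1) - c (k + n₀) = (b (k + n₀) - c (k + n₀)) -
      (b (k + n₀ + 1) - c (k + n₀ + 1)) + (b (k + n₀ + 1) - b (k + n₀)) by abel]
    refine add_mem (sub_mem (hc _) (CompleteLib.pow_smul_top_anti (by omega) (hc _))) ?_
    exact (Submodule.Quotient.eq _).1 (AdicCompletion.AdicCauchySequence.mk_eq_mk (Nat.le_succ _) b)
  obtain ⟨s, g, hg⟩ := Submodule.fg_iff_exists_fin_generating_family.1 hfg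
  have hδ' : ∀ k, ∃ a : Fin s → B, (∀ i, a i ∈ K ^ k) ∧ ∑ i, a i • g i = c (k + n₀ + 1) - c (k + n₀) :=
    fun k => (CompleteLib.mem_smul_span_iff_exists _ g _).1 (by rw [hg]; exact hδ k)
  choose a haK hag using hδ'
  have hcs : ∀ i n, (∑ k ∈ Finset.range n, a k i) ≡ ∑ k ∈ Finset.range (n + 1), a k i
      [SMOD (K ^ n • ⊤ : Submodule B B)] := fun i n => by
    rw [SModEq.sub_mem, Finset.sum_range_succ, sub_add_cancel_left, smul_eq_mul, Ideal.mul_top]
    exact neg_mem (haK n i)
  let α : Fin s → AdicCompletion K B := fun i =>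
    AdicCompletion.mk K B (AdicCompletion.AdicCauchySequence.mk K B (fun n => ∑ k ∈ Finset.range n, a k i) (hcs i))
  have heq : AdicCompletion.mk K M b =
      AdicCompletion.of K M (c n₀) + ∑ i, α i • AdicCompletion.of K M (g i) := by
    refine AdicCompletion.ext fun j => ?_
    have hsum : ∑ i, (∑ k ∈ Finset.range j, a k i) • g i = c (j + n₀) - c n₀ := by
      simp only [Finset.sum_smul]
      rw [Finset.sum_comm, Finset.sum_congr rfl fun k _ => hag k]
      have := Finset.sum_range_sub (fun k => c (k + n₀)) j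
      simp only [zero_add] at this
      rw [← this]
      exact Finset.sum_congr rfl fun k _ => by rw [show k + n₀ + 1 = k + 1 + n₀ by omega]
    have hval : ∀ i, (α i • AdicCompletion.of K M (g i)).val j =
        Submodule.mkQ (K ^ j • ⊤ : Submodule B M) ((∑ k ∈ Finset.range j, a k i) • g i) := fun i => by
      simp [α, AdicCompletion.smul_eval]
      rw [← map_sum]
      rfl
    rw [AdicCompletion.val_add_apply, AdicCompletion.val_sum_apply, Finset.sum_congr rfl fun i _ => hval i]
    simp only [AdicCompletion.mk_apply_coe, AdicCompletion.of_apply]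
    rw [← map_sum, hsum]
    simp only [Submodule.mkQ_apply, ← Submodule.Quotient.mk_add, add_sub_cancel, Submodule.Quotient.eq]
    rw [show b j - c (j + n₀) = (b (j + n₀) - c (j + n₀)) - (b (j + n₀) - b j) by abel]
    refine sub_mem (CompleteLib.pow_smul_top_anti (by omega) (hc _)) ?_
    exact (Submodule.Quotient.eq _).1 (AdicCompletion.AdicCauchySequence.mk_eq_mk (show j ≤ j + n₀ by omega) b)
  rw [heq]
  refine add_mem (Submodule.subset_span ⟨_, hcN _, rfl⟩) (Submodule.sum_mem _ fun i _ =>
    Submodule.smul_mem _ _ (Submodule.subset_span ⟨_, ?_, rfl⟩))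
  exact hN₀ (hg ▸ Submodule.subset_span ⟨i, rfl⟩)

theorem HasAR.ofTensorProduct_bijective (M : Type u) [AddCommGroup M] [Module B M] [Module.Finite B M] :
    Function.Bijective (AdicCompletion.ofTensorProduct K M) := by
  refine ⟨?_, AdicCompletion.ofTensorProduct_surjective_of_finite K M⟩
  obtain ⟨r, π, hπ⟩ := Module.Finite.exists_fin' B M
  rw [injective_iff_map_eq_zero]
  intro z hz
  obtain ⟨w, rfl⟩ := LinearMap.lTensor_surjective (AdicCompletion K B) hπ z
  have h1 : AdicCompletion.map K π (AdicCompletion.ofTensorProduct K (Fin r → B) w) = 0 := by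
    rw [← LinearMap.comp_apply, AdicCompletion.ofTensorProduct_naturality]
    exact hz
  have h2 := h.mem_span_of_map_eq_zero hπ h1
  have h3 : Submodule.span (AdicCompletion K B)
      (AdicCompletion.of K (Fin r → B) '' (LinearMap.ker π : Set (Fin r → B))) ≤
      Submodule.map (AdicCompletion.ofTensorProduct K (Fin r → B))
        (LinearMap.ker (AlgebraTensorModule.map LinearMap.id π :
          AdicCompletion K B ⊗[B] (Fin r → B) →ₗ[AdicCompletion K B] AdicCompletion K B ⊗[B] M)) := by
    refine Submodule.span_le.2 ?_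
    rintro _ ⟨y, hy, rfl⟩
    refine ⟨1 ⊗ₜ y, ?_, by simp⟩
    rw [SetLike.mem_coe, LinearMap.mem_ker, AlgebraTensorModule.map_tmul, LinearMap.mem_ker.1 hy,
      TensorProduct.tmul_zero]
  obtain ⟨w', hw', hww⟩ := h3 h2
  rw [(AdicCompletion.ofTensorProduct_bijective_of_pi_of_fintype K (Fin r)).1 hww] at hw'
  exact hw'

theorem HasAR.flat_adicCompletion : Module.Flat B (AdicCompletion K B) := by
  refine Module.Flat.iff_lTensor_injective.2 fun J hJ => ?_
  have : Module.Finite B J := Module.Finite.iff_fg.2 hJ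
  have h1 : Function.Injective (AdicCompletion.ofTensorProduct K B ∘
      (AlgebraTensorModule.map LinearMap.id J.subtype :
        AdicCompletion K B ⊗[B] J →ₗ[AdicCompletion K B] AdicCompletion K B ⊗[B] B)) := by
    rw [← LinearMap.coe_comp, ← AdicCompletion.ofTensorProduct_naturality, LinearMap.coe_comp]
    exact (h.map_injective J.injective_subtype).comp (h.ofTensorProduct_bijective J).1
  exact Function.Injective.of_comp h1

theorem HasAR.isAdicComplete [IsAdicComplete K B] (M : Type u) [AddCommGroup M] [Module B M]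
    [Module.Finite B M] : IsAdicComplete K M := by
  let e : B ≃ₗ[B] AdicCompletion K B := AdicCompletion.ofLinearEquiv K B
  have h1 : Function.Bijective (AdicCompletion.of K M) := by
    have h2 : (AdicCompletion.of K M : M → AdicCompletion K M) = AdicCompletion.ofTensorProduct K M ∘
        ((TensorProduct.congr e (LinearEquiv.refl B M)) ∘ (TensorProduct.lid B M).symm) := by
      funext x
      simp only [Function.comp_apply, TensorProduct.lid_symm_apply, TensorProduct.congr_tmul,
        LinearEquiv.refl_apply, AdicCompletion.ofTensorProduct_tmul]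
      rw [show e 1 = (1 : AdicCompletion K B) from AdicCompletion.ext fun n => rfl, one_smul]
    rw [h2]
    exact (h.ofTensorProduct_bijective M).comp ((EquivLike.bijective _).comp (EquivLike.bijective _))
  exact AdicCompletion.of_bijective_iff.1 h1

omit h in
/-- The Artin–Rees property of algebras of finite type over a model over a valuation ring. -/
theorem hasAR_of_isModel {R : Type v} [CommRing R] [IsDomain R] [ValuationRing R] {t : R} {σ : Type}
    [Finite σ] {A : Type u} [CommRing A] [Algebra R A] [Algebra A B] [Algebra.FiniteType A B]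
    (hA : IsModel t σ A) (ht0 : t ≠ 0) (htm : t ∈ maximalIdeal R)
    (hrad : ∀ a ∈ maximalIdeal R, ∃ n : ℕ, t ∣ a ^ n) :
    HasAR (Ideal.span {algebraMap A B (algebraMap R A t)}) := fun M _ _ _ N => by
  let tB : B := algebraMap A B (algebraMap R A t)
  let Nsat : Submodule B M :=
    { carrier := {x | ∃ n : ℕ, tB ^ n • x ∈ N}
      zero_mem' := ⟨0, by simp⟩
      add_mem' := by
        rintro x y ⟨n, hn⟩ ⟨k, hk⟩
        refine ⟨n + k, ?_⟩
        rw [smul_add, pow_add, mul_smul, mul_smul, smul_comm (tB ^ n) (tB ^ k) x]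
        exact add_mem (N.smul_mem _ hn) (N.smul_mem _ hk)
      smul_mem' := by
        rintro b x ⟨n, hn⟩
        exact ⟨n, by rw [smul_comm]; exact N.smul_mem _ hn⟩ }
  have hfg : Nsat.FG := fg_saturated_module hA ht0 htm hrad Nsat fun x hx => by
    obtain ⟨n, hn⟩ := hx
    exact ⟨n + 1, by rwa [pow_succ, mul_smul]⟩
  obtain ⟨S, hS⟩ := hfg
  have hS' : ∀ g : S, ∃ n : ℕ, tB ^ n • (g : M) ∈ N := fun g => by
    have : (g : M) ∈ Nsat := hS ▸ Submodule.subset_span g.2
    exact this
  choose n hn using hS'
  let n₀ := Finset.univ.sup n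
  let μ : M →ₗ[B] M := LinearMap.lsmul B M (tB ^ n₀)
  refine ⟨Nsat.map μ, ?_, (show Nsat.FG from ⟨S, hS⟩).map μ, n₀, ?_⟩
  · rw [← hS, Submodule.map_span, Submodule.span_le]
    rintro _ ⟨g, hg, rfl⟩
    show tB ^ n₀ • g ∈ N
    obtain ⟨d, hd⟩ := Nat.exists_eq_add_of_le (Finset.le_sup (f := n) (Finset.mem_univ ⟨g, hg⟩))
    rw [show n₀ = n ⟨g, hg⟩ + d from hd, add_comm, pow_add, mul_smul]
    exact N.smul_mem _ (hn ⟨g, hg⟩)
  · intro m x hx
    obtain ⟨hx1, hxN⟩ := hx
    rw [SetLike.mem_coe, Ideal.span_singleton_pow, Submodule.ideal_span_singleton_smul] at hx1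
    obtain ⟨y, -, rfl⟩ := hx1
    change tB ^ (m + n₀) • y ∈ N at hxN
    have hy : y ∈ Nsat := ⟨m + n₀, hxN⟩
    show tB ^ (m + n₀) • y ∈ _
    rw [pow_add, mul_smul]
    exact Submodule.smul_mem_smul (Ideal.pow_mem_pow (Ideal.mem_span_singleton_self _) m)
      ⟨y, hy, rfl⟩

end AdicRingLib
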