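import Groth.Agent.CompleteLib.Noetherian
import Mathlib.RingTheory.AdicCompletion.Completeness
import Mathlib.RingTheory.AdicCompletion.Algebra

/-! The completion of a ring along a finitely generated ideal. -/

set_option autoImplicit false

universe u

namespace AdicRingLib

variable {C : Type u} [CommRing C] {K : Ideal C}

theorem isAdicComplete_map (hK : K.FG) :
    IsAdicComplete (K.map (algebraMap C (AdicCompletion K C))) (AdicCompletion K C) :=
  (IsAdicComplete.map_algebraMap_iff _ _).2 (AdicCompletion.isAdicComplete (M := C) hK)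

theorem mem_map_pow_iff (hK : K.FG) (n : ℕ) (x : AdicCompletion K C) :
    x ∈ (K ^ n).map (algebraMap C (AdicCompletion K C)) ↔ x.val n = 0 := by
  have h := AdicCompletion.pow_smul_top_eq_ker_eval (M := C) (n := n) hK
  rw [← Submodule.restrictScalars_mem C ((K ^ n).map (algebraMap C (AdicCompletion K C))),
    ← Ideal.smul_top_eq_map, h]
  rfl

theorem exists_sub_mem_map_pow (hK : K.FG) (n : ℕ) (x : AdicCompletion K C) :
    ∃ c : C, x - algebraMap C (AdicCompletion K C) c ∈ (K ^ n).map (algebraMap C (AdicCompletion K C)) := by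
  obtain ⟨c, hc⟩ := Submodule.mkQ_surjective _ (x.val n)
  exact ⟨c, (mem_map_pow_iff hK n _).2 (by
    rw [AdicCompletion.val_sub_apply, ← hc, sub_eq_zero]; rfl)⟩

theorem algebraMap_mem_map_pow_iff (hK : K.FG) (n : ℕ) (c : C) :
    algebraMap C (AdicCompletion K C) c ∈ (K ^ n).map (algebraMap C (AdicCompletion K C)) ↔ c ∈ K ^ n := by
  rw [mem_map_pow_iff hK]
  show Submodule.Quotient.mk c = 0 ↔ _
  rw [Submodule.Quotient.mk_eq_zero, smul_eq_mul, Ideal.mul_top]

/-- A non-zero-divisor stays one in the completion along the ideal it generates. -/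
theorem eq_zero_of_mul_eq_zero {c : C} (hreg : ∀ x : C, c * x = 0 → x = 0)
    (x : AdicCompletion (Ideal.span {c}) C) (hx : algebraMap C _ c * x = 0) : x = 0 := by
  have hK : (Ideal.span {c}).FG := Submodule.fg_span_singleton c
  refine AdicCompletion.ext fun n => ?_
  obtain ⟨d, hd⟩ := exists_sub_mem_map_pow hK (n + 1) x
  have h : c * d ∈ Ideal.span {c} ^ (n + 1) := by
    rw [← algebraMap_mem_map_pow_iff hK, map_mul,
      show algebraMap C (AdicCompletion (Ideal.span {c}) C) c * algebraMap C _ d =
        algebraMap C _ c * x - algebraMap C _ c * (x - algebraMap C _ d) by ring, hx]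
    exact sub_mem (zero_mem _) (Ideal.mul_mem_left _ _ hd)
  rw [Ideal.span_singleton_pow, Ideal.mem_span_singleton'] at h
  obtain ⟨y, hy⟩ := h
  have hd' : d ∈ Ideal.span {c} ^ n := by
    rw [show d = y * c ^ n from sub_eq_zero.1 (hreg _ (by rw [mul_sub, ← hy, pow_succ]; ring))]
    exact Ideal.mul_mem_left _ _ (Ideal.pow_mem_pow (Ideal.mem_span_singleton_self c) n)
  rw [AdicCompletion.val_zero_apply, ← mem_map_pow_iff hK]
  rw [show x = (x - algebraMap C _ d) + algebraMap C _ d by ring]
  exact add_mem (Ideal.map_mono (Ideal.pow_le_pow_right (Nat.le_succ n)) hd) (Ideal.mem_map_of_mem _ hd')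

theorem isNoetherianRing_adicCompletion [IsNoetherianRing C] (K : Ideal C) :
    IsNoetherianRing (AdicCompletion K C) := by
  have hK : K.FG := IsNoetherian.noetherian K
  have := isAdicComplete_map hK
  let J := K.map (algebraMap C (AdicCompletion K C))
  have hsur : Function.Surjective ((Ideal.Quotient.mk J).comp (algebraMap C _)) := fun y => by
    obtain ⟨x, rfl⟩ := Ideal.Quotient.mk_surjective y
    obtain ⟨c, hc⟩ := exists_sub_mem_map_pow hK 1 x
    rw [pow_one] at hc
    exact ⟨c, (Ideal.Quotient.eq.2 hc).symm⟩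
  have : IsNoetherianRing (AdicCompletion K C ⧸ J) := isNoetherianRing_of_surjective _ _ _ hsur
  exact CompleteLib.isNoetherianRing_of_isAdicComplete J (hK.map _)

end AdicRingLib
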