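import Groth.Agent.AdicRingLib.AR
import Groth.Agent.AdicRingLib.Completion
import Groth.Prelude.Def_W4bk4boschfrg79
import Mathlib.RingTheory.KrullDimension.Basic

/-! The two classes of base rings and algebras topologically of finite type over them. -/

set_option autoImplicit false

universe u

open MvPolynomial IsLocalRing

namespace AdicRingLib

variable {R : Type u} [CommRing R] {I : Ideal R}

theorem fg_of_isBase (hR : AdicRing.IsBase R I) : I.FG := by
  rcases hR.2 with ⟨hN, -⟩ | ⟨-, -, -, t, -, rfl⟩
  exacts [IsNoetherian.noetherian I, Submodule.fg_span_singleton t]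

theorem C_fg (hR : AdicRing.IsBase R I) (n : ℕ) :
    (I.map (MvPolynomial.C : R →+* MvPolynomial (Fin n) R)).FG :=
  (fg_of_isBase hR).map _

theorem algebraMap_rPow (n : ℕ) (r : R) :
    algebraMap R (AdicRing.RPow R I n) r =
      algebraMap (MvPolynomial (Fin n) R) (AdicRing.RPow R I n) (MvPolynomial.C r) :=
  IsScalarTower.algebraMap_apply R (MvPolynomial (Fin n) R) (AdicRing.RPow R I n) r

theorem map_rPow (n : ℕ) :
    I.map (algebraMap R (AdicRing.RPow R I n)) =
      (I.map (MvPolynomial.C : R →+* MvPolynomial (Fin n) R)).map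
        (algebraMap (MvPolynomial (Fin n) R) (AdicRing.RPow R I n)) := by
  rw [Ideal.map_map]
  exact congrArg (fun f => Ideal.map f I) (RingHom.ext (algebraMap_rPow n))

theorem isAdicComplete_rPow (hR : AdicRing.IsBase R I) (n : ℕ) :
    IsAdicComplete (I.map (algebraMap R (AdicRing.RPow R I n))) (AdicRing.RPow R I n) := by
  rw [map_rPow]
  exact isAdicComplete_map (C_fg hR n)

/-- The two cases. -/
theorem cases_isBase (hR : AdicRing.IsBase R I) :
    (IsNoetherianRing R ∧ AdicRing.NoPowTorsion I R) ∨
      (∃ (_ : IsDomain R) (_ : ValuationRing R) (t : R), t ≠ 0 ∧ I = Ideal.span {t} ∧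
        t ∈ maximalIdeal R ∧ ∀ a ∈ maximalIdeal R, ∃ n : ℕ, t ∣ a ^ n) := by
  rcases hR.2 with h | ⟨hd, hv, hk, t, ht0, rfl⟩
  · exact Or.inl h
  refine Or.inr ?_
  have := hR.1
  have hval : ValuationRing R := ⟨⟩
  have htu : ¬ IsUnit t := fun hu => by
    have hh : IsHausdorff (Ideal.span {t}) R := inferInstance
    rw [Ideal.span_singleton_eq_top.2 hu] at hh
    exact one_ne_zero (hh.haus 1 fun n => by
      rw [Ideal.top_pow, Submodule.top_smul]; exact SModEq.sub_mem.2 trivial)
  refine ⟨hd, hval, t, ht0, rfl, htu, fun a ha => ?_⟩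
  have hrad : a ∈ (Ideal.span {t}).radical := by
    rw [Ideal.radical_eq_sInf, Submodule.mem_sInf]
    rintro P ⟨hP, hPp⟩
    have hne : P ≠ ⊥ := fun h => ht0 (by
      have h1 : t ∈ P := hP (Ideal.mem_span_singleton_self t)
      rwa [h, Ideal.mem_bot] at h1)
    rw [IsLocalRing.eq_maximalIdeal (Ideal.isMaximal_of_isPrime_of_ne_bot P hne)]
    exact ha
  obtain ⟨n, hn⟩ := hrad
  exact ⟨n, Ideal.mem_span_singleton.1 hn⟩

theorem isModel_rPow [IsDomain R] {t : R} (ht0 : t ≠ 0) (n : ℕ)
    (hR : AdicRing.IsBase R (Ideal.span {t})) :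
    IsModel t (Fin n) (AdicRing.RPow R (Ideal.span {t}) n) := by
  let P := MvPolynomial (Fin n) R
  let K : Ideal P := (Ideal.span {t}).map MvPolynomial.C
  have hK : K = Ideal.span {C t} := by
    show Ideal.map _ _ = _
    rw [Ideal.map_span, Set.image_singleton]
  have hT : Ideal.span {algebraMap R (AdicRing.RPow R (Ideal.span {t}) n) t} =
      (K ^ 1).map (algebraMap P (AdicRing.RPow R (Ideal.span {t}) n)) := by
    rw [pow_one]
    exact (((Ideal.map_span (algebraMap R (AdicRing.RPow R (Ideal.span {t}) n)) {t}).trans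
      (congrArg Ideal.span Set.image_singleton)).symm).trans (map_rPow n)
  refine ⟨?_, fun x hx => ?_, IsScalarTower.toAlgHom R P _, fun a => ?_, fun p hp => ?_⟩
  · rw [hT, pow_one]; exact isAdicComplete_map (C_fg hR n)
  · rw [algebraMap_rPow] at hx
    have key : ∀ (K' : Ideal P), K' = Ideal.span {C t} → ∀ x : AdicCompletion K' P,
        algebraMap P (AdicCompletion K' P) (C t) * x = 0 → x = 0 := by
      rintro _ rfl x hx
      exact eq_zero_of_mul_eq_zero (fun y hy => (mul_eq_zero.1 hy).resolve_left
        fun h => ht0 (C_injective _ _ (h.trans (map_zero _).symm))) x hx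
    exact key K hK x hx
  · rw [hT]; exact exists_sub_mem_map_pow (C_fg hR n) 1 a
  · rw [hT] at hp
    have := (algebraMap_mem_map_pow_iff (C_fg hR n) 1 p).1 hp
    rwa [pow_one, show (Ideal.span {t}).map (MvPolynomial.C : R →+* P) = Ideal.span {C t} from hK,
      Ideal.mem_span_singleton] at this

theorem isNoetherianRing_rPow [IsNoetherianRing R] (n : ℕ) : IsNoetherianRing (AdicRing.RPow R I n) :=
  isNoetherianRing_adicCompletion _

variable {A : Type u} [CommRing A] [Algebra R A]

theorem exists_presentation (hA : AdicRing.TopFiniteType R I A) :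
    ∃ (n : ℕ) (_ : Algebra (AdicRing.RPow R I n) A), IsScalarTower R (AdicRing.RPow R I n) A ∧
      Function.Surjective (algebraMap (AdicRing.RPow R I n) A) := by
  obtain ⟨n, φ, hφ⟩ := hA
  let _ : Algebra (AdicRing.RPow R I n) A := φ.toAlgebra
  exact ⟨n, φ.toAlgebra, IsScalarTower.of_algebraMap_eq fun r => (φ.commutes r).symm, hφ⟩

theorem isNoetherianRing_of_topFiniteType [IsNoetherianRing R] (hA : AdicRing.TopFiniteType R I A) :
    IsNoetherianRing A := by
  obtain ⟨n, φ, hφ⟩ := hA
  have := isNoetherianRing_rPow (R := R) (I := I) n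
  exact isNoetherianRing_of_surjective _ _ φ.toRingHom hφ

/-- Artin–Rees for algebras of finite type over an algebra topologically of finite type. -/
theorem hasAR_finiteType (hR : AdicRing.IsBase R I) (hA : AdicRing.TopFiniteType R I A)
    (B : Type u) [CommRing B] [Algebra R B] [Algebra A B] [IsScalarTower R A B] [Algebra.FiniteType A B] :
    HasAR (I.map (algebraMap R B)) := by
  rcases cases_isBase hR with ⟨hN, -⟩ | ⟨hd, hv, t, ht0, rfl, htm, hrad⟩
  · have := isNoetherianRing_of_topFiniteType hA
    have := Algebra.FiniteType.isNoetherianRing A B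
    exact hasAR_of_isNoetherianRing _
  · obtain ⟨n, _, _, hsur⟩ := exists_presentation hA
    let S := AdicRing.RPow R (Ideal.span {t}) n
    let _ : Algebra S B := ((algebraMap A B).comp (algebraMap S A)).toAlgebra
    have : IsScalarTower S A B := IsScalarTower.of_algebraMap_eq fun _ => rfl
    have : Module.Finite S A := Module.Finite.of_surjective (Algebra.linearMap S A) hsur
    have : Algebra.FiniteType S B :=
      Algebra.FiniteType.trans (S := A) (inferInstance : Algebra.FiniteType S A) inferInstance
    have h := hasAR_of_isModel (B := B) (isModel_rPow ht0 n hR) ht0 htm hrad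
    rw [Ideal.map_span, Set.image_singleton,
      show algebraMap R B t = algebraMap S B (algebraMap R S t) by
        rw [IsScalarTower.algebraMap_apply R A B, IsScalarTower.algebraMap_apply R S A]; rfl]
    exact h

theorem hasAR_topFiniteType (hR : AdicRing.IsBase R I) (hA : AdicRing.TopFiniteType R I A) :
    HasAR (I.map (algebraMap R A)) := hasAR_finiteType hR hA A

theorem isAdicComplete_topFiniteType (hR : AdicRing.IsBase R I) (hA : AdicRing.TopFiniteType R I A) :
    IsAdicComplete (I.map (algebraMap R A)) A := by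
  obtain ⟨n, _, _, hsur⟩ := exists_presentation hA
  let S := AdicRing.RPow R I n
  have : Module.Finite S A := Module.Finite.of_surjective (Algebra.linearMap S A) hsur
  have hS : AdicRing.TopFiniteType R I S := ⟨n, AlgHom.id R S, Function.surjective_id⟩
  have := isAdicComplete_rPow hR n
  have h := (hasAR_topFiniteType hR hS).isAdicComplete A
  rw [IsAdicComplete.map_algebraMap_iff _ _] at h
  exact (IsAdicComplete.map_algebraMap_iff _ _).2 h

/-- Finite modules over algebras topologically of finite type are complete. -/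
theorem isAdicComplete_finite (hR : AdicRing.IsBase R I) (hA : AdicRing.TopFiniteType R I A)
    (M : Type u) [AddCommGroup M] [Module A M] [Module R M] [IsScalarTower R A M] [Module.Finite A M] :
    IsAdicComplete I M := by
  have := isAdicComplete_topFiniteType hR hA
  exact (IsAdicComplete.map_algebraMap_iff _ _).1 ((hasAR_topFiniteType hR hA).isAdicComplete M)

theorem torsion_le {M : Type u} [AddCommGroup M] [Module A M] [Module R M] [IsScalarTower R A M]
    (N : Submodule A M) (a : R) (x : M) : a • x ∈ N ↔ algebraMap R A a • x ∈ N := by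
  rw [algebraMap_smul]

/-- Saturated submodules are finitely generated. -/
theorem fg_of_saturated (hR : AdicRing.IsBase R I) (hA : AdicRing.TopFiniteType R I A)
    (B : Type u) [CommRing B] [Algebra R B] [Algebra A B] [IsScalarTower R A B] [Algebra.FiniteType A B]
    (M : Type u) [AddCommGroup M] [Module B M] [Module R M] [IsScalarTower R B M] [Module.Finite B M]
    (N : Submodule B M)
    (hsat : ∀ (x : M) (n : ℕ), (∀ a ∈ I ^ n, a • x ∈ N) → x ∈ N) : N.FG := by
  rcases cases_isBase hR with ⟨hN, -⟩ | ⟨hd, hv, t, ht0, rfl, htm, hrad⟩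
  · have := isNoetherianRing_of_topFiniteType hA
    have := Algebra.FiniteType.isNoetherianRing A B
    exact IsNoetherian.noetherian N
  · obtain ⟨n, _, _, hsur⟩ := exists_presentation hA
    let S := AdicRing.RPow R (Ideal.span {t}) n
    let _ : Algebra S B := ((algebraMap A B).comp (algebraMap S A)).toAlgebra
    have : IsScalarTower S A B := IsScalarTower.of_algebraMap_eq fun _ => rfl
    have : Module.Finite S A := Module.Finite.of_surjective (Algebra.linearMap S A) hsur
    have : Algebra.FiniteType S B :=
      Algebra.FiniteType.trans (S := A) (inferInstance : Algebra.FiniteType S A) inferInstance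
    refine fg_saturated_module (isModel_rPow ht0 n hR) ht0 htm hrad N fun x hx => hsat x 1 fun a ha => ?_
    rw [pow_one, Ideal.mem_span_singleton'] at ha
    obtain ⟨c, rfl⟩ := ha
    rw [← algebraMap_smul B (c * t) x, map_mul, mul_smul]
    refine N.smul_mem _ ?_
    rwa [IsScalarTower.algebraMap_apply R A B, IsScalarTower.algebraMap_apply R S A]

end AdicRingLib
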