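import Groth.Agent.AdicRingLib.Completion
import Groth.Agent.CompleteLib.CompletionHom
import Groth.Agent.FlatCrit.Quotient
import Mathlib.RingTheory.AdicCompletion.AsTensorProduct
import Mathlib.RingTheory.Flat.Localization
import Mathlib.RingTheory.Localization.Away.Basic
import Mathlib.RingTheory.FiniteType

/-! Completed principal localisations. -/

set_option autoImplicit false

universe u

namespace AdicRingLib

variable {A : Type u} [CommRing A]

/-- The completed principal localisation. -/
abbrev CL (J : Ideal A) (f : A) : Type u :=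
  AdicCompletion (J.map (algebraMap A (Localization.Away f))) (Localization.Away f)

namespace CL

variable (J : Ideal A) (f : A)

theorem map_algebraMap : J.map (algebraMap A (CL J f)) =
    (J.map (algebraMap A (Localization.Away f))).map (algebraMap (Localization.Away f) (CL J f)) := by
  rw [Ideal.map_map, ← IsScalarTower.algebraMap_eq]

theorem fg (hJ : J.FG) : (J.map (algebraMap A (Localization.Away f))).FG := Ideal.FG.map hJ _

theorem isAdicComplete (hJ : J.FG) : IsAdicComplete (J.map (algebraMap A (CL J f))) (CL J f) := by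
  rw [map_algebraMap]
  exact isAdicComplete_map (fg J f hJ)

theorem isNoetherianRing [IsNoetherianRing A] : IsNoetherianRing (CL J f) := by
  have : IsNoetherianRing (Localization.Away f) :=
    IsLocalization.isNoetherianRing (Submonoid.powers f) _ inferInstance
  exact isNoetherianRing_adicCompletion _

theorem flat [IsNoetherianRing A] : (algebraMap A (CL J f)).Flat := by
  have : IsNoetherianRing (Localization.Away f) :=
    IsLocalization.isNoetherianRing (Submonoid.powers f) _ inferInstance
  have h1 : (algebraMap A (Localization.Away f)).Flat :=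
    RingHom.flat_algebraMap_iff.2 (IsLocalization.flat _ (Submonoid.powers f))
  have h2 : (algebraMap (Localization.Away f) (CL J f)).Flat := RingHom.flat_algebraMap_iff.2 inferInstance
  have h3 := h1.comp h2
  rwa [← IsScalarTower.algebraMap_eq] at h3

theorem isUnit : IsUnit (algebraMap A (CL J f) f) := by
  rw [IsScalarTower.algebraMap_apply A (Localization.Away f) (CL J f)]
  exact (IsLocalization.Away.algebraMap_isUnit f).map _

variable {R : Type u} [CommRing R] {K : Ideal R}

theorem exists_hom [IsAdicComplete K R] (h : A →+* R) (hK : J.map h ≤ K) (hu : IsUnit (h f)) :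
    ∃ φ : CL J f →+* R, ∀ a, φ (algebraMap A _ a) = h a := by
  let θ : Localization.Away f →+* R := IsLocalization.Away.lift f hu
  have hθ : ∀ a, θ (algebraMap A _ a) = h a := fun a => IsLocalization.Away.lift_eq f hu a
  refine ⟨CompleteLib.completionLift _ K θ ?_, fun a => ?_⟩
  · rwa [Ideal.map_map, show θ.comp (algebraMap A _) = h from RingHom.ext hθ]
  · rw [IsScalarTower.algebraMap_apply A (Localization.Away f) (CL J f),
      CompleteLib.completionLift_algebraMap]
    exact hθ a

theorem loc_ext (θ₁ θ₂ : Localization.Away f →+* R)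
    (h : ∀ a, θ₁ (algebraMap A _ a) = θ₂ (algebraMap A _ a)) : θ₁ = θ₂ :=
  IsLocalization.ringHom_ext (Submonoid.powers f) (RingHom.ext h)

theorem hom_ext [IsHausdorff K R] (hJ : J.FG) (φ₁ φ₂ : CL J f →+* R)
    (hcont : J.map (φ₁.comp (algebraMap A (CL J f))) ≤ K)
    (h : ∀ a, φ₁ (algebraMap A _ a) = φ₂ (algebraMap A _ a)) : φ₁ = φ₂ := by
  refine CompleteLib.completion_hom_ext (J := K) _ (fg J f hJ) φ₁ φ₂ ?_ fun c => ?_
  · rwa [Ideal.map_map, RingHom.comp_assoc, ← IsScalarTower.algebraMap_eq]
  · refine RingHom.congr_fun (loc_ext f (φ₁.comp (algebraMap (Localization.Away f) (CL J f)))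
      (φ₂.comp (algebraMap (Localization.Away f) (CL J f))) fun a => ?_) c
    rw [RingHom.comp_apply, RingHom.comp_apply, ← IsScalarTower.algebraMap_apply]
    exact h a

/-- A map out of a completed localisation is flat as soon as its restriction to `A` is. -/
theorem flat_of_flat_comp [IsNoetherianRing A] [IsNoetherianRing R] (ψ : CL J f →+* R)
    (hjac : (J.map (algebraMap A (CL J f))).map ψ ≤ Ideal.jacobson ⊥)
    (h : (ψ.comp (algebraMap A (CL J f))).Flat) : ψ.Flat := by
  have := isNoetherianRing J f
  have hfg : (J.map (algebraMap A (Localization.Away f))).FG := IsNoetherian.noetherian J |> (Ideal.FG.map · _)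
  let L := Localization.Away f
  let := (ψ.comp (algebraMap A (CL J f))).toAlgebra
  let := (ψ.comp (algebraMap L (CL J f))).toAlgebra
  let := ψ.toAlgebra
  have : IsScalarTower A L R := IsScalarTower.of_algebraMap_eq fun a => by
    show ψ _ = ψ _
    rw [← IsScalarTower.algebraMap_apply]
  have : IsScalarTower L (CL J f) R := IsScalarTower.of_algebraMap_eq fun a => rfl
  have hAR : Module.Flat A R := h
  have : Module.Flat L R := (Module.flat_iff_of_isLocalization L (Submonoid.powers f) R).2 hAR
  refine FlatCrit.flat_of_flat_quotientMap (R := CL J f) (S := R) (J.map (algebraMap A (CL J f))) hjac fun n => ?_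
  let K₀ := (J.map (algebraMap A L)) ^ n
  let Kc := (J.map (algebraMap A (CL J f))) ^ n
  have hKc : Kc = K₀.map (algebraMap L (CL J f)) := by
    show _ = ((J.map (algebraMap A L)) ^ n).map _
    rw [Ideal.map_pow, ← map_algebraMap]
  have hKR : Kc.map (algebraMap (CL J f) R) = K₀.map (algebraMap L R) := by
    rw [hKc, Ideal.map_map, ← IsScalarTower.algebraMap_eq]
  let i : (L ⧸ K₀) →+* (CL J f ⧸ Kc) := Ideal.quotientMap Kc (algebraMap L (CL J f))
    (hKc ▸ Ideal.le_comap_map)
  have hi : Function.Bijective i := by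
    refine ⟨Ideal.quotientMap_injective' ?_, fun y => ?_⟩
    · intro c hc
      have hc' : algebraMap L (CL J f) c ∈ K₀.map (algebraMap L (CL J f)) := hKc ▸ hc
      exact (algebraMap_mem_map_pow_iff hfg n c).1 hc'
    · obtain ⟨x, rfl⟩ := Ideal.Quotient.mk_surjective y
      obtain ⟨c, hc⟩ := exists_sub_mem_map_pow hfg n x
      exact ⟨Ideal.Quotient.mk _ c, (Ideal.Quotient.eq.2 (hKc ▸ hc)).symm⟩
  let e := RingEquiv.ofBijective i hi
  have h1 := FlatCrit.flat_quotientMap (R := L) (S := R) K₀
  let j : (R ⧸ K₀.map (algebraMap L R)) →+* (R ⧸ Kc.map (algebraMap (CL J f) R)) :=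
    (Ideal.quotEquivOfEq hKR.symm).toRingHom
  have h2 := ((RingHom.Flat.of_bijective (f := e.symm.toRingHom) e.symm.bijective).comp h1).comp
    (RingHom.Flat.of_bijective (f := j) (Ideal.quotEquivOfEq hKR.symm).bijective)
  refine (congrArg RingHom.Flat ?_).mp h2
  ext y
  obtain ⟨c, hc⟩ := e.surjective (Ideal.Quotient.mk Kc y)
  show j (Ideal.quotientMap (K₀.map (algebraMap L R)) (algebraMap L R) Ideal.le_comap_map
      (e.symm (Ideal.Quotient.mk Kc y))) =
    Ideal.quotientMap (Kc.map (algebraMap (CL J f) R)) (algebraMap (CL J f) R) Ideal.le_comap_map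
      (Ideal.Quotient.mk Kc y)
  rw [← hc, e.symm_apply_apply]
  obtain ⟨c, rfl⟩ := Ideal.Quotient.mk_surjective c
  rfl

/-- Truncations of completed localisations stay of finite type. -/
theorem finiteType_quotient (hJ : J.FG) {A₀ : Type u} [CommRing A₀] [Algebra A₀ A]
    (hft : Algebra.FiniteType A₀ (A ⧸ J)) : Algebra.FiniteType A₀ (CL J f ⧸ J.map (algebraMap A (CL J f))) := by
  classical
  let Q := CL J f ⧸ J.map (algebraMap A (CL J f))
  let π : (A ⧸ J) →ₐ[A₀] Q := Ideal.Quotient.liftₐ J
    ((Ideal.Quotient.mkₐ A₀ _).comp (IsScalarTower.toAlgHom A₀ A (CL J f)))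
    fun a ha => Ideal.Quotient.eq_zero_iff_mem.2 (Ideal.mem_map_of_mem _ ha)
  obtain ⟨v, hv⟩ := (isUnit J f).exists_left_inv
  let Φ : Polynomial (A ⧸ J) →ₐ[A₀] Q := Polynomial.aevalTower π (Ideal.Quotient.mk _ v)
  refine Algebra.FiniteType.of_surjective Φ fun y => ?_
  obtain ⟨x, rfl⟩ := Ideal.Quotient.mk_surjective y
  obtain ⟨c, hc⟩ := exists_sub_mem_map_pow (fg J f hJ) 1 x
  rw [pow_one, ← map_algebraMap] at hc
  obtain ⟨⟨a, s⟩, rfl⟩ := IsLocalization.mk'_surjective (Submonoid.powers f) c
  obtain ⟨k, hk⟩ := s.2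
  refine ⟨Polynomial.C (Ideal.Quotient.mk J a) * Polynomial.X ^ k, ?_⟩
  show Polynomial.eval₂ _ _ _ = _
  rw [Polynomial.eval₂_mul, Polynomial.eval₂_C, Polynomial.eval₂_X_pow, ← map_pow]
  show Ideal.Quotient.mk _ (algebraMap A (CL J f) a) * _ = _
  rw [← map_mul, Ideal.Quotient.eq.2 hc]
  congr 1
  refine ((((isUnit J f).pow k).mul_left_inj).1 ?_)
  rw [mul_assoc, ← mul_pow, hv, one_pow, mul_one, ← map_pow]
  refine (IsScalarTower.algebraMap_apply A (Localization.Away f) (CL J f) a).trans ?_
  rw [IsScalarTower.algebraMap_apply A (Localization.Away f) (CL J f) (f ^ k)]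
  refine Eq.trans ?_ (map_mul (algebraMap (Localization.Away f) (CL J f)) _ _)
  refine congrArg _ ?_
  rw [show f ^ k = (s : A) from hk]
  exact (IsLocalization.mk'_spec _ a s).symm

end CL

end AdicRingLib
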