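import Groth.Agent.AdicRingLib.CompLoc
import Groth.Agent.CompleteLib.Noetherian
import Mathlib.RingTheory.FiniteType
import Mathlib.RingTheory.FiniteStability
import Mathlib.RingTheory.TensorProduct.Maps

/-! Completed tensor products. -/

set_option autoImplicit false

universe u

open TensorProduct

namespace AdicRingLib

variable {A : Type u} [CommRing A] (I : Ideal A) (B C : Type u) [CommRing B] [CommRing C] [Algebra A B] [Algebra A C]

/-- The completed tensor product. -/
abbrev CT : Type u := AdicCompletion ((I.map (algebraMap A C)).map (algebraMap C (C ⊗[A] B))) (C ⊗[A] B)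

namespace CT

/-- The canonical map from the second factor. -/
noncomputable def inr : B →+* CT I B C :=
  (algebraMap (C ⊗[A] B) (CT I B C)).comp (Algebra.TensorProduct.includeRight : B →ₐ[A] C ⊗[A] B).toRingHom

theorem inr_algebraMap (a : A) : inr I B C (algebraMap A B a) = algebraMap A (CT I B C) a := by
  refine (congrArg (algebraMap (C ⊗[A] B) (CT I B C))
    (AlgHom.commutes (Algebra.TensorProduct.includeRight : B →ₐ[A] C ⊗[A] B) a)).trans ?_
  exact (IsScalarTower.algebraMap_apply A (C ⊗[A] B) (CT I B C) a).symm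

theorem map_eq : (I.map (algebraMap A C)).map (algebraMap C (CT I B C)) =
    ((I.map (algebraMap A C)).map (algebraMap C (C ⊗[A] B))).map (algebraMap (C ⊗[A] B) (CT I B C)) :=
  (congrArg (fun h => (I.map (algebraMap A C)).map h) (IsScalarTower.algebraMap_eq C (C ⊗[A] B) (CT I B C))).trans
    (Ideal.map_map _ _).symm

theorem fg (hI : I.FG) : ((I.map (algebraMap A C)).map (algebraMap C (C ⊗[A] B))).FG :=
  (Ideal.FG.map hI _).map _

theorem isAdicComplete (hI : I.FG) :
    IsAdicComplete ((I.map (algebraMap A C)).map (algebraMap C (CT I B C))) (CT I B C) := by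
  rw [map_eq]
  exact isAdicComplete_map (fg I B C hI)

theorem finiteType (hI : I.FG) (hB : Algebra.FiniteType A (B ⧸ I.map (algebraMap A B)))
    (hC : Algebra.FiniteType A (C ⧸ I.map (algebraMap A C))) :
    Algebra.FiniteType A (CT I B C ⧸ (I.map (algebraMap A C)).map (algebraMap C (CT I B C))) := by
  let KD := (I.map (algebraMap A C)).map (algebraMap C (CT I B C))
  let c : (C ⧸ I.map (algebraMap A C)) →ₐ[A] CT I B C ⧸ KD := Ideal.Quotient.liftₐ _
    ((Ideal.Quotient.mkₐ A KD).comp (IsScalarTower.toAlgHom A C (CT I B C)))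
    fun x hx => Ideal.Quotient.eq_zero_iff_mem.2 (Ideal.mem_map_of_mem _ hx)
  let br : B →ₐ[A] CT I B C := { toRingHom := inr I B C, commutes' := inr_algebraMap I B C }
  have hbr : I.map (algebraMap A B) ≤ RingHom.ker ((Ideal.Quotient.mkₐ A KD).comp br) :=
    Ideal.map_le_iff_le_comap.2 fun a ha => by
      show Ideal.Quotient.mk KD (inr I B C (algebraMap A B a)) = 0
      rw [inr_algebraMap, IsScalarTower.algebraMap_apply A C (CT I B C), Ideal.Quotient.eq_zero_iff_mem]
      exact Ideal.mem_map_of_mem _ (Ideal.mem_map_of_mem _ ha)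
  let b : (B ⧸ I.map (algebraMap A B)) →ₐ[A] CT I B C ⧸ KD := Ideal.Quotient.liftₐ _
    ((Ideal.Quotient.mkₐ A KD).comp br) fun x hx => hbr hx
  have : Algebra.FiniteType A ((C ⧸ I.map (algebraMap A C)) ⊗[A] (B ⧸ I.map (algebraMap A B))) :=
    hC.trans inferInstance
  refine Algebra.FiniteType.of_surjective (Algebra.TensorProduct.productMap c b) fun y => ?_
  obtain ⟨x, rfl⟩ := Ideal.Quotient.mk_surjective y
  obtain ⟨t, ht⟩ := exists_sub_mem_map_pow (fg I B C hI) 1 x
  rw [pow_one, ← map_eq] at ht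
  rw [Ideal.Quotient.eq.2 ht]
  clear ht
  induction t using TensorProduct.induction_on with
  | zero => exact ⟨0, by rw [map_zero, map_zero, map_zero]⟩
  | add u v hu hv =>
    obtain ⟨u', hu⟩ := hu
    obtain ⟨v', hv⟩ := hv
    exact ⟨u' + v', by rw [map_add, map_add, map_add, hu, hv]⟩
  | tmul p q =>
    refine ⟨Ideal.Quotient.mk _ p ⊗ₜ Ideal.Quotient.mk _ q, ?_⟩
    rw [Algebra.TensorProduct.productMap_apply_tmul]
    show Ideal.Quotient.mk KD (algebraMap C (CT I B C) p) * Ideal.Quotient.mk KD (inr I B C q) = _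
    rw [← map_mul, IsScalarTower.algebraMap_apply C (C ⊗[A] B) (CT I B C) p]
    refine congrArg _ ?_
    refine (map_mul (algebraMap (C ⊗[A] B) (CT I B C)) _ _).symm.trans (congrArg _ ?_)
    show (p ⊗ₜ[A] (1 : B)) * (1 ⊗ₜ q) = p ⊗ₜ q
    rw [Algebra.TensorProduct.tmul_mul_tmul, mul_one, one_mul]

theorem isNoetherianRing [IsNoetherianRing A] (hB : Algebra.FiniteType A (B ⧸ I.map (algebraMap A B)))
    (hC : Algebra.FiniteType A (C ⧸ I.map (algebraMap A C))) : IsNoetherianRing (CT I B C) := by
  have hI : I.FG := IsNoetherian.noetherian I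
  have := isAdicComplete I B C hI
  have := finiteType I B C hI hB hC
  have := Algebra.FiniteType.isNoetherianRing A (CT I B C ⧸ (I.map (algebraMap A C)).map (algebraMap C (CT I B C)))
  exact CompleteLib.isNoetherianRing_of_isAdicComplete ((I.map (algebraMap A C)).map (algebraMap C (CT I B C)))
    ((Ideal.FG.map hI _).map (algebraMap C (CT I B C)))

variable {W : Type u} [CommRing W] {K : Ideal W}

theorem exists_hom [IsAdicComplete K W] (c : C →+* W) (b : B →+* W)
    (hcb : ∀ a, c (algebraMap A C a) = b (algebraMap A B a)) (hK : (I.map (algebraMap A C)).map c ≤ K) :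
    ∃ θ : CT I B C →+* W, (∀ x, θ (algebraMap C (CT I B C) x) = c x) ∧ ∀ y, θ (inr I B C y) = b y := by
  let := (c.comp (algebraMap A C)).toAlgebra
  let c' : C →ₐ[A] W := { toRingHom := c, commutes' := fun a => rfl }
  let b' : B →ₐ[A] W := { toRingHom := b, commutes' := fun a => (hcb a).symm }
  let θ₀ : C ⊗[A] B →+* W := (Algebra.TensorProduct.productMap c' b').toRingHom
  have hθ₀c : θ₀.comp (algebraMap C (C ⊗[A] B)) = c := RingHom.ext fun x => by
    show Algebra.TensorProduct.productMap c' b' (x ⊗ₜ 1) = _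
    rw [Algebra.TensorProduct.productMap_apply_tmul, map_one, mul_one]; rfl
  refine ⟨CompleteLib.completionLift _ K θ₀ (by rw [Ideal.map_map, hθ₀c]; exact hK), fun x => ?_, fun y => ?_⟩
  · exact (congrArg _ (IsScalarTower.algebraMap_apply C (C ⊗[A] B) (CT I B C) x)).trans
      ((CompleteLib.completionLift_algebraMap _ _ _ _ _).trans (RingHom.congr_fun hθ₀c x))
  · refine (CompleteLib.completionLift_algebraMap _ _ _ _ _).trans ?_
    show Algebra.TensorProduct.productMap c' b' (1 ⊗ₜ y) = _
    rw [Algebra.TensorProduct.productMap_apply_tmul, map_one, one_mul]; rfl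

theorem hom_ext [IsHausdorff K W] (hI : I.FG) (θ₁ θ₂ : CT I B C →+* W)
    (hK : (I.map (algebraMap A C)).map (θ₁.comp (algebraMap C (CT I B C))) ≤ K)
    (hc : ∀ x, θ₁ (algebraMap C (CT I B C) x) = θ₂ (algebraMap C (CT I B C) x))
    (hb : ∀ y, θ₁ (inr I B C y) = θ₂ (inr I B C y)) : θ₁ = θ₂ := by
  refine CompleteLib.completion_hom_ext (J := K) _ (fg I B C hI) θ₁ θ₂ ?_ fun t => ?_
  · rwa [Ideal.map_map, RingHom.comp_assoc, ← IsScalarTower.algebraMap_eq]
  refine RingHom.congr_fun (Algebra.TensorProduct.ringHom_ext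
    (f := θ₁.comp (algebraMap (C ⊗[A] B) (CT I B C))) (g := θ₂.comp (algebraMap (C ⊗[A] B) (CT I B C)))
    (RingHom.ext fun x => ?_) (RingHom.ext fun y => hb y)) t
  have h := hc x
  rw [IsScalarTower.algebraMap_apply C (C ⊗[A] B) (CT I B C) x] at h
  exact h

end CT

end AdicRingLib
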