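import Mathlib.RingTheory.MvPolynomial.Groebner
import Mathlib.RingTheory.MvPolynomial.MonomialOrder.DegLex
import Mathlib.RingTheory.MvPolynomial.Ideal
import Mathlib.RingTheory.Valuation.ValuationRing
import Mathlib.RingTheory.Polynomial.Basic
import Mathlib.RingTheory.LocalRing.ResidueField.Basic
import Mathlib.RingTheory.Finiteness.Ideal
import Mathlib.RingTheory.Ideal.Quotient.Operations

/-!
Ideals of a polynomial ring over a valuation ring `R` which are pure modulo a nonzero `t`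
(with `rad (t) = 𝔪`) are finitely generated.
-/

set_option autoImplicit false

universe u

open MvPolynomial IsLocalRing

namespace AdicRingLib

variable {R : Type u} [CommRing R] [IsDomain R] [ValuationRing R]

theorem exists_dvd_all (s : Finset R) (hs : s.Nonempty) : ∃ c ∈ s, ∀ b ∈ s, c ∣ b := by
  classical
  induction hs using Finset.Nonempty.cons_induction with
  | singleton a => exact ⟨a, Finset.mem_singleton_self a, fun b hb => by rw [Finset.mem_singleton.1 hb]⟩
  | cons a s ha hs ih =>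
    obtain ⟨c, hc, hall⟩ := ih
    rcases ValuationRing.dvd_total a c with h | h
    · refine ⟨a, Finset.mem_cons_self a s, fun b hb => ?_⟩
      rcases Finset.mem_cons.1 hb with rfl | hb
      exacts [dvd_rfl, h.trans (hall b hb)]
    · refine ⟨c, Finset.mem_cons.2 (Or.inr hc), fun b hb => ?_⟩
      rcases Finset.mem_cons.1 hb with rfl | hb
      exacts [h, hall b hb]

theorem support_map_eq {σ : Type*} {S : Type*} [CommRing S] (f : R →+* S) (q : MvPolynomial σ R)
    (h0 : RingHom.ker f ≤ maximalIdeal R)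
    (h1 : ∀ a ∈ q.support, q.coeff a ∈ maximalIdeal R → f (q.coeff a) = 0) :
    (MvPolynomial.map f q).support = (MvPolynomial.map (residue R) q).support := by
  ext a
  simp only [mem_support_iff, coeff_map, ne_eq, residue_eq_zero_iff]
  refine not_congr ⟨fun h => h0 h, fun h => ?_⟩
  by_cases ha : q.coeff a = 0
  · rw [ha, map_zero]
  · exact h1 a (mem_support_iff.2 ha) h

theorem step (N : ℕ) {t : R} (ht0 : t ≠ 0) (htm : t ∈ maximalIdeal R)
    (J : Ideal (MvPolynomial (Fin N) R)) (htJ : C t ∈ J)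
    (hpure : ∀ c d : R, t = c * d → ∀ x, C c * x ∈ J → x ∈ J ⊔ Ideal.span {C d}) :
    ∃ (G : Ideal (MvPolynomial (Fin N) R)) (c₀ : R), G.FG ∧ C t ∈ G ∧ G ≤ J ∧ c₀ ∈ maximalIdeal R ∧
      J ≤ G ⊔ Ideal.span {C c₀} * J := by
  classical
  let m : MonomialOrder (Fin N) := MonomialOrder.lex
  let k := ResidueField R
  let π : MvPolynomial (Fin N) R →+* MvPolynomial (Fin N) k := MvPolynomial.map (residue R)
  have hπ : Function.Surjective π := MvPolynomial.map_surjective _ residue_surjective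
  let S : Set (Fin N →₀ ℕ) := {s | ∃ x ∈ J, π x ≠ 0 ∧ m.degree (π x) = s}
  obtain ⟨D, hDS, hD⟩ := (Submodule.fg_span_iff_fg_span_finset_subset (R := MvPolynomial (Fin N) k)
    ((fun s => monomial s (1 : k)) '' S)).1 (IsNoetherian.noetherian _)
  obtain ⟨D', hD'S, rfl⟩ := Finset.subset_set_image_iff.1 hDS
  have hdom : ∀ s ∈ S, ∃ d ∈ D', d ≤ s := fun s hs => by
    have h1 : monomial s (1 : k) ∈ Ideal.span ((fun s => monomial s (1 : k)) '' (D' : Set (Fin N →₀ ℕ))) := by
      rw [← Finset.coe_image]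
      change _ ∈ Submodule.span _ _
      rw [← hD]
      exact Submodule.subset_span ⟨s, hs, rfl⟩
    exact mem_ideal_span_monomial_image.1 h1 s (by rw [support_monomial, if_neg one_ne_zero]; simp)
  choose q hqJ hq0 hqd using fun d : D' => hD'S d.2
  let T : Finset R := insert t ((Finset.univ.biUnion fun d => (q d).support.image fun a => (q d).coeff a).filter
    fun c => c ∈ maximalIdeal R)
  obtain ⟨c₀, hc₀T, hc₀⟩ := exists_dvd_all T ⟨t, Finset.mem_insert_self _ _⟩
  have hc₀m : c₀ ∈ maximalIdeal R := by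
    rcases Finset.mem_insert.1 hc₀T with rfl | h
    exacts [htm, (Finset.mem_filter.1 h).2]
  obtain ⟨f₀, hf₀⟩ := hc₀ t (Finset.mem_insert_self _ _)
  have hc₀0 : c₀ ≠ 0 := fun h => ht0 (by rw [hf₀, h, zero_mul])
  let V := R ⧸ Ideal.span {c₀}
  let mk : R →+* V := Ideal.Quotient.mk _
  have hker : RingHom.ker mk ≤ maximalIdeal R := by
    rw [Ideal.mk_ker, Ideal.span_singleton_le_iff_mem]; exact hc₀m
  have hsupp : ∀ d, (MvPolynomial.map mk (q d)).support = (π (q d)).support := fun d =>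
    support_map_eq mk (q d) hker fun a ha hm => Ideal.Quotient.eq_zero_iff_mem.2
      (Ideal.mem_span_singleton.2 (hc₀ _ (Finset.mem_insert_of_mem (Finset.mem_filter.2
        ⟨Finset.mem_biUnion.2 ⟨d, Finset.mem_univ d, Finset.mem_image.2 ⟨a, ha, rfl⟩⟩, hm⟩))))
  have hdeg : ∀ d, m.degree (MvPolynomial.map mk (q d)) = d.1 := fun d => by
    rw [← hqd d]
    simp only [MonomialOrder.degree, hsupp]
  have hlead : ∀ d, IsUnit (m.leadingCoeff (MvPolynomial.map mk (q d))) := fun d => by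
    have h1 : d.1 ∈ (π (q d)).support := hqd d ▸ (m.degree_mem_support_iff _).2 (hq0 d)
    rw [MonomialOrder.leadingCoeff, hdeg, coeff_map]
    rw [mem_support_iff, coeff_map, ne_eq, residue_eq_zero_iff, IsLocalRing.mem_maximalIdeal,
      mem_nonunits_iff, not_not] at h1
    exact h1.map mk
  let G : Ideal (MvPolynomial (Fin N) R) := Ideal.span (insert (C t) (Set.range q))
  have hGJ : G ≤ J := Ideal.span_le.2 (by
    rintro _ (rfl | ⟨d, rfl⟩)
    exacts [htJ, hqJ d])
  have hqG : ∀ d, q d ∈ G := fun d => Ideal.subset_span (Set.mem_insert_of_mem _ ⟨d, rfl⟩)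
  refine ⟨G, c₀, Submodule.fg_span ((Set.finite_range q).insert _),
    Ideal.subset_span (Set.mem_insert _ _), hGJ, hc₀m, fun x hx => ?_⟩
  obtain ⟨g, r, hgr, -, hr⟩ := m.div hlead (MvPolynomial.map mk x)
  choose G' hG' using fun d => MvPolynomial.map_surjective mk Ideal.Quotient.mk_surjective (g d)
  choose lift hlift using fun v : V => Ideal.Quotient.mk_surjective v
  let r' : MvPolynomial (Fin N) R := ∑ a ∈ r.support, monomial a (lift (r.coeff a))
  have hr' : MvPolynomial.map mk r' = r := by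
    conv_rhs => rw [r.as_sum]
    rw [map_sum]
    exact Finset.sum_congr rfl fun a _ => by rw [map_monomial, hlift]
  have hr's : r'.support ⊆ r.support := fun a ha => by
    obtain ⟨b, hb, hab⟩ := Finset.mem_biUnion.1 (support_sum ha)
    rw [Finset.mem_singleton.1 (support_monomial_subset hab)]
    exact hb
  have hdiff : ∃ y, x - ∑ d, G' d * q d - r' = C c₀ * y := by
    refine (C_dvd_iff_dvd_coeff _ _).2 fun a => ?_
    rw [← Ideal.mem_span_singleton, ← Ideal.Quotient.eq_zero_iff_mem]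
    show mk _ = 0
    rw [← coeff_map, map_sub, map_sub, map_sum, hr', hgr, Finsupp.linearCombination_apply,
      Finsupp.sum_fintype _ _ (by simp)]
    simp [map_mul, hG', smul_eq_mul]
  obtain ⟨y, hy⟩ := hdiff
  have hgG : ∑ d, G' d * q d ∈ G := Ideal.sum_mem _ fun d _ => G.mul_mem_left _ (hqG d)
  -- the remainder vanishes modulo `c₀`
  have hrem : C c₀ ∣ r' := by
    by_cases hr0 : r' = 0
    · rw [hr0]; exact dvd_zero _
    obtain ⟨c, hcs, hc⟩ := exists_dvd_all (r'.support.image fun a => r'.coeff a)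
      ((Finset.nonempty_iff_ne_empty.2 fun h => hr0 (MvPolynomial.support_eq_empty.1 h)).image _)
    obtain ⟨a₀, ha₀, rfl⟩ := Finset.mem_image.1 hcs
    have hcall : ∀ a, r'.coeff a₀ ∣ r'.coeff a := fun a => by
      by_cases h : r'.coeff a = 0
      · rw [h]; exact dvd_zero _
      · exact hc _ (Finset.mem_image.2 ⟨a, mem_support_iff.2 h, rfl⟩)
    obtain ⟨x₀, hx₀⟩ := (C_dvd_iff_dvd_coeff _ _).2 hcall
    rcases ValuationRing.dvd_total c₀ (r'.coeff a₀) with h | ⟨e, he⟩
    · exact (C_dvd_iff_dvd_coeff _ _).2 fun a => h.trans (hcall a)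
    by_cases heu : IsUnit e
    · refine (C_dvd_iff_dvd_coeff _ _).2 fun a => ?_
      rw [he]
      exact (heu.mul_right_dvd).2 (hcall a)
    exfalso
    have hc0 : r'.coeff a₀ ≠ 0 := mem_support_iff.1 ha₀
    have hmem : C (r'.coeff a₀) * (x₀ + C e * y) ∈ J := by
      rw [mul_add, ← mul_assoc, ← map_mul, ← he, ← hx₀, ← hy]
      rw [show r' + (x - ∑ d, G' d * q d - r') = x - ∑ d, G' d * q d by ring]
      exact sub_mem hx (hGJ hgG)
    obtain ⟨j, hj, z, hz, hjz⟩ := Submodule.mem_sup.1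
      (hpure (r'.coeff a₀) (e * f₀) (by rw [hf₀, he]; ring) _ hmem)
    obtain ⟨z', rfl⟩ := Ideal.mem_span_singleton'.1 hz
    have he0 : residue R e = 0 := (residue_eq_zero_iff e).2 heu
    have hπ0 : π x₀ = π j := by
      have h1 := congrArg π hjz
      simp only [π, map_add, map_mul, map_C, he0, map_zero, zero_mul, mul_zero, add_zero] at h1
      exact h1.symm
    have h1 : x₀.coeff a₀ = 1 := by
      have h2 := congrArg (MvPolynomial.coeff a₀) hx₀
      rw [coeff_C_mul] at h2
      exact (mul_right_inj' hc0).1 (h2.symm.trans (mul_one _).symm)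
    have hne : π x₀ ≠ 0 := fun h => by
      have h2 := congrArg (MvPolynomial.coeff a₀) h
      rw [coeff_map, h1, map_one, coeff_zero] at h2
      exact one_ne_zero h2
    obtain ⟨d, hd, hle⟩ := hdom _ ⟨j, hj, hπ0 ▸ hne, rfl⟩
    have hin : m.degree (π x₀) ∈ r'.support := by
      have h2 := (m.degree_mem_support_iff _).2 hne
      rw [mem_support_iff, coeff_map] at h2
      rw [mem_support_iff, hx₀, coeff_C_mul]
      exact mul_ne_zero hc0 fun h => h2 (by rw [h, map_zero])
    refine hr _ (hr's hin) ⟨d, hd⟩ ?_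
    rw [hdeg, hπ0]
    exact hle
  obtain ⟨y', hy'⟩ := hrem
  have hx' : x = ∑ d, G' d * q d + C c₀ * (y + y') := by
    rw [mul_add, ← hy, ← hy']; ring
  have hcy : C c₀ * (y + y') ∈ J := by
    have h1 := sub_mem hx (hGJ hgG)
    rwa [hx', add_sub_cancel_left] at h1
  obtain ⟨j, hj, z, hz, hjz⟩ := Submodule.mem_sup.1 (hpure c₀ f₀ hf₀ _ hcy)
  obtain ⟨z', rfl⟩ := Ideal.mem_span_singleton'.1 hz
  rw [hx', ← hjz, mul_add, ← add_assoc, add_right_comm, show C c₀ * (z' * C f₀) = z' * C t by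
    rw [hf₀, map_mul]; ring]
  exact Submodule.add_mem_sup (add_mem hgG (G.mul_mem_left _ (Ideal.subset_span (Set.mem_insert _ _))))
    (Ideal.mul_mem_mul (Ideal.mem_span_singleton_self _) hj)

/-- Pure ideals modulo `t` are finitely generated. -/
theorem fg_of_pure_fin (N : ℕ) {t : R} (ht0 : t ≠ 0) (htm : t ∈ maximalIdeal R)
    (hrad : ∀ a ∈ maximalIdeal R, ∃ n : ℕ, t ∣ a ^ n)
    (J : Ideal (MvPolynomial (Fin N) R)) (htJ : C t ∈ J)
    (hpure : ∀ c d : R, t = c * d → ∀ x, C c * x ∈ J → x ∈ J ⊔ Ideal.span {C d}) : J.FG := by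
  obtain ⟨G, c₀, hG, htG, hGJ, hc₀, hJ⟩ := step N ht0 htm J htJ hpure
  obtain ⟨n, hn⟩ := hrad c₀ hc₀
  have h : ∀ i, J ≤ G ⊔ Ideal.span {C c₀} ^ i * J := by
    intro i
    induction i with
    | zero => simp
    | succ i ih =>
      refine ih.trans (sup_le le_sup_left ?_)
      refine (Ideal.mul_mono le_rfl hJ).trans ?_
      rw [Ideal.mul_sup, ← mul_assoc, ← pow_succ]
      exact sup_le_sup_right Ideal.mul_le_right _
  have hpow : Ideal.span {(C c₀ : MvPolynomial (Fin N) R)} ^ n ≤ G := by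
    rw [Ideal.span_singleton_pow, Ideal.span_singleton_le_iff_mem, ← map_pow]
    obtain ⟨e, he⟩ := hn
    rw [he, map_mul]
    exact G.mul_mem_right _ htG
  have h2 : J ≤ G := (h n).trans (sup_le le_rfl (Ideal.mul_le.2 fun r hr s _ => G.mul_mem_right _ (hpow hr)))
  rw [le_antisymm h2 hGJ]
  exact hG

/-- Pure ideals modulo `t` are finitely generated. -/
theorem fg_of_pure {σ : Type*} [Finite σ] {t : R} (ht0 : t ≠ 0) (htm : t ∈ maximalIdeal R)
    (hrad : ∀ a ∈ maximalIdeal R, ∃ n : ℕ, t ∣ a ^ n)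
    (J : Ideal (MvPolynomial σ R)) (htJ : C t ∈ J)
    (hpure : ∀ c d : R, t = c * d → ∀ x, C c * x ∈ J → x ∈ J ⊔ Ideal.span {C d}) : J.FG := by
  obtain ⟨N, ⟨e⟩⟩ := Finite.exists_equiv_fin σ
  let φ := renameEquiv R e
  have hC : ∀ a, φ.symm (C a) = C a := fun a => φ.symm.commutes a
  let J' : Ideal (MvPolynomial (Fin N) R) := J.comap φ.symm.toRingHom
  have hJ' : J'.FG := by
    refine fg_of_pure_fin N ht0 htm hrad J' (by show φ.symm (C t) ∈ J; rw [hC]; exact htJ)
      fun c d hcd x hx => ?_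
    have h1 : C c * φ.symm x ∈ J := by
      have h2 : φ.symm (C c * x) ∈ J := hx
      rwa [map_mul, hC] at h2
    obtain ⟨j, hj, z, hz, hjz⟩ := Submodule.mem_sup.1 (hpure c d hcd _ h1)
    refine Submodule.mem_sup.2 ⟨φ j, ?_, φ z, ?_, by rw [← map_add, hjz, φ.apply_symm_apply]⟩
    · show φ.symm (φ j) ∈ J
      rwa [φ.symm_apply_apply]
    · obtain ⟨z', rfl⟩ := Ideal.mem_span_singleton'.1 hz
      refine Ideal.mem_span_singleton'.2 ⟨φ z', ?_⟩
      rw [map_mul, ← hC, φ.apply_symm_apply]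
  have : J = J'.map φ.symm.toRingHom :=
    (Ideal.map_comap_of_surjective _ φ.symm.surjective J).symm
  rw [this]
  exact Ideal.FG.map hJ' _

end AdicRingLib
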