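import Groth.Agent.AdicRingLib.Trunc
import Mathlib.RingTheory.Flat.FaithfullyFlat.Basic
import Mathlib.RingTheory.Flat.FaithfullyFlat.Algebra
import Mathlib.LinearAlgebra.TensorProduct.RightExactness
import Mathlib.LinearAlgebra.TensorProduct.Tower
import Mathlib.RingTheory.Jacobson.Ideal

/-! Flatness criteria through truncations. -/

set_option autoImplicit false

universe u

open TensorProduct

namespace AdicRingLib

variable {R : Type u} [CommRing R] {I : Ideal R} {A B M : Type u} [CommRing A] [Algebra R A] [CommRing B]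
  [Algebra R B] [Algebra A B] [IsScalarTower R A B] [AddCommGroup M] [Module B M] [Module A M]
  [IsScalarTower A B M]

theorem isHausdorff_tensor [Module.Finite B M] (hR : AdicRing.IsBase R I) (hB : AdicRing.TopFiniteType R I B)
    (a : Ideal A) (ha : a.FG) : IsHausdorff (I.map (algebraMap R A)) (M ⊗[A] a) := by
  have : Module.Finite A a := Module.Finite.iff_fg.2 ha
  obtain ⟨r, π, hπ⟩ := Module.Finite.exists_fin' A a
  let p : M ⊗[A] (Fin r → A) →ₗ[B] M ⊗[A] a := TensorProduct.AlgebraTensorModule.map LinearMap.id π
  have hp : Function.Surjective p := LinearMap.lTensor_surjective M hπ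
  have : Module.Finite B (M ⊗[A] (Fin r → A)) :=
    Module.Finite.equiv (TensorProduct.piScalarRight A B M (Fin r)).symm
  have : Module.Finite B (M ⊗[A] a) := Module.Finite.of_surjective p hp
  let _ : Module R (M ⊗[A] a) := Module.compHom _ (algebraMap R B)
  have : IsScalarTower R B (M ⊗[A] a) := ⟨fun r b x => by
    show (r • b) • x = algebraMap R B r • b • x
    rw [Algebra.smul_def, mul_smul]⟩
  have : IsScalarTower R A (M ⊗[A] a) := ⟨fun r c x => by
    show (r • c) • x = algebraMap R B r • c • x
    rw [Algebra.smul_def, mul_smul, ← algebraMap_smul B (algebraMap R A r), ← IsScalarTower.algebraMap_apply]⟩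
  have hc := isAdicComplete_finite hR hB (M ⊗[A] a)
  exact IsHausdorff.map_algebraMap_iff.2 inferInstance

theorem flat_of_flat_trunc [Module.Finite B M] (hR : AdicRing.IsBase R I) (hA : AdicRing.TopFiniteType R I A)
    (hB : AdicRing.TopFiniteType R I B)
    (h : ∀ n : ℕ, Module.Flat (AdicRing.trunc A I n) ((AdicRing.trunc A I n) ⊗[A] M)) :
    Module.Flat A M := by
  refine Module.Flat.iff_lTensor_injective.2 fun a ha => ?_
  rw [injective_iff_map_eq_zero]
  intro x hx
  have := isHausdorff_tensor (M := M) hR hB a ha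
  let K := I.map (algebraMap R A)
  refine CompleteLib.eq_zero_of_forall_mem (I := K) fun k => ?_
  obtain ⟨N₀, hN₀, -, n₀, hAR⟩ := hasAR_topFiniteType hR hA A (a : Submodule A A)
  let n := k + n₀
  let An := AdicRing.trunc A I n
  let q : A →ₗ[A] An := Algebra.linearMap A An
  let ab : Ideal An := a.map (algebraMap A An)
  let qa : a →ₗ[A] ab := LinearMap.codRestrict (ab.restrictScalars A) (q.comp a.subtype)
    fun y => Ideal.mem_map_of_mem _ y.2
  have hqa : Function.Surjective qa := fun y => by
    obtain ⟨z, hz, hzy⟩ := (Ideal.mem_map_iff_of_surjective _ Ideal.Quotient.mk_surjective).1 y.2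
    exact ⟨⟨z, hz⟩, Subtype.ext hzy⟩
  let x' : a ⊗[A] M := TensorProduct.comm A M a x
  let y : ab ⊗[A] M := qa.rTensor M x'
  let e := AlgebraTensorModule.cancelBaseChange A An An ab M
  let e' := AlgebraTensorModule.cancelBaseChange A An An An M
  have hinj : Function.Injective (ab.subtype.rTensor (An ⊗[A] M)) := by
    have := h n
    exact Module.Flat.rTensor_preserves_injective_linearMap _ ab.injective_subtype
  have hcomm : ∀ w, e' (ab.subtype.rTensor (An ⊗[A] M) w) =
      (ab.subtype.restrictScalars A).rTensor M (e w) := by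
    intro w
    induction w using TensorProduct.induction_on with
    | zero => simp only [map_zero]
    | add u v hu hv => simp only [map_add, hu, hv]
    | tmul b v =>
      induction v using TensorProduct.induction_on with
      | zero => simp only [TensorProduct.tmul_zero, map_zero]
      | add u v hu hv => simp only [TensorProduct.tmul_add, map_add, hu, hv]
      | tmul c m => simp [e, e']
  have hy0 : (ab.subtype.restrictScalars A).rTensor M y = 0 := by
    show (ab.subtype.restrictScalars A).rTensor M (qa.rTensor M x') = 0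
    rw [← LinearMap.rTensor_comp_apply,
      show (ab.subtype.restrictScalars A).comp qa = q.comp a.subtype from LinearMap.ext fun _ => rfl,
      LinearMap.rTensor_comp_apply]
    have h1 : a.subtype.rTensor M x' = TensorProduct.comm A M A (a.subtype.lTensor M x) := by
      clear hx
      induction x using TensorProduct.induction_on with
      | zero => simp [x']
      | tmul m z => simp [x']
      | add u v hu hv => simp_all [x']
    rw [h1, hx, map_zero, map_zero]
  have hy : y = 0 := by
    have h2 : e.symm y = 0 := hinj (by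
      apply e'.injective
      rw [hcomm, e.apply_symm_apply, map_zero, map_zero, hy0])
    rwa [LinearEquiv.map_eq_zero_iff] at h2
  have hex : Function.Exact (LinearMap.ker qa).subtype qa := LinearMap.exact_subtype_ker_map qa
  obtain ⟨z, hz⟩ := (rTensor_exact M hex hqa x').1 hy
  have hsub : ∀ w : LinearMap.ker qa, (w : a) ∈ (K ^ k • (⊤ : Submodule A a)) := fun w => by
    have hw : ((w : a) : A) ∈ K ^ (k + n₀) • (⊤ : Submodule A A) ⊓ (a : Submodule A A) := by
      refine ⟨?_, (w : a).2⟩
      rw [SetLike.mem_coe, smul_eq_mul, Ideal.mul_top]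
      have h1 : q ((w : a) : A) = 0 := congrArg Subtype.val w.2
      have h2 : ((w : a) : A) ∈ (I ^ (n + 1)).map (algebraMap R A) := Ideal.Quotient.eq_zero_iff_mem.1 h1
      exact Ideal.pow_le_pow_right (Nat.le_succ n) ((le_of_eq (Ideal.map_pow _ _ _)) h2)
    have h3 : ((w : a) : A) ∈ K ^ k • (a : Submodule A A) := Submodule.smul_mono le_rfl hN₀ (hAR k hw)
    have h4 : K ^ k • (a : Submodule A A) = (K ^ k • (⊤ : Submodule A a)).map a.subtype := by
      rw [Submodule.map_smul'', Submodule.map_top, Submodule.range_subtype]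
    rw [h4] at h3
    obtain ⟨v, hv, hvw⟩ := h3
    rwa [← Subtype.ext hvw]
  have hx' : x' ∈ K ^ k • (⊤ : Submodule A (a ⊗[A] M)) := by
    rw [← hz]
    clear hz
    induction z using TensorProduct.induction_on with
    | zero => rw [map_zero]; exact zero_mem _
    | add u v hu hv => rw [map_add]; exact add_mem hu hv
    | tmul w m =>
      rw [LinearMap.rTensor_tmul]
      have h5 := Submodule.mem_map_of_mem (f := (TensorProduct.mk A a M).flip m) (hsub w)
      rw [Submodule.map_smul''] at h5
      exact Submodule.smul_mono le_rfl le_top h5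
  have hfin := Submodule.mem_map_of_mem (f := (TensorProduct.comm A M a).symm.toLinearMap) hx'
  rw [Submodule.map_smul''] at hfin
  have hxx : (TensorProduct.comm A M a).symm.toLinearMap x' = x := LinearEquiv.symm_apply_apply _ x
  rw [hxx] at hfin
  exact Submodule.smul_mono le_rfl le_top hfin

/-- The ideal of definition lies in every maximal ideal. -/
theorem map_le_of_isMaximal (hR : AdicRing.IsBase R I) (hA : AdicRing.TopFiniteType R I A) (m : Ideal A)
    [m.IsMaximal] : I.map (algebraMap R A) ≤ m := by
  have := isAdicComplete_topFiniteType hR hA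
  exact (IsAdicComplete.le_jacobson_bot _).trans (sInf_le ⟨bot_le, inferInstance⟩)

theorem faithfullyFlat_of_trunc [Module.Finite B M] (hR : AdicRing.IsBase R I)
    (hA : AdicRing.TopFiniteType R I A) (hB : AdicRing.TopFiniteType R I B)
    (h : ∀ n : ℕ, Module.FaithfullyFlat (AdicRing.trunc A I n) ((AdicRing.trunc A I n) ⊗[A] M)) :
    Module.FaithfullyFlat A M := by
  have : Module.Flat A M := flat_of_flat_trunc hR hA hB fun n => (h n).toFlat
  refine ⟨fun {m} hm htop => ?_⟩
  let An := AdicRing.trunc A I 0
  have hle : (I ^ (0 + 1)).map (algebraMap R A) ≤ m := by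
    rw [zero_add, pow_one]; exact map_le_of_isMaximal hR hA m
  have hm' : (m.map (algebraMap A An)).IsMaximal := by
    refine Ideal.IsMaximal.map_of_surjective_of_ker_le Ideal.Quotient.mk_surjective ?_
    rw [Ideal.mk_ker]; exact hle
  refine (h 0).submodule_ne_top hm' (eq_top_iff.2 fun w _ => ?_)
  induction w using TensorProduct.induction_on with
  | zero => exact zero_mem _
  | add u v hu hv => exact add_mem (hu trivial) (hv trivial)
  | tmul c x =>
    have hx : x ∈ m • (⊤ : Submodule A M) := by rw [htop]; trivial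
    refine Submodule.smul_induction_on hx (fun a ha y _ => ?_) (fun u v hu hv => ?_)
    · rw [TensorProduct.tmul_smul, ← algebraMap_smul An a (c ⊗ₜ[A] y)]
      exact Submodule.smul_mem_smul (Ideal.mem_map_of_mem _ ha) trivial
    · rw [TensorProduct.tmul_add]; exact add_mem hu hv

theorem flat_cLoc (hR : AdicRing.IsBase R I) (hA : AdicRing.TopFiniteType R I A) (f : A) :
    Module.Flat A (AdicRing.CLoc I f) := by
  have : Module.Flat (Localization.Away f) (AdicRing.CLoc I f) :=
    (hasAR_finiteType hR hA (Localization.Away f)).flat_adicCompletion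
  exact Module.Flat.trans A (Localization.Away f) _

theorem faithfullyFlat_pi_cLoc (hR : AdicRing.IsBase R I) (hA : AdicRing.TopFiniteType R I A) {r : ℕ}
    (f : Fin r → A) (hf : Ideal.span (Set.range f) = ⊤) :
    Module.FaithfullyFlat A (∀ i, AdicRing.CLoc I (f i)) := by
  classical
  have hfl : ∀ i, Module.Flat A (AdicRing.CLoc I (f i)) := fun i => flat_cLoc hR hA (f i)
  have : Module.Flat A (∀ i, AdicRing.CLoc I (f i)) :=
    Module.Flat.of_linearEquiv (DirectSum.linearEquivFunOnFintype A (Fin r) fun i => AdicRing.CLoc I (f i)).symm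
  refine ⟨fun {m} hm htop => ?_⟩
  obtain ⟨i, hi⟩ : ∃ i, f i ∉ m := by
    by_contra hcon
    push Not at hcon
    exact hm.ne_top (top_le_iff.1 (hf ▸ Ideal.span_le.2 (Set.range_subset_iff.2 hcon)))
  let K : Ideal (Localization.Away (f i)) := I.map (algebraMap R (Localization.Away (f i)))
  let l : Localization.Away (f i) →+* A ⧸ m := IsLocalization.Away.lift (f i) (g := Ideal.Quotient.mk m)
    (by
      let _ := Ideal.Quotient.field m
      exact isUnit_iff_ne_zero.2 fun h0 => hi (Ideal.Quotient.eq_zero_iff_mem.1 h0))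
  have hl : ∀ a, l (algebraMap A _ a) = Ideal.Quotient.mk m a := fun a => IsLocalization.Away.lift_eq _ _ a
  have hK : K ≤ RingHom.ker l := by
    rw [Ideal.map_le_iff_le_comap]
    intro a ha
    rw [Ideal.mem_comap, RingHom.mem_ker, IsScalarTower.algebraMap_apply R A (Localization.Away (f i)), hl,
      Ideal.Quotient.eq_zero_iff_mem]
    exact map_le_of_isMaximal hR hA m (Ideal.mem_map_of_mem _ ha)
  let L : AdicRing.CLoc I (f i) →+* A ⧸ m :=
    (Ideal.Quotient.lift K l fun a ha => hK ha).comp (AdicCompletion.evalOneₐ K).toRingHom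
  have hLA : ∀ a : A, L (algebraMap A (AdicRing.CLoc I (f i)) a) = Ideal.Quotient.mk m a := fun a => by
    rw [IsScalarTower.algebraMap_apply A (Localization.Away (f i)) (AdicRing.CLoc I (f i))]
    show Ideal.Quotient.lift K l (fun a ha => hK ha) ((AdicCompletion.evalOneₐ K)
      (algebraMap (Localization.Away (f i)) (AdicRing.CLoc I (f i)) (algebraMap A _ a))) = _
    rw [AlgHom.commutes]
    exact hl a
  have hkill : ∀ v ∈ m • (⊤ : Submodule A (∀ i, AdicRing.CLoc I (f i))), L (v i) = 0 := fun v hv => by
    refine Submodule.smul_induction_on hv (fun a ha y _ => ?_) (fun u v hu hv => ?_)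
    · rw [Pi.smul_apply, Algebra.smul_def, map_mul, hLA, Ideal.Quotient.eq_zero_iff_mem.2 ha, zero_mul]
    · rw [Pi.add_apply, map_add, hu, hv, add_zero]
  have h1 : L ((1 : ∀ i, AdicRing.CLoc I (f i)) i) = 0 := hkill 1 (by rw [htop]; trivial)
  rw [Pi.one_apply, map_one] at h1
  exact hm.ne_top ((Ideal.eq_top_iff_one m).2 (Ideal.Quotient.eq_zero_iff_mem.1 h1))

theorem noPowTorsion_cLoc (hR : AdicRing.IsBase R I) (hA : AdicRing.TopFiniteType R I A) (f : A)
    (hT : AdicRing.NoPowTorsion I A) : AdicRing.NoPowTorsion I (AdicRing.CLoc I f) := by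
  have := flat_cLoc hR hA f
  exact noPowTorsion_of_flat (fg_of_isBase hR) hT

theorem noPowTorsion_of_forall_cLoc (hR : AdicRing.IsBase R I) (hA : AdicRing.TopFiniteType R I A) {r : ℕ}
    (f : Fin r → A) (hf : Ideal.span (Set.range f) = ⊤)
    (h : ∀ i, AdicRing.NoPowTorsion I (AdicRing.CLoc I (f i))) : AdicRing.NoPowTorsion I A := by
  intro x n hx
  have := faithfullyFlat_pi_cLoc hR hA f hf
  refine FaithfulSMul.algebraMap_injective A (∀ i, AdicRing.CLoc I (f i)) ?_
  rw [map_zero]
  funext i
  refine h i _ n fun a ha => ?_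
  have h0 := congrArg (fun z => algebraMap A (∀ i, AdicRing.CLoc I (f i)) z i) (hx a ha)
  simpa [Algebra.smul_def, map_mul, Pi.algebraMap_apply,
    ← IsScalarTower.algebraMap_apply] using h0

end AdicRingLib
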