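import Groth.Agent.FlatLib.BaseChange
import Groth.Agent.FlatCrit.Quotient
import Groth.Agent.AdicRingLib.CompLoc
import Groth.Agent.CompleteLib.Basic

/-! Base change seen through truncations at a point. -/

set_option autoImplicit false

universe u

open TensorProduct

namespace AdicRingLib.TruncBaseChange

variable {R S X Y : Type u} [CommRing R] [CommRing S] [CommRing X] [CommRing Y] [Algebra R S] [Algebra R X]
  [Algebra X Y] [Algebra S Y] [Algebra R Y] [IsScalarTower R S Y] [IsScalarTower R X Y]

instance tower_quotient (P : Ideal X) : IsScalarTower R (X ⧸ P) (Y ⧸ P.map (algebraMap X Y)) :=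
  IsScalarTower.of_algebraMap_eq fun r => congrArg (Ideal.Quotient.mk _) (IsScalarTower.algebraMap_apply R X Y r)

/-- If the truncations of `Y` along a prime of `X` are base changes of `S` then flatness of `S` over `R`
at a point gives flatness of `Y` over `X` there. -/
theorem flat_atPrime [IsNoetherianRing X] [IsNoetherianRing Y] (Q : Ideal Y) [Q.IsPrime]
    (hbc : ∀ n : ℕ, IsBaseChange (X ⧸ (Q.comap (algebraMap X Y)) ^ n)
      (IsScalarTower.toAlgHom R S (Y ⧸ ((Q.comap (algebraMap X Y)) ^ n).map (algebraMap X Y))).toLinearMap)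
    (h : Module.Flat R (Localization.AtPrime (Q.comap (algebraMap S Y)))) :
    Module.Flat X (Localization.AtPrime Q) := by
  let M := Localization.AtPrime Q
  let P := Q.comap (algebraMap X Y)
  have : IsNoetherianRing M := IsLocalization.isNoetherianRing Q.primeCompl M inferInstance
  refine FlatCrit.flat_of_flat_quotientMap (R := X) (S := M) P ?_ fun n => ?_
  · rw [IsLocalRing.jacobson_eq_maximalIdeal _ bot_ne_top, IsScalarTower.algebraMap_eq X Y M, ← Ideal.map_map,
      ← Localization.AtPrime.map_eq_maximalIdeal]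
    exact Ideal.map_mono Ideal.map_comap_le
  let E := X ⧸ P ^ n
  let J := (P ^ n).map (algebraMap X Y)
  let L := M ⧸ J.map (algebraMap Y M)
  let := ((algebraMap (Y ⧸ J) L).comp (algebraMap E (Y ⧸ J))).toAlgebra
  have : IsScalarTower E (Y ⧸ J) L := IsScalarTower.of_algebraMap_eq fun x => rfl
  have : IsLocalization (Algebra.algebraMapSubmonoid (Y ⧸ J) Q.primeCompl) L := inferInstance
  have hflat : Module.Flat E L :=
    FlatLib.flat_localized_baseChange (R := R) (R' := E) (S := S) (S' := Y ⧸ J) (M := S) (M' := Y ⧸ J)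
      (Q.comap (algebraMap S Y)).primeCompl (Algebra.linearMap S (Localization.AtPrime (Q.comap (algebraMap S Y))))
      (Algebra.algebraMapSubmonoid (Y ⧸ J) Q.primeCompl) (Algebra.linearMap (Y ⧸ J) L)
      (algebraMap S (Y ⧸ J))
      (fun t ht => ⟨algebraMap S Y t, ht, rfl⟩)
      (IsScalarTower.toAlgHom R S (Y ⧸ J)).toLinearMap (hbc n)
      (fun s m => map_mul (algebraMap S (Y ⧸ J)) s m) h
  have hJ : J.map (algebraMap Y M) = (P ^ n).map (algebraMap X M) := by
    rw [Ideal.map_map, ← IsScalarTower.algebraMap_eq]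
  have h1 : (algebraMap E L).Flat := RingHom.flat_algebraMap_iff.2 hflat
  have h2 := h1.comp (RingHom.Flat.of_bijective (f := (Ideal.quotEquivOfEq hJ).toRingHom)
    (Ideal.quotEquivOfEq hJ).bijective)
  refine (congrArg RingHom.Flat ?_).mp h2
  refine Ideal.Quotient.ringHom_ext (RingHom.ext fun x => ?_)
  show Ideal.quotEquivOfEq hJ (Ideal.Quotient.mk _ (algebraMap Y M (algebraMap X Y x))) = _
  rw [← IsScalarTower.algebraMap_apply X Y M]
  rfl

/-- The truncations are base changes as soon as `Y` has the universal property of a completed tensor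
product for complete targets. -/
theorem isBaseChange_of_universal [IsNoetherianRing R] {A : Type u} [CommRing A] (I : Ideal A) [Algebra A S]
    [IsNoetherianRing S] [IsAdicComplete (I.map (algebraMap A S)) S] [Algebra A Y]
    (hSY : ∀ a, algebraMap S Y (algebraMap A S a) = algebraMap A Y a)
    (P : Ideal X) [Module.Finite R (X ⧸ P)] (hYc : ∀ J : Ideal Y, IsHausdorff ((I.map (algebraMap A Y)).map (Ideal.Quotient.mk J)) (Y ⧸ J))
    (hex : ∀ (W : Type u) [CommRing W] (K : Ideal W) [IsAdicComplete K W] (x : X →+* W) (s : S →+* W),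
      x.comp (algebraMap R X) = s.comp (algebraMap R S) → (I.map (algebraMap A S)).map s ≤ K →
      ∃ τ : Y →+* W, τ.comp (algebraMap X Y) = x ∧ τ.comp (algebraMap S Y) = s)
    (huniq : ∀ (W : Type u) [CommRing W] (K : Ideal W) [IsHausdorff K W] (τ₁ τ₂ : Y →+* W),
      (I.map (algebraMap A Y)).map τ₁ ≤ K → τ₁.comp (algebraMap X Y) = τ₂.comp (algebraMap X Y) →
      τ₁.comp (algebraMap S Y) = τ₂.comp (algebraMap S Y) → τ₁ = τ₂) :
    IsBaseChange (X ⧸ P) (IsScalarTower.toAlgHom R S (Y ⧸ P.map (algebraMap X Y))).toLinearMap := by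
  let J := P.map (algebraMap X Y)
  let E := X ⧸ P
  let W := E ⊗[R] S
  let σ : W →ₐ[E] Y ⧸ J :=
    Algebra.TensorProduct.lift (Algebra.ofId E (Y ⧸ J)) (IsScalarTower.toAlgHom R S (Y ⧸ J)) fun _ _ => Commute.all _ _
  have hσ : ∀ s : S, σ (1 ⊗ₜ s) = Ideal.Quotient.mk J (algebraMap S Y s) := fun s =>
    (Algebra.TensorProduct.lift_tmul _ _ _ 1 s).trans ((congrArg (· * _) (map_one _)).trans (one_mul _))
  let ir : S →ₐ[R] W := Algebra.TensorProduct.includeRight
  let : Algebra S W := ir.toRingHom.toAlgebra
  have hfin : Module.Finite S W := by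
    let e : (S ⊗[R] E) ≃ₐ[S] W :=
      AlgEquiv.ofRingEquiv (f := (Algebra.TensorProduct.comm R S E).toRingEquiv) fun s => by
        show Algebra.TensorProduct.comm R S E (s ⊗ₜ 1) = 1 ⊗ₜ s
        exact Algebra.TensorProduct.comm_tmul R s 1
    exact Module.Finite.equiv e.toLinearEquiv
  let K := (I.map (algebraMap A S)).map ir.toRingHom
  have hc : IsAdicComplete K W := by
    have : IsAdicComplete (I.map (algebraMap A S)) W := CompleteLib.isAdicComplete_of_finite
    exact (IsAdicComplete.map_algebraMap_iff (S := W) _ _).2 this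
  let il : E →+* W := Algebra.TensorProduct.includeLeftRingHom
  obtain ⟨τ, hτX, hτS⟩ := hex W K (il.comp (Ideal.Quotient.mk P)) ir.toRingHom
    (RingHom.ext fun r => by
      show il (algebraMap R E r) = ir (algebraMap R S r)
      rw [ir.commutes]
      rfl) le_rfl
  have hστ : σ.toRingHom.comp τ = Ideal.Quotient.mk J := by
    have := hYc J
    refine huniq (Y ⧸ J) ((I.map (algebraMap A Y)).map (Ideal.Quotient.mk J)) _ _ ?_ ?_ ?_
    · refine le_of_eq ?_
      have hA : (σ.toRingHom.comp τ).comp (algebraMap A Y) = (Ideal.Quotient.mk J).comp (algebraMap A Y) :=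
        RingHom.ext fun a => by
          show σ (τ (algebraMap A Y a)) = Ideal.Quotient.mk J (algebraMap A Y a)
          rw [← hSY, show τ (algebraMap S Y _) = ir (algebraMap A S a) from RingHom.congr_fun hτS _]
          exact hσ _
      rw [Ideal.map_map, hA, ← Ideal.map_map]
    · refine RingHom.ext fun x => ?_
      show σ (τ (algebraMap X Y x)) = Ideal.Quotient.mk J (algebraMap X Y x)
      rw [show τ (algebraMap X Y x) = il (Ideal.Quotient.mk P x) from RingHom.congr_fun hτX x]
      exact σ.commutes (Ideal.Quotient.mk P x)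
    · refine RingHom.ext fun s => ?_
      show σ (τ (algebraMap S Y s)) = Ideal.Quotient.mk J (algebraMap S Y s)
      rw [show τ (algebraMap S Y s) = ir s from RingHom.congr_fun hτS s]
      exact hσ s
  have hτJ : ∀ y ∈ J, τ y = 0 := fun y hy => by
    have h1 : J ≤ RingHom.ker τ := Ideal.map_le_iff_le_comap.2 fun p hp => by
      show τ (algebraMap X Y p) = 0
      rw [show τ (algebraMap X Y p) = il (Ideal.Quotient.mk P p) from RingHom.congr_fun hτX p,
        Ideal.Quotient.eq_zero_iff_mem.2 hp, map_zero]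
    exact h1 hy
  let τ' : (Y ⧸ J) →+* W := Ideal.Quotient.lift J τ hτJ
  have hid : τ'.comp σ.toRingHom = RingHom.id W := by
    refine Algebra.TensorProduct.ringHom_ext (RingHom.ext fun e => ?_) (RingHom.ext fun s => ?_)
    · obtain ⟨x, rfl⟩ := Ideal.Quotient.mk_surjective e
      show τ' (σ (il (Ideal.Quotient.mk P x))) = _
      rw [show σ (il (Ideal.Quotient.mk P x)) = Ideal.Quotient.mk J (algebraMap X Y x) from
        σ.commutes (Ideal.Quotient.mk P x)]
      exact RingHom.congr_fun hτX x
    · show τ' (σ (1 ⊗ₜ s)) = 1 ⊗ₜ s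
      rw [hσ]
      exact RingHom.congr_fun hτS s
  have hbij : Function.Bijective σ := ⟨fun a b hab => by
      have := congrArg τ' hab
      exact (RingHom.congr_fun hid a).symm.trans (this.trans (RingHom.congr_fun hid b)),
    fun y => by
      obtain ⟨y, rfl⟩ := Ideal.Quotient.mk_surjective y
      exact ⟨τ y, RingHom.congr_fun hστ y⟩⟩
  refine IsBaseChange.of_equiv (LinearEquiv.ofBijective σ.toLinearMap hbij) fun s => ?_
  exact hσ s

end AdicRingLib.TruncBaseChange
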