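import Groth.Agent.AdicRingLib.RigChart
import Groth.Agent.AdicRingLib.TruncBaseChange

/-! Rig-flatness and completed base change. -/

set_option autoImplicit false
set_option maxHeartbeats 1000000

universe u

namespace AdicRingLib.RigBaseChange

/-- The universal property of a completed tensor product, as used here. -/
structure CompletedTensor {A : Type u} [CommRing A] (I : Ideal A) (B C D : Type u) [CommRing B] [CommRing C]
    [CommRing D] [Algebra A B] [Algebra A C] [Algebra A D] [Algebra C D] (inr : B →+* D) : Prop where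
  inr_algebraMap : ∀ a, inr (algebraMap A B a) = algebraMap A D a
  exists_hom : ∀ {W : Type u} [CommRing W] {K : Ideal W} [IsAdicComplete K W] (c : C →+* W) (b : B →+* W),
    (∀ a, c (algebraMap A C a) = b (algebraMap A B a)) → (I.map (algebraMap A C)).map c ≤ K →
      ∃ θ : D →+* W, (∀ x, θ (algebraMap C D x) = c x) ∧ ∀ y, θ (inr y) = b y
  hom_ext : ∀ {W : Type u} [CommRing W] {K : Ideal W} [IsHausdorff K W] (θ₁ θ₂ : D →+* W),
    (I.map (algebraMap A C)).map (θ₁.comp (algebraMap C D)) ≤ K →
    (∀ x, θ₁ (algebraMap C D x) = θ₂ (algebraMap C D x)) → (∀ y, θ₁ (inr y) = θ₂ (inr y)) → θ₁ = θ₂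

theorem flat_core {A : Type u} [CommRing A] [IsNoetherianRing A] (I : Ideal A) (B C : Type u) [CommRing B]
    [CommRing C] [Algebra A B] [Algebra A C] [IsNoetherianRing B] [IsNoetherianRing C]
    {D : Type u} [CommRing D] [Algebra A D] [Algebra C D] [IsScalarTower A C D] [IsNoetherianRing D]
    {inr : B →+* D} (U : CompletedTensor I B C D inr)
    (f : A) (g : C) (gD : D) (K : Ideal C) (KB : Ideal B)
    (KD : Ideal D) (hK : K = I.map (algebraMap A C)) (hKB : KB = I.map (algebraMap A B))
    (hKD : KD = I.map (algebraMap A D)) (hgD : gD = algebraMap C D g)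
    (α : CL I f →+* CL K g) (ψg : CL K g →+* CL KD gD)
    (ψ₁ : CL I f →+* CL KB (algebraMap A B f)) (β : CL KB (algebraMap A B f) →+* CL KD gD)
    (hα : ∀ a, α (algebraMap A _ a) = algebraMap C _ (algebraMap A C a))
    (hψg : ∀ c, ψg (algebraMap C _ c) = algebraMap D _ (algebraMap C D c))
    (hψ₁ : ∀ a, ψ₁ (algebraMap A _ a) = algebraMap B _ (algebraMap A B a))
    (hβ : ∀ b, β (algebraMap B _ b) = algebraMap D _ (inr b))
    (hsq : ψg.comp α = β.comp ψ₁) (Q : Ideal (CL KD gD)) [Q.IsPrime]
    (hfin : let := α.toAlgebra; Module.Finite (CL I f) (CL K g ⧸ Q.comap ψg))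
    (h : ((algebraMap (CL KB (algebraMap A B f)) (Localization.AtPrime (Q.comap β))).comp ψ₁).Flat) :
    ((algebraMap (CL KD gD) (Localization.AtPrime Q)).comp ψg).Flat := by
  let R := CL I f
  let X := CL K g
  let S := CL KB (algebraMap A B f)
  let Y := CL KD gD
  have := CL.isNoetherianRing I f
  have := CL.isNoetherianRing K g
  have := CL.isNoetherianRing KB (algebraMap A B f)
  have := CL.isNoetherianRing KD gD
  have hKfg : K.FG := IsNoetherian.noetherian K
  have hKBfg : KB.FG := IsNoetherian.noetherian KB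
  have hKDfg : KD.FG := IsNoetherian.noetherian KD
  have hXc := CL.isAdicComplete K g hKfg
  have hSc0 := CL.isAdicComplete KB (algebraMap A B f) hKBfg
  have hYc := CL.isAdicComplete KD gD hKDfg
  have hmapS : I.map (algebraMap A S) = KB.map (algebraMap B S) :=
    (CL.map_base' I hKB _).trans (CL.map_algebraMap KB _).symm
  have hmapY : I.map (algebraMap A Y) = KD.map (algebraMap D Y) :=
    (CL.map_base' I hKD _).trans (CL.map_algebraMap KD _).symm
  let := α.toAlgebra
  let := ψ₁.toAlgebra
  let := ψg.toAlgebra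
  let := β.toAlgebra
  let := (ψg.comp α).toAlgebra
  have : IsScalarTower R X Y := IsScalarTower.of_algebraMap_eq fun r => rfl
  have : IsScalarTower R S Y := IsScalarTower.of_algebraMap_eq fun r => RingHom.congr_fun hsq r
  have : IsAdicComplete (I.map (algebraMap A S)) S := hmapS ▸ hSc0
  have hYc' : IsAdicComplete (I.map (algebraMap A Y)) Y := hmapY ▸ hYc
  have hSY : ∀ a, algebraMap S Y (algebraMap A S a) = algebraMap A Y a := fun a => by
    show β _ = _
    rw [IsScalarTower.algebraMap_apply A B S a, hβ, U.inr_algebraMap, ← IsScalarTower.algebraMap_apply]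
  suffices h5 : Module.Flat X (Localization.AtPrime Q) by
    have h6 := RingHom.flat_algebraMap_iff.2 h5
    rwa [IsScalarTower.algebraMap_eq X Y _] at h6
  refine TruncBaseChange.flat_atPrime (R := R) (S := S) (X := X) (Y := Y) Q (fun n => ?_)
    (RingHom.flat_algebraMap_iff.1 (by rw [IsScalarTower.algebraMap_eq R S _]; exact h))
  have : Module.Finite R (X ⧸ Q.comap (algebraMap X Y)) := hfin
  have := RigClosed.finite_quotient_pow (A := R) (Q.comap (algebraMap X Y)) n
  refine TruncBaseChange.isBaseChange_of_universal I hSY _ (fun J => ?_) ?_ ?_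
  · exact (RigClosed.isAdicComplete_quotient (I.map (algebraMap A Y)) J).toIsHausdorff
  · intro W _ K' _ x s hxs hs
    let c : C →+* W := x.comp (algebraMap C X)
    let b : B →+* W := s.comp (algebraMap B S)
    have hcb : ∀ a, c (algebraMap A C a) = b (algebraMap A B a) := fun a => by
      show x (algebraMap C X _) = s (algebraMap B S _)
      rw [← hα, ← hψ₁]
      exact RingHom.congr_fun hxs (algebraMap A R a)
    have hcK : K.map c ≤ K' := by
      rw [hK, Ideal.map_map, show c.comp (algebraMap A C) = s.comp (algebraMap A S) from RingHom.ext fun a =>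
        (hcb a).trans (congrArg s (IsScalarTower.algebraMap_apply A B S a).symm), ← Ideal.map_map]
      exact hs
    obtain ⟨θ, hθc, hθb⟩ := U.exists_hom (K := K') c b hcb (hK ▸ hcK)
    have hθK : KD.map θ ≤ K' := by
      rw [hKD, Ideal.map_map, show θ.comp (algebraMap A D) = c.comp (algebraMap A C) from RingHom.ext fun a =>
        (congrArg θ (IsScalarTower.algebraMap_apply A C D a)).trans (hθc _), ← Ideal.map_map, ← hK]
      exact hcK
    obtain ⟨τ, hτ⟩ := CL.exists_hom (K := K') KD gD θ hθK (by
      rw [hgD, hθc]; exact (CL.isUnit K g).map x)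
    refine ⟨τ, ?_, ?_⟩
    · refine CL.hom_ext (K := K') K g hKfg _ _ ?_ fun a => ?_
      · rw [show (τ.comp (algebraMap X Y)).comp (algebraMap C X) = c from RingHom.ext fun a => by
          show τ (ψg _) = _
          rw [hψg, hτ, hθc]]
        exact hcK
      · show τ (ψg _) = _
        rw [hψg, hτ, hθc]; rfl
    · refine CL.hom_ext (K := K') KB _ hKBfg _ _ ?_ fun a => ?_
      · rw [show (τ.comp (algebraMap S Y)).comp (algebraMap B S) = b from RingHom.ext fun a => by
          show τ (β _) = _
          rw [hβ, hτ, hθb]]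
        show KB.map (s.comp (algebraMap B S)) ≤ K'
        rw [← Ideal.map_map, ← hmapS]
        exact hs
      · show τ (β _) = _
        rw [hβ, hτ, hθb]; rfl
  · intro W _ K' _ τ₁ τ₂ hcont hX hS
    rw [hmapY] at hcont
    refine CL.hom_ext (K := K') KD gD hKDfg _ _ (by rw [← Ideal.map_map]; exact hcont) fun d => ?_
    refine RingHom.congr_fun (U.hom_ext (K := K') (τ₁.comp (algebraMap D Y)) (τ₂.comp (algebraMap D Y))
      ?_ (fun c => ?_) (fun b => ?_)) d
    · have hKCD : (I.map (algebraMap A C)).map (algebraMap C D) = KD :=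
        (Ideal.map_map _ _).trans ((congrArg (fun h => I.map h) (IsScalarTower.algebraMap_eq A C D).symm).trans hKD.symm)
      exact ((Ideal.map_map _ _).symm.trans ((congrArg (Ideal.map (τ₁.comp (algebraMap D Y))) hKCD).trans
        (Ideal.map_map _ _).symm)).trans_le hcont
    · show τ₁ (algebraMap D Y (algebraMap C D c)) = τ₂ (algebraMap D Y (algebraMap C D c))
      rw [← hψg]
      exact RingHom.congr_fun hX _
    · show τ₁ (algebraMap D Y _) = τ₂ (algebraMap D Y _)
      rw [← hβ]
      exact RingHom.congr_fun hS _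

/-- Rig-flatness is stable under completed base change. -/
theorem rigFlat_baseChange {A : Type u} [CommRing A] [IsNoetherianRing A] (I : Ideal A) (B C : Type u)
    [CommRing B] [CommRing C] [Algebra A B] [Algebra A C] [IsNoetherianRing B] [IsNoetherianRing C]
    {D : Type u} [CommRing D] [Algebra A D] [Algebra C D] [IsScalarTower A C D] [IsNoetherianRing D]
    {inr : B →+* D} (U : CompletedTensor I B C D inr)
    (hftD : ∀ J : Ideal D, J = I.map (algebraMap A D) → Algebra.FiniteType A (D ⧸ J))
    (hAB : ∀ f : A, ∀ ψ : CL I f →+* CL (I.map (algebraMap A B)) (algebraMap A B f),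
      ψ.comp (algebraMap (Localization.Away f) (CL I f)) =
        (algebraMap (Localization.Away (algebraMap A B f)) (CL (I.map (algebraMap A B)) (algebraMap A B f))).comp
          (Localization.awayMap (algebraMap A B) f) →
      ∀ qf : PrimeSpectrum (CL (I.map (algebraMap A B)) (algebraMap A B f)),
        (¬ (((I.map (algebraMap A B)).map (algebraMap B (Localization.Away (algebraMap A B f)))).map
            (algebraMap (Localization.Away (algebraMap A B f)) (CL (I.map (algebraMap A B)) (algebraMap A B f)))) ≤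
            qf.asIdeal ∧
          ∀ y : PrimeSpectrum (CL (I.map (algebraMap A B)) (algebraMap A B f)), qf ≤ y →
            ¬ (((I.map (algebraMap A B)).map (algebraMap B (Localization.Away (algebraMap A B f)))).map
              (algebraMap (Localization.Away (algebraMap A B f)) (CL (I.map (algebraMap A B)) (algebraMap A B f)))) ≤
              y.asIdeal → y = qf) →
        ((algebraMap (CL (I.map (algebraMap A B)) (algebraMap A B f)) (Localization.AtPrime qf.asIdeal)).comp ψ).Flat)
    (K : Ideal C) (hK : K = I.map (algebraMap A C)) (KD : Ideal D) (hKD : KD = I.map (algebraMap A D))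
    (hKCD : K.map (algebraMap C D) = KD)
    (h : C) (ψh : CL K h →+* CL KD (algebraMap C D h))
    (hψh : ψh.comp (algebraMap (Localization.Away h) (CL K h)) =
      (algebraMap (Localization.Away (algebraMap C D h)) (CL KD (algebraMap C D h))).comp
        (Localization.awayMap (algebraMap C D) h))
    (q : PrimeSpectrum (CL KD (algebraMap C D h)))
    (hq : ¬ ((KD.map (algebraMap D (Localization.Away (algebraMap C D h)))).map
        (algebraMap (Localization.Away (algebraMap C D h)) (CL KD (algebraMap C D h)))) ≤ q.asIdeal ∧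
      ∀ y : PrimeSpectrum (CL KD (algebraMap C D h)), q ≤ y →
        ¬ ((KD.map (algebraMap D (Localization.Away (algebraMap C D h)))).map
          (algebraMap (Localization.Away (algebraMap C D h)) (CL KD (algebraMap C D h)))) ≤ y.asIdeal → y = q) :
    ((algebraMap (CL KD (algebraMap C D h)) (Localization.AtPrime q.asIdeal)).comp ψh).Flat := by
  let KB := I.map (algebraMap A B)
  let hD := algebraMap C D h
  have hI : I.FG := IsNoetherian.noetherian I
  have hKfg : K.FG := IsNoetherian.noetherian K
  have hKBfg : KB.FG := IsNoetherian.noetherian KB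
  have hKDfg : KD.FG := IsNoetherian.noetherian KD
  let Y0 := CL KD hD
  have : IsNoetherianRing Y0 := CL.isNoetherianRing KD hD
  have hmapY : I.map (algebraMap A Y0) = KD.map (algebraMap D Y0) :=
    (CL.map_base' I hKD _).trans (CL.map_algebraMap KD _).symm
  have hYc : IsAdicComplete (I.map (algebraMap A Y0)) Y0 := hmapY ▸ CL.isAdicComplete KD _ hKDfg
  have hftY : Algebra.FiniteType A (Y0 ⧸ I.map (algebraMap A Y0)) :=
    hmapY ▸ CL.finiteType_quotient KD _ hKDfg (hftD KD hKD)
  have hqY : ¬ I.map (algebraMap A Y0) ≤ q.asIdeal ∧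
      ∀ y : PrimeSpectrum Y0, q ≤ y → ¬ I.map (algebraMap A Y0) ≤ y.asIdeal → y = q := by
    rw [hmapY, CL.map_algebraMap]; exact hq
  obtain ⟨f, hu, hfin⟩ := RigClosed.exists_point I (C := Y0) hftY q hqY
  have : q.asIdeal.IsPrime := q.2
  let Δ := Y0 ⧸ q.asIdeal
  have hΔc := RigClosed.isAdicComplete_point I (C := Y0) q.asIdeal
  let δ : D →+* Δ := (Ideal.Quotient.mk q.asIdeal).comp (algebraMap D Y0)
  have hδ : ∀ a, δ (algebraMap A D a) = algebraMap A Δ a := fun a => by
    show Ideal.Quotient.mk q.asIdeal (algebraMap D Y0 (algebraMap A D a)) = _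
    rw [← IsScalarTower.algebraMap_apply A D Y0 a]; rfl
  have hmapδ : KD.map δ = I.map (algebraMap A Δ) :=
    (congrArg (Ideal.map δ) hKD).trans ((Ideal.map_map _ _).trans (congrArg (fun h => I.map h)
      (RingHom.ext hδ : δ.comp (algebraMap A D) = algebraMap A Δ)))
  let g := h * algebraMap A C f
  let gD := algebraMap C D g
  let fB := algebraMap A B f
  let R := CL I f
  let X := CL K g
  let S := CL KB fB
  let Y := CL KD gD
  have := CL.isNoetherianRing I f
  have := CL.isNoetherianRing K g
  have := CL.isNoetherianRing KB fB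
  have := CL.isNoetherianRing KD gD
  have hRc := CL.isAdicComplete I f hI
  have hXc := CL.isAdicComplete K g hKfg
  have hSc := CL.isAdicComplete KB fB hKBfg
  have hYc' := CL.isAdicComplete KD gD hKDfg
  have hfg : algebraMap A D f ∣ gD := by
    rw [IsScalarTower.algebraMap_apply A C D]
    exact (map_dvd (algebraMap C D)) (⟨h, mul_comm _ _⟩ : algebraMap A C f ∣ g)
  have hcontB : KB.map inr ≤ KD := by
    rw [hKD]
    exact ((Ideal.map_map _ _).trans (congrArg (fun h => I.map h)
      (RingHom.ext U.inr_algebraMap : inr.comp (algebraMap A B) = algebraMap A D))).le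
  obtain ⟨α, hα⟩ := CL.exists_map I K hKfg g f (algebraMap A C) hK.ge
    (isUnit_of_dvd_unit ((map_dvd _) ⟨h, mul_comm _ _⟩) (CL.isUnit K g))
  obtain ⟨ψg, hψg⟩ := CL.exists_map K KD hKDfg gD g (algebraMap C D) hKCD.le (CL.isUnit _ _)
  obtain ⟨ψ₁, hψ₁⟩ := CL.exists_map I KB hKBfg fB f (algebraMap A B) le_rfl (CL.isUnit _ _)
  obtain ⟨β, hβ⟩ := CL.exists_map KB KD hKDfg gD fB inr hcontB
    (by
      rw [U.inr_algebraMap]
      exact isUnit_of_dvd_unit ((map_dvd _) hfg) (CL.isUnit KD gD))
  have hcA : ∀ a, ψg (α (algebraMap A R a)) = algebraMap D Y (algebraMap A D a) := fun a => by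
    rw [hα, hψg, ← IsScalarTower.algebraMap_apply A C D]
  have hcB : ∀ a, β (ψ₁ (algebraMap A R a)) = algebraMap D Y (algebraMap A D a) := fun a => by
    rw [hψ₁, hβ, U.inr_algebraMap]
  have hsq : ψg.comp α = β.comp ψ₁ := by
    refine CL.hom_ext (K := KD.map (algebraMap D Y)) I f hI _ _ ?_ fun a => (hcA a).trans (hcB a).symm
    rw [show (ψg.comp α).comp (algebraMap A R) = (algebraMap D Y).comp (algebraMap A D) from RingHom.ext hcA,
      ← Ideal.map_map]
    exact Ideal.map_mono hKD.ge
  obtain ⟨φA, hφA⟩ := CL.exists_hom (K := I.map (algebraMap A Δ)) I f (algebraMap A Δ) le_rfl hu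
  let := φA.toAlgebra
  have : IsScalarTower A R Δ := IsScalarTower.of_algebraMap_eq fun a => (hφA a).symm
  have hφAfin : φA.Finite := hfin _ (CL.isUnit I f)
  obtain ⟨φY, hφY⟩ := CL.exists_hom (K := I.map (algebraMap A Δ)) KD gD δ hmapδ.le
    (by
      show IsUnit (δ (algebraMap C D (h * algebraMap A C f)))
      rw [map_mul, map_mul]
      refine IsUnit.mul ((CL.isUnit KD hD).map (Ideal.Quotient.mk q.asIdeal)) ?_
      rw [← IsScalarTower.algebraMap_apply A C D, hδ]; exact hu)
  have hφA' : ∀ a, φY (algebraMap D Y (algebraMap A D a)) = algebraMap A Δ a := fun a => (hφY _).trans (hδ a)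
  have hφcomp : (φY.comp β).comp ψ₁ = φA := by
    refine CL.hom_ext (K := I.map (algebraMap A Δ)) I f hI _ _ ?_ fun a => ?_
    · rw [show ((φY.comp β).comp ψ₁).comp (algebraMap A R) = algebraMap A Δ from RingHom.ext fun a => by
        show φY (β (ψ₁ _)) = _
        rw [hcB, hφA']]
    · show φY (β (ψ₁ _)) = _
      rw [hcB, hφA', hφA]
  let qY : PrimeSpectrum Y := ⟨RingHom.ker φY, RingHom.ker_isPrime _⟩
  have : qY.asIdeal.IsPrime := qY.2
  have hAS : ∀ a, (φY.comp β) (algebraMap A S a) = algebraMap A Δ a := fun a => by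
    show φY (β _) = _
    rw [IsScalarTower.algebraMap_apply A B S a, ← hψ₁, hcB, hφA']
  have hqb := RigClosed.rigClosed_of_chart I q hqY ψ₁ φA hφAfin (φY.comp β) hAS hφcomp
    (PrimeSpectrum.comap β qY) (RingHom.comap_ker φY β)
  rw [CL.map_base, CL.map_algebraMap] at hqb
  have h1 := hAB f ψ₁ (CL.comp_eq_of_apply hψ₁) _ hqb
  have h2 : ((algebraMap Y (Localization.AtPrime qY.asIdeal)).comp ψg).Flat := by
    refine flat_core I B C U f g gD K KB KD hK rfl hKD rfl α ψg ψ₁ β hα hψg hψ₁ hβ hsq qY.asIdeal ?_ h1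
    have hfinX : (φY.comp (ψg.comp α)).Finite := by
      rw [hsq, ← RingHom.comp_assoc, hφcomp]; exact hφAfin
    let := α.toAlgebra
    have h3 : (qY.asIdeal.comap ψg) = RingHom.ker (φY.comp ψg) := RingHom.comap_ker φY ψg
    let ι : (X ⧸ qY.asIdeal.comap ψg) →+* Δ := Ideal.Quotient.lift _ (φY.comp ψg) fun x hx => hx
    have hι : Function.Injective ι := RingHom.lift_injective_of_ker_le_ideal _ _ (RingHom.comap_ker φY ψg).ge
    let := (φY.comp (ψg.comp α)).toAlgebra
    let ιₐ : (X ⧸ qY.asIdeal.comap ψg) →ₐ[R] Δ := { toRingHom := ι, commutes' := fun r => rfl }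
    have : Module.Finite R Δ := hfinX
    exact Module.Finite.of_injective ιₐ.toLinearMap hι
  obtain ⟨ρX, hρX⟩ := CL.exists_map K K hKfg g h (RingHom.id C) (Ideal.map_id _).le
    (isUnit_of_dvd_unit ((map_dvd _) ⟨algebraMap A C f, rfl⟩) (CL.isUnit K g))
  obtain ⟨ρY, hρY⟩ := CL.exists_map KD KD hKDfg gD hD (RingHom.id D) (Ideal.map_id _).le
    (isUnit_of_dvd_unit ((map_dvd _) ((map_dvd (algebraMap C D)) (⟨algebraMap A C f, rfl⟩ : h ∣ g)))
      (CL.isUnit KD gD))
  have hρXf : ρX.Flat := CL.flat_map K K g (RingHom.Flat.of_bijective Function.bijective_id)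
    (Ideal.map_id _).le ρX hρX
  have hρYf : ρY.Flat := CL.flat_map KD KD gD (RingHom.Flat.of_bijective Function.bijective_id)
    (Ideal.map_id _).le ρY hρY
  have hsq2 : ψg.comp ρX = ρY.comp ψh := by
    refine CL.hom_ext (K := KD.map (algebraMap D Y)) K h hKfg _ _ ?_ fun a => ?_
    · rw [show (ψg.comp ρX).comp (algebraMap C _) = (algebraMap D Y).comp (algebraMap C D) from
        RingHom.ext fun a => by
          show ψg (ρX _) = _
          rw [hρX, hψg]; rfl, ← Ideal.map_map]
      exact Ideal.map_mono hKCD.le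
    · show ψg (ρX _) = ρY (ψh _)
      rw [CL.apply_of_comp_eq hψh, hρX, hψg, hρY]; rfl
  have h4 := hρXf.comp h2
  rw [RingHom.comp_assoc, hsq2] at h4
  have hcomap : PrimeSpectrum.comap ρY qY = q := by
    refine PrimeSpectrum.ext ?_
    have hcomp : φY.comp ρY = Ideal.Quotient.mk q.asIdeal := by
      refine CL.hom_ext (K := I.map (algebraMap A Δ)) KD _ hKDfg _ _ ?_ fun c => ?_
      · rw [show (φY.comp ρY).comp (algebraMap D _) = δ from RingHom.ext fun c => by
          show φY (ρY _) = _
          rw [hρY, RingHom.id_apply, hφY]]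
        exact hmapδ.le
      · show φY (ρY _) = _
        rw [hρY, RingHom.id_apply, hφY]
        rfl
    exact (RingHom.comap_ker φY ρY).trans ((congrArg RingHom.ker hcomp).trans Ideal.mk_ker)
  exact FlatPoint.flat_congr ψh hcomap (FlatPoint.flat_descend ψh ρY qY.asIdeal hρYf h4)

end AdicRingLib.RigBaseChange
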