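import Groth.Agent.AdicRingLib.RigPointed
import Groth.Agent.AdicRingLib.FlatPoint

/-! Charts around rig-closed points of completed localisations. -/

set_option autoImplicit false

universe u

namespace AdicRingLib.CL

variable {A : Type u} [CommRing A] (I : Ideal A)

theorem map_base {B : Type u} [CommRing B] [Algebra A B] (g : B) :
    I.map (algebraMap A (CL (I.map (algebraMap A B)) g)) =
      (I.map (algebraMap A B)).map (algebraMap B (CL (I.map (algebraMap A B)) g)) := by
  exact (congrArg (fun h => I.map h) (IsScalarTower.algebraMap_eq A B _)).trans (Ideal.map_map _ _).symm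

/-- The canonical map between completed localisations along a ring map. -/
theorem exists_map [IsNoetherianRing A] {B : Type u} [CommRing B] (K : Ideal B) (hK : K.FG) (g : B) (f : A)
    (h : A →+* B) (hI : I.map h ≤ K) (hu : IsUnit (algebraMap B (CL K g) (h f))) :
    ∃ ψ : CL I f →+* CL K g, (∀ a, ψ (algebraMap A _ a) = algebraMap B _ (h a)) := by
  have := isAdicComplete K g hK
  exact exists_hom (K := K.map (algebraMap B (CL K g))) I f ((algebraMap B (CL K g)).comp h)
    (by rw [← Ideal.map_map]; exact Ideal.map_mono hI) hu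

theorem map_jacobson {B : Type u} [CommRing B] (K : Ideal B) (hK : K.FG) (g : B) {f : A} {h : A →+* B}
    (hI : I.map h ≤ K) (ψ : CL I f →+* CL K g)
    (hψ : ∀ a, ψ (algebraMap A _ a) = algebraMap B _ (h a)) :
    (I.map (algebraMap A (CL I f))).map ψ ≤ Ideal.jacobson ⊥ := by
  have := isAdicComplete K g hK
  rw [Ideal.map_map, show ψ.comp (algebraMap A _) = (algebraMap B (CL K g)).comp h from RingHom.ext hψ,
    ← Ideal.map_map]
  exact (Ideal.map_mono hI).trans (IsAdicComplete.le_jacobson_bot _)

/-- Maps between completed localisations along flat maps are flat. -/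
theorem flat_map [IsNoetherianRing A] {B : Type u} [CommRing B] [IsNoetherianRing B] (K : Ideal B) (g : B)
    {f : A} {h : A →+* B} (hh : h.Flat) (hI : I.map h ≤ K) (ψ : CL I f →+* CL K g)
    (hψ : ∀ a, ψ (algebraMap A _ a) = algebraMap B _ (h a)) : ψ.Flat := by
  have := isNoetherianRing K g
  refine flat_of_flat_comp I f ψ (map_jacobson I K (IsNoetherian.noetherian K) g hI ψ hψ) ?_
  rw [show ψ.comp (algebraMap A _) = (algebraMap B (CL K g)).comp h from RingHom.ext hψ]
  exact hh.comp (flat K g)

end AdicRingLib.CL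

namespace AdicRingLib.RigClosed

variable {A : Type u} [CommRing A] (I : Ideal A)

/-- A chart at a rig-closed point: a localisation of the base on which the point is finite. -/
theorem exists_chart [IsNoetherianRing A] {C : Type u} [CommRing C] [IsNoetherianRing C] [Algebra A C] (e : A)
    (hft : Algebra.FiniteType A (C ⧸ I.map (algebraMap A C)))
    (q : PrimeSpectrum (CL (I.map (algebraMap A C)) (algebraMap A C e)))
    (hq : ¬ I.map (algebraMap A (CL (I.map (algebraMap A C)) (algebraMap A C e))) ≤ q.asIdeal ∧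
      ∀ y : PrimeSpectrum (CL (I.map (algebraMap A C)) (algebraMap A C e)), q ≤ y →
        ¬ I.map (algebraMap A (CL (I.map (algebraMap A C)) (algebraMap A C e))) ≤ y.asIdeal → y = q) :
    ∃ f : A, e ∣ f ∧ IsUnit (algebraMap A (CL (I.map (algebraMap A C)) (algebraMap A C e) ⧸ q.asIdeal) f) ∧
      ∃ φ : CL I f →+* CL (I.map (algebraMap A C)) (algebraMap A C e) ⧸ q.asIdeal,
        (∀ a, φ (algebraMap A _ a) = algebraMap A _ a) ∧ φ.Finite := by
  let K := I.map (algebraMap A C)
  let C' := CL K (algebraMap A C e)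
  have hK : K.FG := IsNoetherian.noetherian K
  have hmap : I.map (algebraMap A C') = K.map (algebraMap C C') := CL.map_base I _
  have : IsNoetherianRing C' := CL.isNoetherianRing K _
  have : IsAdicComplete (I.map (algebraMap A C')) C' := hmap ▸ CL.isAdicComplete K _ hK
  have hft' : Algebra.FiniteType A (C' ⧸ I.map (algebraMap A C')) := by
    have h1 : Algebra.FiniteType A (C' ⧸ K.map (algebraMap C C')) := CL.finiteType_quotient K _ hK hft
    exact hmap ▸ h1
  obtain ⟨f₀, hf₀, hfin⟩ := exists_point I (C := C') hft' q hq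
  have hc := isAdicComplete_point I (C := C') q.asIdeal
  have hu : IsUnit (algebraMap A (C' ⧸ q.asIdeal) (e * f₀)) := by
    rw [map_mul]
    refine IsUnit.mul ?_ hf₀
    have h1 := (CL.isUnit K (algebraMap A C e)).map (Ideal.Quotient.mk q.asIdeal)
    rwa [← IsScalarTower.algebraMap_apply] at h1
  obtain ⟨φ, hφ⟩ := CL.exists_hom (K := I.map (algebraMap A (C' ⧸ q.asIdeal))) I (e * f₀)
    (algebraMap A (C' ⧸ q.asIdeal)) le_rfl hu
  refine ⟨e * f₀, ⟨f₀, rfl⟩, hu, φ, hφ, ?_⟩
  let := φ.toAlgebra
  have : IsScalarTower A (CL I (e * f₀)) (C' ⧸ q.asIdeal) :=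
    IsScalarTower.of_algebraMap_eq fun a => (hφ a).symm
  have := CL.isAdicComplete I (e * f₀) (IsNoetherian.noetherian I)
  exact hfin _ (isUnit_of_dvd_unit ((map_dvd _) ⟨e, mul_comm _ _⟩) (CL.isUnit I (e * f₀)))

/-- A map to a point factoring a chart is finite, with rig-closed kernel. -/
theorem rigClosed_of_chart {C : Type u} [CommRing C] [Algebra A C] (q : PrimeSpectrum C)
    (hq : ¬ I.map (algebraMap A C) ≤ q.asIdeal ∧
      ∀ y : PrimeSpectrum C, q ≤ y → ¬ I.map (algebraMap A C) ≤ y.asIdeal → y = q)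
    {R S : Type u} [CommRing R] [CommRing S] [Algebra A S] (ρ : R →+* S) (φ : R →+* C ⧸ q.asIdeal)
    (hfin : φ.Finite) (χ : S →+* C ⧸ q.asIdeal) (hχ : ∀ a, χ (algebraMap A S a) = algebraMap A _ a)
    (h : χ.comp ρ = φ) (p : PrimeSpectrum S) (hp : p.asIdeal = RingHom.ker χ) :
    ¬ I.map (algebraMap A S) ≤ p.asIdeal ∧
      ∀ y : PrimeSpectrum S, p ≤ y → ¬ I.map (algebraMap A S) ≤ y.asIdeal → y = p :=
  rigClosed_point I q hq χ hχ (RingHom.Finite.of_comp_finite (f := ρ) (h ▸ hfin)) p hp

end AdicRingLib.RigClosed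

namespace AdicRingLib.CL

variable {A : Type u} [CommRing A]

theorem map_base' (I : Ideal A) {C : Type u} [CommRing C] [Algebra A C] {K : Ideal C}
    (hK : K = I.map (algebraMap A C)) (g : C) :
    I.map (algebraMap A (CL K g)) =
      (K.map (algebraMap C (Localization.Away g))).map (algebraMap (Localization.Away g) (CL K g)) :=
  (congrArg (fun h => I.map h) (IsScalarTower.algebraMap_eq A C (CL K g))).trans
    ((Ideal.map_map (algebraMap A C) _).symm.trans
      ((congrArg (Ideal.map (algebraMap C (CL K g))) hK.symm).trans (CL.map_algebraMap K g)))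

/-- Primes containing the ideal of definition are determined by their traces. -/
theorem eq_of_comap_eq (J : Ideal A) (f : A) (hJ : J.FG) (P P' : Ideal (CL J f)) [P.IsPrime] [P'.IsPrime]
    (hP : J.map (algebraMap A (CL J f)) ≤ P) (hP' : J.map (algebraMap A (CL J f)) ≤ P')
    (h : P.comap (algebraMap A (CL J f)) = P'.comap (algebraMap A (CL J f))) : P = P' := by
  suffices key : ∀ (Q Q' : Ideal (CL J f)) [Q.IsPrime] [Q'.IsPrime], J.map (algebraMap A (CL J f)) ≤ Q →
      J.map (algebraMap A (CL J f)) ≤ Q' → Q.comap (algebraMap A (CL J f)) = Q'.comap (algebraMap A (CL J f)) →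
      Q ≤ Q' from le_antisymm (key P P' hP hP' h) (key P' P hP' hP h.symm)
  intro Q Q' _ _ hQ hQ' h x hx
  obtain ⟨c, hc⟩ := exists_sub_mem_map_pow (fg J f hJ) 1 x
  rw [pow_one, ← map_algebraMap] at hc
  obtain ⟨⟨a, s⟩, rfl⟩ := IsLocalization.mk'_surjective (Submonoid.powers f) c
  let α := algebraMap (Localization.Away f) (CL J f)
  let y := α (IsLocalization.mk' (Localization.Away f) a s)
  have ha : y * algebraMap A (CL J f) (s : A) = algebraMap A (CL J f) a := by
    rw [IsScalarTower.algebraMap_apply A (Localization.Away f) (CL J f) (s : A), ← map_mul,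
      IsLocalization.mk'_spec]
    exact (IsScalarTower.algebraMap_apply A (Localization.Away f) (CL J f) a).symm
  have hu : IsUnit (algebraMap A (CL J f) (s : A)) := by
    obtain ⟨k, hk⟩ := s.2
    rw [← show f ^ k = (s : A) from hk, map_pow]
    exact (isUnit J f).pow k
  have hy : y ∈ Q := by simpa [y, α] using sub_mem hx (hQ hc)
  have h1 : a ∈ Q.comap (algebraMap A (CL J f)) := by
    rw [Ideal.mem_comap, ← ha]; exact Q.mul_mem_right _ hy
  rw [h, Ideal.mem_comap, ← ha] at h1
  have h2 : y ∈ Q' := (Ideal.mul_unit_mem_iff_mem Q' hu).1 h1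
  simpa [y, α] using add_mem (hQ' hc) h2

end AdicRingLib.CL

namespace AdicRingLib.FlatPoint

theorem flat_congr {R S : Type u} [CommRing R] [CommRing S] (f : R →+* S) {Q Q' : PrimeSpectrum S}
    (h : Q = Q') (hQ : ((algebraMap S (Localization.AtPrime Q.asIdeal)).comp f).Flat) :
    ((algebraMap S (Localization.AtPrime Q'.asIdeal)).comp f).Flat := by
  subst h; exact hQ

end AdicRingLib.FlatPoint
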