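import Groth.Agent.AdicRingLib.RigClosedFinite
import Groth.Agent.AdicRingLib.Completion
import Groth.Agent.CompleteLib.CompletionHom
import Mathlib.RingTheory.AdicCompletion.AsTensorProduct
import Mathlib.RingTheory.Localization.AtPrime.Basic

/-! Primes of a completion with finite residue domain. -/

set_option autoImplicit false

universe u

namespace AdicRingLib.RigClosed

variable {A T : Type u} [CommRing A] [CommRing T] [Algebra A T] (I : Ideal A)

theorem map_algebraMap_completion :
    I.map (algebraMap A (AdicCompletion (I.map (algebraMap A T)) T)) = (I.map (algebraMap A T)).map (algebraMap T (AdicCompletion (I.map (algebraMap A T)) T)) := by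
  rw [Ideal.map_map, ← IsScalarTower.algebraMap_eq]

theorem isAdicComplete_completion (hK : (I.map (algebraMap A T)).FG) :
    IsAdicComplete (I.map (algebraMap A (AdicCompletion (I.map (algebraMap A T)) T))) (AdicCompletion (I.map (algebraMap A T)) T) := by
  rw [map_algebraMap_completion]
  exact isAdicComplete_map hK

theorem finiteType_completion_quotient [Algebra.FiniteType A T] (hK : (I.map (algebraMap A T)).FG) :
    Algebra.FiniteType A ((AdicCompletion (I.map (algebraMap A T)) T) ⧸ I.map (algebraMap A (AdicCompletion (I.map (algebraMap A T)) T))) := by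
  refine Algebra.FiniteType.of_surjective
    ((Ideal.Quotient.mkₐ A _).comp (IsScalarTower.toAlgHom A T (AdicCompletion (I.map (algebraMap A T)) T))) fun y => ?_
  obtain ⟨x, rfl⟩ := Ideal.Quotient.mk_surjective y
  obtain ⟨c, hc⟩ := exists_sub_mem_map_pow hK 1 x
  rw [pow_one, ← map_algebraMap_completion] at hc
  exact ⟨c, (Ideal.Quotient.eq.2 hc).symm⟩

variable [IsNoetherianRing A] [IsAdicComplete I A] [IsNoetherianRing T]
  (q : Ideal (AdicCompletion (I.map (algebraMap A T)) T)) [q.IsPrime] [Module.Finite A ((AdicCompletion (I.map (algebraMap A T)) T) ⧸ q)]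

theorem exists_sub_mem (b : (AdicCompletion (I.map (algebraMap A T)) T)) : ∃ t : T, b - algebraMap T (AdicCompletion (I.map (algebraMap A T)) T) t ∈ q := by
  have hK : (I.map (algebraMap A T)).FG := IsNoetherian.noetherian _
  let M : Submodule A ((AdicCompletion (I.map (algebraMap A T)) T) ⧸ q) :=
    LinearMap.range ((Ideal.Quotient.mkₐ A q).comp (IsScalarTower.toAlgHom A T (AdicCompletion (I.map (algebraMap A T)) T))).toLinearMap
  have hM : M = ⊤ := by
    refine top_le_iff.1 (Submodule.le_of_le_smul_of_le_jacobson_bot (I := I) Module.Finite.fg_top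
      (IsAdicComplete.le_jacobson_bot I) fun y _ => ?_)
    obtain ⟨x, rfl⟩ := Ideal.Quotient.mk_surjective y
    obtain ⟨c, hc⟩ := exists_sub_mem_map_pow hK 1 x
    rw [pow_one, ← map_algebraMap_completion] at hc
    have h2 : Ideal.Quotient.mk q (x - algebraMap T (AdicCompletion (I.map (algebraMap A T)) T) c) ∈ (I • ⊤ : Submodule A ((AdicCompletion (I.map (algebraMap A T)) T) ⧸ q)) := by
      rw [Ideal.smul_top_eq_map]
      have := Ideal.mem_map_of_mem (Ideal.Quotient.mk q) hc
      rwa [Ideal.map_map] at this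
    rw [map_sub] at h2
    exact Submodule.mem_sup.2 ⟨_, ⟨c, rfl⟩, _, h2, add_sub_cancel _ _⟩
  obtain ⟨t, ht⟩ : Ideal.Quotient.mk q b ∈ M := hM ▸ Submodule.mem_top
  exact ⟨t, Ideal.Quotient.eq.1 ht.symm⟩

theorem finite_comap : Module.Finite A (T ⧸ q.comap (algebraMap T (AdicCompletion (I.map (algebraMap A T)) T))) := by
  let f : (T ⧸ q.comap (algebraMap T (AdicCompletion (I.map (algebraMap A T)) T))) →ₐ[A] (AdicCompletion (I.map (algebraMap A T)) T) ⧸ q :=
    Ideal.quotientMapₐ q (IsScalarTower.toAlgHom A T (AdicCompletion (I.map (algebraMap A T)) T)) le_rfl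
  have hinj : Function.Injective f := Ideal.quotientMap_injective (f := algebraMap T (AdicCompletion (I.map (algebraMap A T)) T))
  have hsurj : Function.Surjective f := fun y => by
    obtain ⟨x, rfl⟩ := Ideal.Quotient.mk_surjective y
    obtain ⟨t, ht⟩ := exists_sub_mem I q x
    exact ⟨Ideal.Quotient.mk _ t, (Ideal.Quotient.eq.2 ht).symm⟩
  exact Module.Finite.equiv (AlgEquiv.ofBijective f ⟨hinj, hsurj⟩).symm.toLinearEquiv

/-- The completion map to `T/q'^m`, with kernel generated by `q'^m`. -/
theorem exists_lift (m : ℕ) : ∃ σ : (AdicCompletion (I.map (algebraMap A T)) T) →+* T ⧸ (q.comap (algebraMap T (AdicCompletion (I.map (algebraMap A T)) T))) ^ m,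
    (∀ t, σ (algebraMap T (AdicCompletion (I.map (algebraMap A T)) T) t) = Ideal.Quotient.mk _ t) ∧
      RingHom.ker σ = ((q.comap (algebraMap T (AdicCompletion (I.map (algebraMap A T)) T))) ^ m).map (algebraMap T (AdicCompletion (I.map (algebraMap A T)) T)) := by
  have hK : (I.map (algebraMap A T)).FG := IsNoetherian.noetherian _
  have := finite_comap I q
  set q' := q.comap (algebraMap T (AdicCompletion (I.map (algebraMap A T)) T))
  have := finite_quotient_pow (A := A) q' m
  let J := I.map (algebraMap A (T ⧸ q' ^ m))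
  have : IsAdicComplete I (T ⧸ q' ^ m) := CompleteLib.isAdicComplete_of_finite
  have : IsAdicComplete J (T ⧸ q' ^ m) := (IsAdicComplete.map_algebraMap_iff _ _).2 inferInstance
  have hKJ : (I.map (algebraMap A T)).map (Ideal.Quotient.mk (q' ^ m)) ≤ J := by rw [Ideal.map_map]; rfl
  let σ := CompleteLib.completionLift _ J (Ideal.Quotient.mk (q' ^ m)) hKJ
  have hσ : ∀ t, σ (algebraMap T (AdicCompletion (I.map (algebraMap A T)) T) t) = Ideal.Quotient.mk _ t := fun t =>
    CompleteLib.completionLift_algebraMap _ J _ hKJ t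
  refine ⟨σ, hσ, le_antisymm (fun x hx => ?_) ?_⟩
  · set Q := (q' ^ m).map (algebraMap T (AdicCompletion (I.map (algebraMap A T)) T))
    have : IsNoetherianRing (AdicCompletion (I.map (algebraMap A T)) T) := isNoetherianRing_adicCompletion _
    have := isAdicComplete_completion I hK
    have := isAdicComplete_quotient (I.map (algebraMap A (AdicCompletion (I.map (algebraMap A T)) T))) Q
    let τ : (T ⧸ q' ^ m) →+* (AdicCompletion (I.map (algebraMap A T)) T) ⧸ Q :=
      Ideal.Quotient.lift _ ((Ideal.Quotient.mk Q).comp (algebraMap T (AdicCompletion (I.map (algebraMap A T)) T))) fun t ht =>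
        Ideal.Quotient.eq_zero_iff_mem.2 (Ideal.mem_map_of_mem _ ht)
    have hτ : τ.comp σ = Ideal.Quotient.mk Q := by
      refine CompleteLib.completion_hom_ext (J := (I.map (algebraMap A (AdicCompletion (I.map (algebraMap A T)) T))).map (Ideal.Quotient.mk Q))
        _ hK _ _ ?_ fun c => ?_
      · rw [show (τ.comp σ).comp (algebraMap T (AdicCompletion (I.map (algebraMap A T)) T)) = (Ideal.Quotient.mk Q).comp (algebraMap T (AdicCompletion (I.map (algebraMap A T)) T)) from
          RingHom.ext fun c => by simp [hσ, τ], ← Ideal.map_map, ← map_algebraMap_completion]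
      · simp [hσ, τ]
    have h1 : τ (σ x) = 0 := by rw [RingHom.mem_ker.1 hx, map_zero]
    exact Ideal.Quotient.eq_zero_iff_mem.1 ((RingHom.congr_fun hτ x).symm.trans h1)
  · rw [Ideal.map_le_iff_le_comap]
    intro t ht
    rw [Ideal.mem_comap, RingHom.mem_ker, hσ]
    exact Ideal.Quotient.eq_zero_iff_mem.2 ht

theorem map_comap_eq : (q.comap (algebraMap T (AdicCompletion (I.map (algebraMap A T)) T))).map (algebraMap T (AdicCompletion (I.map (algebraMap A T)) T)) = q := by
  refine le_antisymm Ideal.map_comap_le fun x hx => ?_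
  obtain ⟨σ, hσ, hker⟩ := exists_lift I q 1
  obtain ⟨t, ht⟩ := Ideal.Quotient.mk_surjective (σ x)
  have hd : x - algebraMap T (AdicCompletion (I.map (algebraMap A T)) T) t ∈ RingHom.ker σ := by rw [RingHom.mem_ker, map_sub, hσ, ht, sub_self]
  rw [hker, pow_one] at hd
  have ht' : t ∈ q.comap (algebraMap T (AdicCompletion (I.map (algebraMap A T)) T)) := by
    rw [Ideal.mem_comap, show algebraMap T (AdicCompletion (I.map (algebraMap A T)) T) t = x - (x - algebraMap T (AdicCompletion (I.map (algebraMap A T)) T) t) from (sub_sub_cancel _ _).symm]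
    exact sub_mem hx (Ideal.map_comap_le hd)
  exact (sub_add_cancel x (algebraMap T (AdicCompletion (I.map (algebraMap A T)) T) t)) ▸ add_mem hd (Ideal.mem_map_of_mem _ ht')

theorem exists_sub_mem_pow (m : ℕ) (b : (AdicCompletion (I.map (algebraMap A T)) T)) : ∃ t : T, b - algebraMap T (AdicCompletion (I.map (algebraMap A T)) T) t ∈ q ^ m := by
  obtain ⟨σ, hσ, hker⟩ := exists_lift I q m
  obtain ⟨t, ht⟩ := Ideal.Quotient.mk_surjective (σ b)
  have hd : b - algebraMap T (AdicCompletion (I.map (algebraMap A T)) T) t ∈ RingHom.ker σ := by rw [RingHom.mem_ker, map_sub, hσ, ht, sub_self]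
  rw [hker, Ideal.map_pow, map_comap_eq] at hd
  exact ⟨t, hd⟩

theorem mem_pow_comap (m : ℕ) (t : T) (ht : algebraMap T (AdicCompletion (I.map (algebraMap A T)) T) t ∈ q ^ m) :
    t ∈ (q.comap (algebraMap T (AdicCompletion (I.map (algebraMap A T)) T))) ^ m := by
  obtain ⟨σ, hσ, hker⟩ := exists_lift I q m
  have h : algebraMap T (AdicCompletion (I.map (algebraMap A T)) T) t ∈ RingHom.ker σ := by
    rw [hker, Ideal.map_pow, map_comap_eq]; exact ht
  rw [RingHom.mem_ker, hσ] at h
  exact Ideal.Quotient.eq_zero_iff_mem.1 h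

omit [IsNoetherianRing A] [IsAdicComplete I A] [IsNoetherianRing T] in
/-- Local rings of dense subrings. -/
theorem localRingHom_bijective_mod_pow {S : Type u} [CommRing S] [Algebra T S] (q : Ideal S) [q.IsPrime]
    (m : ℕ) (hm : 1 ≤ m) (hsurj : ∀ b : S, ∃ t : T, b - algebraMap T S t ∈ q ^ m)
    (hinj : ∀ t : T, algebraMap T S t ∈ q ^ m → t ∈ (q.comap (algebraMap T S)) ^ m) :
    (∀ x, Localization.localRingHom (q.comap (algebraMap T S)) q (algebraMap T S) rfl x ∈
        IsLocalRing.maximalIdeal (Localization.AtPrime q) ^ m →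
      x ∈ IsLocalRing.maximalIdeal (Localization.AtPrime (q.comap (algebraMap T S))) ^ m) ∧
    (∀ y, ∃ x, y - Localization.localRingHom (q.comap (algebraMap T S)) q (algebraMap T S) rfl x ∈
        IsLocalRing.maximalIdeal (Localization.AtPrime q) ^ m) := by
  set q' := q.comap (algebraMap T S)
  let R := Localization.AtPrime q
  let R' := Localization.AtPrime q'
  have hpow : IsLocalRing.maximalIdeal R ^ m = (q ^ m).map (algebraMap S R) := by
    rw [Ideal.map_pow, Localization.AtPrime.map_eq_maximalIdeal]
  have hpow' : IsLocalRing.maximalIdeal R' ^ m = (q' ^ m).map (algebraMap T R') := by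
    rw [Ideal.map_pow, Localization.AtPrime.map_eq_maximalIdeal]
  have hclose : ∀ {s : S} {u : T}, s ∉ q → s - algebraMap T S u ∈ q ^ m → u ∉ q' := fun {s u} hs hu h =>
    hs (by simpa using add_mem (Ideal.pow_le_self (Nat.one_le_iff_ne_zero.1 hm) hu) (Ideal.mem_comap.1 h))
  constructor
  · intro x hx
    obtain ⟨⟨t, u⟩, rfl⟩ := IsLocalization.mk'_surjective q'.primeCompl x
    rw [Localization.localRingHom_mk', hpow, IsLocalization.mk'_mem_map_algebraMap_iff q.primeCompl] at hx
    obtain ⟨s, hs, hst⟩ := hx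
    obtain ⟨v, hv⟩ := hsurj s
    rw [hpow', IsLocalization.mk'_mem_map_algebraMap_iff q'.primeCompl]
    refine ⟨v, hclose hs hv, hinj _ ?_⟩
    rw [map_mul]
    have := sub_mem hst (Ideal.mul_mem_right (algebraMap T S t) (q ^ m) hv)
    rwa [show s * algebraMap T S t - (s - algebraMap T S v) * algebraMap T S t =
      algebraMap T S v * algebraMap T S t by ring] at this
  · intro y
    obtain ⟨⟨b, ⟨s, hs⟩⟩, rfl⟩ := IsLocalization.mk'_surjective q.primeCompl y
    obtain ⟨t, ht⟩ := hsurj b
    obtain ⟨u, hu⟩ := hsurj s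
    refine ⟨IsLocalization.mk' R' t (⟨u, hclose hs hu⟩ : q'.primeCompl), ?_⟩
    rw [Localization.localRingHom_mk', ← IsLocalization.mk'_sub, hpow,
      IsLocalization.mk'_mem_map_algebraMap_iff q.primeCompl]
    refine ⟨1, one_mem _, ?_⟩
    rw [one_mul]
    show b * algebraMap T S u - algebraMap T S t * s ∈ q ^ m
    rw [show b * algebraMap T S u - algebraMap T S t * s =
      s * (b - algebraMap T S t) - b * (s - algebraMap T S u) by ring]
    exact sub_mem (Ideal.mul_mem_left _ _ ht) (Ideal.mul_mem_left _ _ hu)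

end AdicRingLib.RigClosed
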