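import Groth.Agent.AdicRingLib.RigClosed
import Mathlib.RingTheory.Jacobson.Ring
import Mathlib.RingTheory.Ideal.GoingUp
import Mathlib.RingTheory.Finiteness.Quotient

/-! Rig-closed primes and finiteness. -/

set_option autoImplicit false

universe u

namespace AdicRingLib.RigClosed

variable {A B : Type u} [CommRing A] [CommRing B] [Algebra A B]

/-- A residue field of a finite type algebra over a Jacobson quotient is finite. -/
theorem finite_residueField (J : Ideal B) (hft : Algebra.FiniteType A (B ⧸ J)) (m : Ideal B)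
    [m.IsMaximal] (hJm : J ≤ m) (K : Ideal A) (hK : K ≤ m.comap (algebraMap A B))
    [IsJacobsonRing (A ⧸ K)] : Module.Finite A (B ⧸ m) := by
  let := Ideal.Quotient.field m
  let := (Ideal.quotientMap m (algebraMap A B) hK).toAlgebra
  have : IsScalarTower A (A ⧸ K) (B ⧸ m) := IsScalarTower.of_algebraMap_eq fun a => rfl
  have : Algebra.FiniteType A (B ⧸ m) :=
    hft.of_surjective (Ideal.Quotient.factorₐ A hJm) (Ideal.Quotient.factor_surjective hJm)
  have : Algebra.FiniteType (A ⧸ K) (B ⧸ m) := Algebra.FiniteType.of_restrictScalars_finiteType A _ _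
  have := finite_of_finite_type_of_isJacobsonRing (A ⧸ K) (B ⧸ m)
  exact Module.Finite.trans (A ⧸ K) (B ⧸ m)

/-- Quotients by powers of an ideal with finite quotient are finite. -/
theorem finite_quotient_pow [IsNoetherianRing B] (m : Ideal B) [Module.Finite A (B ⧸ m)] :
    ∀ n : ℕ, Module.Finite A (B ⧸ m ^ n)
  | 0 => by
    have : Subsingleton (B ⧸ m ^ 0) := Ideal.Quotient.subsingleton_iff.2 (by simp)
    infer_instance
  | n + 1 => by
    have := finite_quotient_pow m n
    obtain ⟨r, x, hx⟩ := Submodule.fg_iff_exists_fin_generating_family.1 (IsNoetherian.noetherian (m ^ n))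
    have hxm : ∀ i, x i ∈ m ^ n := fun i => hx.le (Submodule.subset_span ⟨i, rfl⟩)
    let φ : Fin r → (B ⧸ m) →ₗ[B] (B ⧸ m ^ (n + 1)) := fun i =>
      Submodule.liftQ (m : Submodule B B)
        ((Submodule.mkQ (m ^ (n + 1) : Ideal B)).comp (LinearMap.toSpanSingleton B B (x i)))
        fun b hb => by
          rw [LinearMap.mem_ker, LinearMap.comp_apply, Submodule.mkQ_apply, Submodule.Quotient.mk_eq_zero,
            pow_succ']
          exact Ideal.mul_mem_mul hb (hxm i)
    let Φ : (Fin r → B ⧸ m) →ₗ[B] (B ⧸ m ^ (n + 1)) := ∑ i, (φ i).comp (LinearMap.proj i)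
    let N : Submodule A (B ⧸ m ^ (n + 1)) := LinearMap.range (Φ.restrictScalars A)
    have : Module.Finite A N := Module.Finite.range _
    have hle : m ^ n ≤ (LinearMap.range Φ).comap (Submodule.mkQ (m ^ (n + 1) : Ideal B)) := by
      rw [← hx, Submodule.span_le]
      rintro _ ⟨i, rfl⟩
      refine ⟨Pi.single i (Submodule.Quotient.mk 1), ?_⟩
      simp [Φ, φ, Pi.single_apply, apply_ite]
      show Submodule.mkQ _ ((1 : B) • x i) = _
      rw [one_smul]; rfl
    let ψ : (B ⧸ m ^ n) →ₗ[A] (B ⧸ m ^ (n + 1)) ⧸ N :=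
      ((Submodule.Quotient.restrictScalarsEquiv A (LinearMap.range Φ)).symm.toLinearMap).comp
        ((Submodule.liftQ (m ^ n : Ideal B) ((LinearMap.range Φ).mkQ.comp (Submodule.mkQ (m ^ (n + 1) : Ideal B)))
          (fun b hb => by
            rw [LinearMap.mem_ker, LinearMap.comp_apply, Submodule.mkQ_apply, Submodule.Quotient.mk_eq_zero]
            exact hle hb)).restrictScalars A)
    have : Module.Finite A ((B ⧸ m ^ (n + 1)) ⧸ N) := Module.Finite.of_surjective ψ <|
      (Submodule.Quotient.restrictScalarsEquiv A (LinearMap.range Φ)).symm.surjective.comp <| fun y => by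
        obtain ⟨y', rfl⟩ := Submodule.mkQ_surjective _ y
        obtain ⟨b, rfl⟩ := Submodule.mkQ_surjective _ y'
        exact ⟨Submodule.Quotient.mk b, rfl⟩
    exact Module.Finite.of_submodule_quotient N

/-- A complete Noetherian local algebra whose ideal of definition is primary for the maximal ideal
and whose residue field is finite is finite. -/
theorem finite_of_radical_eq [IsNoetherianRing B] (I : Ideal A) [IsAdicComplete I A]
    [IsAdicComplete (I.map (algebraMap A B)) B] (m : Ideal B) [Module.Finite A (B ⧸ m)]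
    (hm : m ≤ (I.map (algebraMap A B)).radical) : Module.Finite A B := by
  obtain ⟨k, hk⟩ := Ideal.exists_pow_le_of_le_radical_of_fg hm (IsNoetherian.noetherian m)
  have := finite_quotient_pow (A := A) m k
  have h1 : Module.Finite A (B ⧸ I.map (algebraMap A B)) :=
    Module.Finite.of_surjective (Ideal.Quotient.factorₐ A hk).toLinearMap (Ideal.Quotient.factor_surjective hk)
  have hc : IsAdicComplete I B := (IsAdicComplete.map_algebraMap_iff (S := B) _ _).1 ‹_›
  refine CompleteLib.finite_of_quotient_finite (I := I) ?_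
  have e : (I • ⊤ : Submodule A B) = (I.map (algebraMap A B)).restrictScalars A :=
    Ideal.smul_top_eq_map I
  exact Module.Finite.equiv ((Submodule.quotEquivOfEq _ _ e).trans
    (Submodule.Quotient.restrictScalarsEquiv A (I.map (algebraMap A B)))).symm

/-- The contraction of a rig-closed prime is rig-closed in the presence of finiteness. -/
theorem comap_rigClosed_of_finite (I : Ideal A) (q : PrimeSpectrum B)
    (hq : ¬ I.map (algebraMap A B) ≤ q.asIdeal ∧
      ∀ y : PrimeSpectrum B, q ≤ y → ¬ I.map (algebraMap A B) ≤ y.asIdeal → y = q)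
    [Module.Finite A (B ⧸ q.asIdeal)] :
    (¬ I ≤ (PrimeSpectrum.comap (algebraMap A B) q).asIdeal ∧ ∀ y : PrimeSpectrum A,
      PrimeSpectrum.comap (algebraMap A B) q ≤ y → ¬ I ≤ y.asIdeal →
        y = PrimeSpectrum.comap (algebraMap A B) q) := by
  refine ⟨fun h => hq.1 (Ideal.map_le_iff_le_comap.2 h), fun y hy hIy => ?_⟩
  obtain ⟨P, -, hP, hPy⟩ := Ideal.exists_ideal_over_prime_of_isIntegral (S := B ⧸ q.asIdeal) y.asIdeal ⊥
    (by
      intro a ha
      rw [Ideal.mem_comap, Ideal.mem_bot] at ha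
      exact hy ((Ideal.Quotient.eq_zero_iff_mem (I := q.asIdeal) (a := algebraMap A B a)).1 ha))
  have := congrArg PrimeSpectrum.asIdeal (hq.2 ⟨P.comap (Ideal.Quotient.mk q.asIdeal), inferInstance⟩
    (fun x hx => by
      show Ideal.Quotient.mk q.asIdeal x ∈ P
      rw [Ideal.Quotient.eq_zero_iff_mem.2 hx]; exact P.zero_mem)
    fun h => hIy fun a ha => by
      rw [← hPy, Ideal.mem_comap]
      exact h (Ideal.mem_map_of_mem _ ha))
  refine PrimeSpectrum.ext ?_
  rw [← hPy]
  exact (Ideal.comap_comap (algebraMap A B) (Ideal.Quotient.mk q.asIdeal)).symm.trans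
    (congrArg (Ideal.comap (algebraMap A B)) this)

/-- Finite residue fields make a rig-closed quotient finite. -/
theorem finite_of_finite_residue [IsNoetherianRing B] (I : Ideal A) [IsAdicComplete I A]
    [IsAdicComplete (I.map (algebraMap A B)) B] (q : PrimeSpectrum B)
    (hq : ¬ I.map (algebraMap A B) ≤ q.asIdeal ∧
      ∀ y : PrimeSpectrum B, q ≤ y → ¬ I.map (algebraMap A B) ≤ y.asIdeal → y = q)
    (h : ∀ m : Ideal B, m.IsMaximal → q.asIdeal ≤ m → Module.Finite A (B ⧸ m)) :
    Module.Finite A (B ⧸ q.asIdeal) := by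
  obtain ⟨hJ, hall⟩ := (forall_le_map_iff _ q).1 hq
  have hc := isAdicComplete_quotient (I.map (algebraMap A B)) q.asIdeal
  have hmap : (I.map (algebraMap A B)).map (Ideal.Quotient.mk q.asIdeal) = I.map (algebraMap A (B ⧸ q.asIdeal)) := by
    rw [Ideal.map_map]; rfl
  have : IsAdicComplete (I.map (algebraMap A (B ⧸ q.asIdeal))) (B ⧸ q.asIdeal) := hmap ▸ hc
  obtain ⟨m, hmax, hqm⟩ := Ideal.exists_le_maximal q.asIdeal q.2.ne_top
  let M := m.map (Ideal.Quotient.mk q.asIdeal)
  have hM : M.IsMaximal :=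
    Ideal.IsMaximal.map_of_surjective_of_ker_le Ideal.Quotient.mk_surjective (by rwa [Ideal.mk_ker])
  have hM0 : M ≠ ⊥ := fun e => hJ (le_bot_iff.1 (e ▸ (IsAdicComplete.le_jacobson_bot _).trans (sInf_le ⟨bot_le, hM⟩)))
  have hMrad := eq_radical_of_forall_le hJ hall M hM0
  have := h m hmax hqm
  have : Module.Finite A ((B ⧸ q.asIdeal) ⧸ M) :=
    Module.Finite.equiv (DoubleQuot.quotQuotEquivQuotOfLEₐ A hqm).symm.toLinearEquiv
  exact finite_of_radical_eq I M (by rw [hMrad, hmap])

/-- Rig-closed contraction gives finite residue fields. -/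
theorem finite_residue_of_rigClosed_comap [IsNoetherianRing A] (I : Ideal A) [IsAdicComplete I A]
    [IsAdicComplete (I.map (algebraMap A B)) B]
    (hft : Algebra.FiniteType A (B ⧸ I.map (algebraMap A B))) (q : PrimeSpectrum B)
    (hp : ¬ I ≤ (PrimeSpectrum.comap (algebraMap A B) q).asIdeal ∧ ∀ y : PrimeSpectrum A,
      PrimeSpectrum.comap (algebraMap A B) q ≤ y → ¬ I ≤ y.asIdeal →
        y = PrimeSpectrum.comap (algebraMap A B) q)
    (m : Ideal B) [hm : m.IsMaximal] (hqm : q.asIdeal ≤ m) : Module.Finite A (B ⧸ m) := by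
  set p := PrimeSpectrum.comap (algebraMap A B) q
  have hJm : I.map (algebraMap A B) ≤ m := (IsAdicComplete.le_jacobson_bot _).trans (sInf_le ⟨bot_le, hm⟩)
  let n := m.comap (algebraMap A B)
  have hpn : p.asIdeal ≤ n := Ideal.comap_mono hqm
  have hIn : I ≤ n := Ideal.map_le_iff_le_comap.1 hJm
  obtain ⟨hJ, hall⟩ := (forall_le_map_iff I p).1 hp
  have := isAdicComplete_quotient I p.asIdeal
  have hker : RingHom.ker (Ideal.Quotient.mk p.asIdeal) ≤ n := by rw [Ideal.mk_ker]; exact hpn
  have : (n.map (Ideal.Quotient.mk p.asIdeal)).IsPrime :=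
    Ideal.map_isPrime_of_surjective Ideal.Quotient.mk_surjective hker
  have hn := isMaximal_of_forall_le hJ hall (n.map (Ideal.Quotient.mk p.asIdeal))
    fun e => hJ (le_bot_iff.1 (e ▸ Ideal.map_mono hIn))
  have : n.IsMaximal := by
    have := Ideal.comap_isMaximal_of_surjective (Ideal.Quotient.mk p.asIdeal) Ideal.Quotient.mk_surjective
      (K := n.map (Ideal.Quotient.mk p.asIdeal))
    rwa [Ideal.comap_map_of_surjective _ Ideal.Quotient.mk_surjective, ← RingHom.ker_eq_comap_bot,
      sup_eq_left.2 hker] at this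
  let := Ideal.Quotient.field n
  exact finite_residueField _ hft m hJm n le_rfl

end AdicRingLib.RigClosed
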