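import Groth.Agent.AdicRingLib.RigPoint
import Groth.Agent.AdicRingLib.FlatTrunc

/-! Auxiliary consequences for rig-points. -/

set_option autoImplicit false

universe u

open IsLocalRing

namespace AdicRingLib

theorem topFinitePresentation_of_noPowTorsion {R : Type u} [CommRing R] {I : Ideal R} (hR : AdicRing.IsBase R I)
    {A : Type u} [CommRing A] [Algebra R A] (hA : AdicRing.TopFiniteType R I A)
    (hT : AdicRing.NoPowTorsion I A) : AdicRing.TopFinitePresentation R I A := by
  obtain ⟨n, φ, hφ⟩ := hA
  refine ⟨n, φ, hφ, ?_⟩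
  refine fg_of_saturated hR ⟨n, AlgHom.id R _, Function.surjective_id⟩
    (AdicRing.RPow R I n) (AdicRing.RPow R I n) (RingHom.ker φ.toRingHom) fun x m hx => ?_
  refine hT (φ x) m fun a ha => ?_
  rw [← map_smul φ a x]
  exact hx a ha

theorem topFiniteType_of_topFinitePresentation {R : Type u} [CommRing R] {I : Ideal R} {A : Type u} [CommRing A]
    [Algebra R A] (hA : AdicRing.TopFinitePresentation R I A) : AdicRing.TopFiniteType R I A :=
  let ⟨n, φ, hφ, _⟩ := hA; ⟨n, φ, hφ⟩

theorem noPowTorsion_of_isDomain {R : Type u} [CommRing R] {t : R} {A : Type u} [CommRing A] [IsDomain A]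
    [Algebra R A] (ht : algebraMap R A t ≠ 0) : AdicRing.NoPowTorsion (Ideal.span {t}) A := by
  intro x n hx
  have h := hx (t ^ n) (Ideal.pow_mem_pow (Ideal.mem_span_singleton_self t) n)
  rw [Algebra.smul_def, map_pow] at h
  exact (mul_eq_zero.1 h).resolve_left (pow_ne_zero n ht)

variable {R : Type u} [CommRing R] [IsDomain R] [ValuationRing R] {t : R} (h : IsHeightOne R t)
include h

theorem IsHeightOne.isUnit_tensor_fractionRing {A : Type u} [CommRing A] [Algebra R A] {a : R} (ha : a ≠ 0) :
    IsUnit (algebraMap A (TensorProduct R A (FractionRing R)) (algebraMap R A a)) := by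
  rw [← IsScalarTower.algebraMap_apply R A (TensorProduct R A (FractionRing R))]
  have h1 : IsUnit (algebraMap R (FractionRing R) a) :=
    isUnit_iff_ne_zero.2 fun h0 => ha (IsFractionRing.injective R (FractionRing R) (h0.trans (map_zero _).symm))
  have h2 := h1.map (Algebra.TensorProduct.includeRight (R := R) (A := A) (B := FractionRing R))
  rwa [AlgHom.commutes] at h2

end AdicRingLib

namespace AdicRingLib

/-- Algebras finite over an algebra topologically of finite type are so. -/
theorem topFiniteType_of_finite {R : Type u} [CommRing R] {I : Ideal R} (hR : AdicRing.IsBase R I)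
    {A : Type u} [CommRing A] [Algebra R A] (hA : AdicRing.TopFiniteType R I A)
    (A' : Type u) [CommRing A'] [Algebra R A'] [Algebra A A'] [IsScalarTower R A A'] [Module.Finite A A'] :
    AdicRing.TopFiniteType R I A' := by
  have : IsAdicComplete (I.map (algebraMap R A')) A' :=
    (IsAdicComplete.map_algebraMap_iff _ _).2 (isAdicComplete_finite hR hA A')
  refine topFiniteType_of_finiteType_quotient (fg_of_isBase hR) ?_
  let J := I.map (algebraMap R A)
  let J' := I.map (algebraMap R A')
  have h1 : Algebra.FiniteType R (A ⧸ J) :=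
    (finiteType_trunc (fg_of_isBase hR) hA 1).equiv (Ideal.quotientEquivAlgOfEq R (by rw [pow_one]))
  have hle : J ≤ J'.comap (algebraMap A A') := by
    rw [← Ideal.map_le_iff_le_comap, Ideal.map_map, ← IsScalarTower.algebraMap_eq]
  let _ : Algebra (A ⧸ J) (A' ⧸ J') := (Ideal.quotientMap J' (algebraMap A A') hle).toAlgebra
  have : IsScalarTower A (A ⧸ J) (A' ⧸ J') := IsScalarTower.of_algebraMap_eq fun x => rfl
  have : IsScalarTower R (A ⧸ J) (A' ⧸ J') := IsScalarTower.of_algebraMap_eq fun x => by
    show algebraMap R (A' ⧸ J') x = Ideal.Quotient.mk J' (algebraMap A A' (algebraMap R A x))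
    rw [← IsScalarTower.algebraMap_apply R A A']
    rfl
  have : Module.Finite (A ⧸ J) (A' ⧸ J') := Module.Finite.of_restrictScalars_finite A _ _
  exact Algebra.FiniteType.trans h1 inferInstance

end AdicRingLib
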