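import Groth.Agent.AdicRingLib.Torsion
import Mathlib.RingTheory.Henselian
import Mathlib.RingTheory.Idempotents
import Mathlib.RingTheory.Artinian.Module
import Mathlib.RingTheory.Flat.Localization
import Mathlib.RingTheory.LocalRing.Module
import Mathlib.RingTheory.IntegralClosure.IntegrallyClosed
import Mathlib.RingTheory.Ideal.GoingUp
import Mathlib.RingTheory.KrullDimension.LocalRing
import Mathlib.RingTheory.Localization.Integral

/-! Integral domains over a complete valuation ring of height one are local. -/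

set_option autoImplicit false

universe u v

open IsLocalRing Polynomial

namespace AdicRingLib

/-- Complete valuation ring of height one with a nonzero `t` defining the topology. -/
structure IsHeightOne (R : Type u) [CommRing R] [IsDomain R] [ValuationRing R] (t : R) : Prop where
  ne_zero : t ≠ 0
  mem : t ∈ maximalIdeal R
  radical : ∀ a ∈ maximalIdeal R, ∃ n : ℕ, t ∣ a ^ n
  isBase : AdicRing.IsBase R (Ideal.span {t})

theorem isHeightOne (R : Type u) [CommRing R] [IsDomain R] [ValuationRing R] [Ring.KrullDimLE 1 R] (t : R)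
    (ht : t ≠ 0) [IsAdicComplete (Ideal.span {t}) R] : IsHeightOne R t := by
  have hu : ¬ IsUnit t := fun hu => by
    have hh : IsHausdorff (Ideal.span {t}) R := inferInstance
    rw [Ideal.span_singleton_eq_top.2 hu] at hh
    exact one_ne_zero (hh.haus 1 fun n => by
      rw [Ideal.top_pow, Submodule.top_smul]; exact SModEq.sub_mem.2 trivial)
  refine ⟨ht, hu, fun a ha => ?_,
    inferInstance, Or.inr ⟨inferInstance, inferInstance, inferInstance, t, ht, rfl⟩⟩
  have hrad : a ∈ (Ideal.span {t}).radical := by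
    rw [Ideal.radical_eq_sInf, Submodule.mem_sInf]
    rintro P ⟨hP, hPp⟩
    have hne : P ≠ ⊥ := fun h => ht (by
      have h1 : t ∈ P := hP (Ideal.mem_span_singleton_self t)
      rwa [h, Ideal.mem_bot] at h1)
    rw [IsLocalRing.eq_maximalIdeal (Ideal.isMaximal_of_isPrime_of_ne_bot P hne)]
    exact ha
  obtain ⟨n, hn⟩ := hrad
  exact ⟨n, Ideal.mem_span_singleton.1 hn⟩

variable {R : Type u} [CommRing R] [IsDomain R] [ValuationRing R] {t : R} (h : IsHeightOne R t)
include h

theorem IsHeightOne.exists_dvd_pow {a : R} (ha : a ≠ 0) : ∃ n : ℕ, a ∣ t ^ n := by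
  by_contra hcon
  push Not at hcon
  have := h.isBase.1
  refine ha (IsHausdorff.haus (I := Ideal.span {t}) inferInstance a fun m => ?_)
  rw [SModEq.sub_mem, sub_zero, smul_eq_mul, Ideal.mul_top, Ideal.span_singleton_pow,
    Ideal.mem_span_singleton]
  exact (ValuationRing.dvd_total (t ^ m) a).resolve_right (hcon m)

theorem IsHeightOne.ringKrullDim_eq : ringKrullDim R = 1 := by
  rw [ringKrullDim_eq_one_iff_of_isLocalRing_isDomain]
  refine ⟨fun hF => h.ne_zero ?_, fun x hx b hb => ?_⟩
  · have h1 := h.mem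
    rwa [IsLocalRing.isField_iff_maximalIdeal_eq.1 hF, Ideal.mem_bot] at h1
  · obtain ⟨n, hn⟩ := h.exists_dvd_pow hx
    obtain ⟨m, hm⟩ := h.radical b hb
    refine ⟨m * n, Ideal.mem_span_singleton.2 (hn.trans ?_)⟩
    rw [pow_mul]
    exact pow_dvd_pow_of_dvd hm n

variable {B : Type v} [CommRing B] [IsDomain B] [Algebra R B]

/-- A finite domain over `R` is `t`-adically complete. -/
theorem IsHeightOne.isAdicComplete_finite (hinj : Function.Injective (algebraMap R B)) [Module.Finite R B] :
    IsAdicComplete (Ideal.span {algebraMap R B t}) B := by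
  have : Module.IsTorsionFree R B := Module.isTorsionFree_iff_algebraMap_injective.2 hinj
  have : Module.Flat R B := by
    rw [Module.Flat.flat_iff_torsion_eq_bot_of_isBezout, ← Submodule.isTorsionFree_iff_torsion_eq_bot]
    infer_instance
  have : Module.Free R B := Module.free_of_flat_of_isLocalRing
  have := h.isBase.1
  let e := (Module.Free.chooseBasis R B).equivFun
  let ι := Module.Free.ChooseBasisIndex R B
  let q := LinearEquiv.funCongrLeft R R (Fintype.equivFin ι).symm
  let E : B ≃ₗ[R] (Fin (Fintype.card ι) → R) := e.trans q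
  have h1 : IsPrecomplete (Ideal.span {t}) (Fin (Fintype.card ι) → R) :=
    CompleteLib.isPrecomplete_pi (I := Ideal.span {t}) _
  have h2 : IsPrecomplete (Ideal.span {t}) B :=
    CompleteLib.isPrecomplete_of_surjective E.symm.toLinearMap E.symm.surjective
  have h3 : IsHausdorff (Ideal.span {t}) B := ⟨fun x hx => E.injective (by
    rw [map_zero]
    funext i
    refine IsHausdorff.haus (I := Ideal.span {t}) inferInstance _ fun n => SModEq.sub_mem.2 ?_
    have h4 := Submodule.mem_map_of_mem (f := (LinearMap.proj i).comp E.toLinearMap) (SModEq.sub_mem.1 (hx n))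
    rw [Submodule.map_smul'', sub_zero] at h4
    rw [sub_zero]
    exact Submodule.smul_mono le_rfl le_top h4)⟩
  have h4 : IsAdicComplete (Ideal.span {t}) B := {}
  have h5 := (IsAdicComplete.map_algebraMap_iff (S := B) (Ideal.span {t}) B).2 h4
  rwa [Ideal.map_span, Set.image_singleton] at h5

theorem IsHeightOne.isLocalRing_of_finite (hinj : Function.Injective (algebraMap R B)) [Module.Finite R B] :
    IsLocalRing B := by
  have hint : Algebra.IsIntegral R B := Algebra.IsIntegral.of_finite R B
  have hcm := h.isAdicComplete_finite hinj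
  have hover : ∀ M : Ideal B, M.IsMaximal → (maximalIdeal R).map (algebraMap R B) ≤ M := fun M hM => by
    rw [Ideal.map_le_iff_le_comap,
      IsLocalRing.eq_maximalIdeal (Ideal.isMaximal_comap_of_isIntegral_of_isMaximal (R := R) M)]
  obtain ⟨M₁, hM₁⟩ := Ideal.exists_maximal B
  refine IsLocalRing.of_unique_max_ideal ⟨M₁, hM₁, fun M₂ hM₂ => ?_⟩
  by_contra hne
  obtain ⟨a, ha, a₂, ha₂, haa⟩ := Submodule.mem_sup.1
    (show (1 : B) ∈ M₁ ⊔ M₂ by rw [hM₁.coprime_of_ne hM₂ (Ne.symm hne)]; trivial)
  let J := (maximalIdeal R).map (algebraMap R B)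
  let tB := algebraMap R B t
  have htJ : Ideal.span {tB} ≤ J :=
    (Ideal.span_singleton_le_iff_mem _).2 (Ideal.mem_map_of_mem _ h.mem)
  have : IsArtinianRing (B ⧸ J) := by
    let f0 : ResidueField R →+* B ⧸ J := Ideal.Quotient.lift (maximalIdeal R)
      ((Ideal.Quotient.mk J).comp (algebraMap R B))
      fun r hr => Ideal.Quotient.eq_zero_iff_mem.2 (Ideal.mem_map_of_mem _ hr)
    let _ : Algebra (ResidueField R) (B ⧸ J) := f0.toAlgebra
    have : IsScalarTower R (ResidueField R) (B ⧸ J) := IsScalarTower.of_algebraMap_eq fun r => rfl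
    have : Module.Finite (ResidueField R) (B ⧸ J) := Module.Finite.of_restrictScalars_finite R _ _
    exact IsArtinianRing.of_finite (ResidueField R) (B ⧸ J)
  obtain ⟨n, y, hy⟩ := IsArtinian.exists_pow_succ_smul_dvd (Ideal.Quotient.mk J a) (1 : B ⧸ J)
  rw [smul_eq_mul, smul_eq_mul, mul_one] at hy
  have hiter : ∀ k, Ideal.Quotient.mk J a ^ (n + k) * y ^ k = Ideal.Quotient.mk J a ^ n := by
    intro k
    induction k with
    | zero => simp
    | succ k ih =>
      rw [pow_succ' y k, ← mul_assoc, show n + (k + 1) = (n + 1) + k by omega, pow_add,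
        mul_right_comm _ (Ideal.Quotient.mk J a ^ k) y, hy, ← pow_add, ih]
  obtain ⟨y', rfl⟩ := Ideal.Quotient.mk_surjective y
  let e : B := a ^ n * y' ^ n
  have he : IsIdempotentElem (Ideal.Quotient.mk J e) := by
    show _ * _ = _
    simp only [e, map_mul, map_pow]
    calc _ = Ideal.Quotient.mk J a ^ (n + n) * Ideal.Quotient.mk J y' ^ n * Ideal.Quotient.mk J y' ^ n := by ring
      _ = _ := by rw [hiter n]
  let f : B ⧸ Ideal.span {tB} →+* B ⧸ J := Ideal.Quotient.factor htJ
  have hnil : ∀ x ∈ RingHom.ker f, IsNilpotent x := by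
    intro x hx
    obtain ⟨x, rfl⟩ := Ideal.Quotient.mk_surjective x
    have hxJ : x ∈ J := Ideal.Quotient.eq_zero_iff_mem.1 hx
    have hle : J ≤ (Ideal.span {tB}).radical := Ideal.map_le_iff_le_comap.2 fun r hr => by
      obtain ⟨m, c, hc⟩ := h.radical r hr
      exact ⟨m, by
        rw [← map_pow, hc, map_mul]
        exact Ideal.mul_mem_right _ _ (Ideal.mem_span_singleton_self _)⟩
    obtain ⟨m, hm⟩ := hle hxJ
    exact ⟨m, by rw [← map_pow, Ideal.Quotient.eq_zero_iff_mem]; exact hm⟩
  obtain ⟨ε, hε, hεe⟩ := exists_isIdempotentElem_eq_of_ker_isNilpotent f hnil _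
    ⟨Ideal.Quotient.mk _ e, rfl⟩ he
  obtain ⟨ε', rfl⟩ := Ideal.Quotient.mk_surjective ε
  obtain ⟨r, hr, hrε⟩ := HenselianRing.is_henselian (R := B) (I := Ideal.span {tB}) (X ^ 2 - X)
    (monic_X_pow_sub (by rw [degree_X]; exact_mod_cast one_lt_two)) ε' (by
      rw [eval_sub, eval_pow, eval_X, ← Ideal.Quotient.eq_zero_iff_mem, map_sub, map_pow, pow_two, hε.eq,
        sub_self]) (by
      rw [derivative_sub, derivative_X_pow, derivative_X, eval_sub, eval_mul, eval_C, eval_pow, eval_X, eval_one,
        Nat.add_one_sub_one, pow_one]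
      refine IsUnit.of_mul_eq_one (2 * Ideal.Quotient.mk _ ε' - 1) ?_
      simp only [Nat.cast_ofNat, map_sub, map_mul, map_one, map_ofNat]
      linear_combination 4 * hε.eq)
  have hfac : ∀ z, f (Ideal.Quotient.mk _ z) = Ideal.Quotient.mk J z := fun z => rfl
  have hre : r - e ∈ J := by
    rw [← Ideal.Quotient.eq]
    rw [← hfac, show Ideal.Quotient.mk (Ideal.span {tB}) r = Ideal.Quotient.mk _ ε' from
      Ideal.Quotient.eq.2 hrε, hεe]
    exact hfac e
  have hr0 : r = 0 ∨ r = 1 := by
    rw [IsRoot, eval_sub, eval_pow, eval_X, pow_two, sub_eq_zero] at hr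
    rcases mul_right_eq_self₀.1 hr with h1 | h1
    exacts [Or.inr h1, Or.inl h1]
  -- `e` vanishes at `M₁` and is `1` at `M₂`
  have ha2 : Ideal.Quotient.mk M₂ a = 1 := by
    rw [← map_one (Ideal.Quotient.mk M₂), Ideal.Quotient.eq, ← haa, sub_add_cancel_left]
    exact neg_mem ha₂
  have hy2 : Ideal.Quotient.mk M₂ e = 1 := by
    have h1 : a ^ (n + n) * y' ^ n - a ^ n ∈ M₂ := hover M₂ hM₂ (by
      rw [← Ideal.Quotient.eq, map_mul, map_pow, map_pow]; exact hiter n)
    have h2 := Ideal.Quotient.eq.2 h1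
    simp only [map_mul, map_pow, ha2, one_pow, one_mul] at h2
    simp only [e, map_mul, map_pow, ha2, one_pow, one_mul, h2]
  rcases hr0 with rfl | rfl
  · have := hover M₂ hM₂ hre
    rw [zero_sub, neg_mem_iff, ← Ideal.Quotient.eq_zero_iff_mem, hy2] at this
    exact hM₂.ne_top ((Ideal.eq_top_iff_one M₂).2 (Ideal.Quotient.eq_zero_iff_mem.1 (by rwa [map_one])))
  · have := hover M₁ hM₁ hre
    by_cases hn : n = 0
    · have h0 : Ideal.Quotient.mk M₁ a = 0 := Ideal.Quotient.eq_zero_iff_mem.2 ha
      have h1 : a * y' - 1 ∈ M₁ := hover M₁ hM₁ (by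
        rw [← Ideal.Quotient.eq, map_mul, map_one]
        have h5 := hy
        simpa [hn] using h5)
      have h2 := Ideal.Quotient.eq.2 h1
      rw [map_mul, h0, zero_mul, map_one] at h2
      exact hM₁.ne_top ((Ideal.eq_top_iff_one M₁).2 (Ideal.Quotient.eq_zero_iff_mem.1 (by rw [map_one, h2])))
    · have he1 : e ∈ M₁ := Ideal.mul_mem_right _ _ (Ideal.pow_mem_of_mem _ ha n (Nat.pos_of_ne_zero hn))
      exact hM₁.ne_top ((Ideal.eq_top_iff_one M₁).2 (by simpa using add_mem this he1))

/-- A domain integral over `R` is local. -/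
theorem IsHeightOne.isLocalRing_of_isIntegral (hinj : Function.Injective (algebraMap R B))
    [Algebra.IsIntegral R B] : IsLocalRing B := by
  refine IsLocalRing.of_isUnit_or_isUnit_one_sub_self fun a => ?_
  let S := Algebra.adjoin R {a}
  have : Module.Finite R S :=
    Module.Finite.iff_fg.2 (Algebra.IsIntegral.isIntegral a).fg_adjoin_singleton
  have hinjS : Function.Injective (algebraMap R S) := fun x y hxy => hinj (congrArg Subtype.val hxy)
  have := h.isLocalRing_of_finite hinjS
  rcases IsLocalRing.isUnit_or_isUnit_one_sub_self (⟨a, Algebra.self_mem_adjoin_singleton R a⟩ : S) with h1 | h1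
  · exact Or.inl (h1.map S.val)
  · exact Or.inr (by simpa using h1.map S.val)

theorem IsHeightOne.ringKrullDim_of_isIntegral (hinj : Function.Injective (algebraMap R B))
    [Algebra.IsIntegral R B] : ringKrullDim B = 1 := by
  have := h.isLocalRing_of_isIntegral hinj
  have hR := h.ringKrullDim_eq
  rw [ringKrullDim_eq_one_iff_of_isLocalRing_isDomain]
  have hmax : (maximalIdeal B).comap (algebraMap R B) = maximalIdeal R :=
    IsLocalRing.eq_maximalIdeal (Ideal.isMaximal_comap_of_isIntegral_of_isMaximal (R := R) _)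
  refine ⟨fun hF => h.ne_zero ?_, fun x hx => ?_⟩
  · have : t ∈ (maximalIdeal B).comap (algebraMap R B) := hmax ▸ h.mem
    rw [IsLocalRing.isField_iff_maximalIdeal_eq.1 hF, Ideal.mem_comap, Ideal.mem_bot] at this
    exact hinj (this.trans (map_zero _).symm)
  · intro y hy
    rw [Ideal.radical_eq_sInf, Submodule.mem_sInf]
    rintro P ⟨hP, hPp⟩
    have hne : Ideal.comap (algebraMap R B) P ≠ ⊥ := Ideal.comap_ne_bot_of_integral_mem hx
      (hP (Ideal.mem_span_singleton_self x)) (Algebra.IsIntegral.isIntegral x)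
    have : Ring.KrullDimLE 1 R := (Order.krullDimLE_iff _ _).2 hR.le
    have hPm : (Ideal.comap (algebraMap R B) P).IsMaximal := Ideal.isMaximal_of_isPrime_of_ne_bot _ hne
    have := IsLocalRing.eq_maximalIdeal (Ideal.isMaximal_of_isIntegral_of_isMaximal_comap P hPm)
    rw [this]; exact hy

end AdicRingLib
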