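import Groth.Agent.AdicRingLib.Torsion
import Groth.Agent.CompleteLib.CompletionHom
import Mathlib.RingTheory.Finiteness.FinitePresentationLocal
import Mathlib.RingTheory.RingHom.FinitePresentation
import Mathlib.RingTheory.RingHom.FiniteType
import Mathlib.RingTheory.Localization.Ideal
import Mathlib.RingTheory.Localization.Algebra
import Mathlib.RingTheory.AdicCompletion.Noetherian

/-! Topologically finite type and finite presentation through truncations. -/

set_option autoImplicit false

universe u

open MvPolynomial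

namespace AdicRingLib

variable {R : Type u} [CommRing R] {I : Ideal R}

/-- A finitely generated ideal of a complete ring approximated by itself is everything. -/
theorem le_of_le_sup {S : Type u} [CommRing S] {K : Ideal S} [IsAdicComplete K S] (hAR : HasAR K)
    {a G : Ideal S} (hG : G ≤ a) (h : a ≤ G ⊔ K * a) : a = G := by
  refine le_antisymm (fun x hx => ?_) hG
  have hpow : ∀ m, a ≤ G ⊔ K ^ m * a := by
    intro m
    induction m with
    | zero => simp
    | succ m ih =>
      refine ih.trans (sup_le le_sup_left ?_)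
      refine (Ideal.mul_mono le_rfl h).trans ?_
      rw [Ideal.mul_sup, ← mul_assoc, ← pow_succ]
      exact sup_le_sup_right Ideal.mul_le_right _
  have := hAR.isAdicComplete (S ⧸ G)
  rw [← Ideal.Quotient.eq_zero_iff_mem]
  refine CompleteLib.eq_zero_of_forall_mem (I := K) fun m => ?_
  obtain ⟨g, hg, z, hz, rfl⟩ := Submodule.mem_sup.1 (hpow m hx)
  rw [map_add, Ideal.Quotient.eq_zero_iff_mem.2 hg, zero_add, ← mul_one z, ← smul_eq_mul,
    ← Ideal.Quotient.mk_eq_mk, Submodule.Quotient.mk_smul]
  exact Submodule.smul_mem_smul (Ideal.mul_le_left hz) trivial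

variable {A : Type u} [CommRing A] [Algebra R A]

/-- Generators modulo `I` of a complete algebra generate topologically. -/
theorem topFiniteType_of_finiteType_quotient (hI : I.FG) [IsAdicComplete (I.map (algebraMap R A)) A]
    (hft : Algebra.FiniteType R (A ⧸ I.map (algebraMap R A))) : AdicRing.TopFiniteType R I A := by
  obtain ⟨N, g, hg⟩ := Algebra.FiniteType.iff_quotient_mvPolynomial''.1 hft
  choose x hx using fun i => Ideal.Quotient.mk_surjective (g (X i))
  let θ : MvPolynomial (Fin N) R →ₐ[R] A := aeval x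
  have hθ : (Ideal.Quotient.mkₐ R (I.map (algebraMap R A))).comp θ = g :=
    MvPolynomial.algHom_ext fun i => by simp [θ, hx]
  let K : Ideal (MvPolynomial (Fin N) R) := I.map MvPolynomial.C
  have hK : K.map θ.toRingHom ≤ I.map (algebraMap R A) := by
    rw [Ideal.map_map]
    exact le_of_eq (congrArg (fun f => Ideal.map f I) (RingHom.ext fun r => θ.commutes r))
  let Ψ := CompleteLib.completionLift K (I.map (algebraMap R A)) θ.toRingHom hK
  let φ : AdicRing.RPow R I N →ₐ[R] A :=
    { Ψ with
      commutes' := fun r => by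
        show Ψ (algebraMap R (AdicRing.RPow R I N) r) = _
        rw [algebraMap_rPow]
        exact (CompleteLib.completionLift_algebraMap K _ θ.toRingHom hK _).trans (θ.commutes r) }
  refine ⟨N, φ, ?_⟩
  let S := AdicRing.RPow R I N
  let _ : Algebra S A := φ.toAlgebra
  have : IsScalarTower R S A := IsScalarTower.of_algebraMap_eq fun r => (φ.commutes r).symm
  let J : Ideal S := I.map (algebraMap R S)
  have hJ : J.map (algebraMap S A) = I.map (algebraMap R A) := by
    rw [Ideal.map_map, ← IsScalarTower.algebraMap_eq]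
  have : IsAdicComplete J S := by
    rw [show J = K.map (algebraMap (MvPolynomial (Fin N) R) S) from map_rPow N]
    exact isAdicComplete_map (hI.map _)
  have : IsAdicComplete J A := by
    refine (IsAdicComplete.map_algebraMap_iff (R := S) (S := A) J A).1 ?_
    rwa [hJ]
  have hsup : Submodule.span S (Set.range fun _ : Fin 1 => (1 : A)) ⊔ J • ⊤ = ⊤ := by
    refine eq_top_iff.2 fun a _ => ?_
    obtain ⟨p, hp⟩ := hg (Ideal.Quotient.mk _ a)
    rw [← hθ] at hp
    have hd : a - θ p ∈ I.map (algebraMap R A) := Ideal.Quotient.eq.1 hp.symm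
    rw [show a = θ p + (a - θ p) by ring]
    refine Submodule.add_mem_sup ?_ ?_
    · rw [show θ p = algebraMap (MvPolynomial (Fin N) R) S p • (1 : A) by
        rw [Algebra.smul_def, mul_one]
        exact (CompleteLib.completionLift_algebraMap K _ θ.toRingHom hK p).symm]
      exact Submodule.smul_mem _ _ (Submodule.subset_span ⟨0, rfl⟩)
    · rw [Ideal.smul_top_eq_map, hJ]
      exact hd
  have htop := (CompleteLib.approx_filtration_eq (I := J) (fun _ : Fin 1 => (1 : A))
    (fun m => J ^ m • ⊤) (fun a b hab => CompleteLib.pow_smul_top_anti hab)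
    (fun z hz => CompleteLib.eq_zero_of_forall_mem hz) (fun m => le_rfl) (fun m => by
      conv_lhs => rw [← hsup]
      rw [Submodule.smul_sup, ← Submodule.mul_smul, ← pow_succ]) (by simp [Ideal.map_top])).1
  intro a
  have ha : a ∈ Submodule.span S ({1} : Set A) := by
    rw [Set.range_const] at htop
    rw [htop]; trivial
  obtain ⟨s, hs⟩ := Submodule.mem_span_singleton.1 ha
  exact ⟨s, by rw [← hs, Algebra.smul_def, mul_one]; rfl⟩

theorem exists_trunc_hom {n : ℕ} (φ : AdicRing.RPow R I n →ₐ[R] A) (hI : I.FG)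
    (hφ : Function.Surjective φ) (m : ℕ) :
    ∃ χ : MvPolynomial (Fin n) R →ₐ[R] A ⧸ (I ^ m).map (algebraMap R A),
      Function.Surjective χ ∧ ∀ c, χ c = Ideal.Quotient.mk _
        (φ (algebraMap (MvPolynomial (Fin n) R) (AdicRing.RPow R I n) c)) := by
  refine ⟨((Ideal.Quotient.mkₐ R _).comp φ).comp (IsScalarTower.toAlgHom R _ _), fun y => ?_, fun c => rfl⟩
  obtain ⟨a, rfl⟩ := Ideal.Quotient.mk_surjective y
  obtain ⟨s, rfl⟩ := hφ a
  obtain ⟨c, hc⟩ := exists_sub_mem_map_pow (hI.map _) m s
  refine ⟨c, (Ideal.Quotient.eq.2 ?_).symm⟩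
  have h1 := Ideal.mem_map_of_mem φ.toRingHom hc
  rw [map_sub, ← Ideal.map_pow, Ideal.map_map, Ideal.map_map] at h1
  have h3 : (φ.toRingHom.comp (algebraMap (MvPolynomial (Fin n) R) (AdicRing.RPow R I n))).comp MvPolynomial.C =
      algebraMap R A := RingHom.ext fun r => by
    show φ (algebraMap _ _ (MvPolynomial.C r)) = _
    rw [← algebraMap_rPow, φ.commutes]
  exact h3 ▸ h1

theorem finiteType_trunc (hI : I.FG) (hA : AdicRing.TopFiniteType R I A) (m : ℕ) :
    Algebra.FiniteType R (A ⧸ (I ^ m).map (algebraMap R A)) := by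
  obtain ⟨n, φ, hφ⟩ := hA
  obtain ⟨χ, hχ, -⟩ := exists_trunc_hom φ hI hφ m
  exact Algebra.FiniteType.of_surjective χ hχ

theorem finitePresentation_trunc (hI : I.FG) (hA : AdicRing.TopFinitePresentation R I A) (m : ℕ) :
    Algebra.FinitePresentation R (A ⧸ (I ^ m).map (algebraMap R A)) := by
  classical
  obtain ⟨n, φ, hφ, T, hT⟩ := hA
  obtain ⟨χ, hχ, hval⟩ := exists_trunc_hom φ hI hφ m
  let P := MvPolynomial (Fin n) R
  let K : Ideal P := I.map MvPolynomial.C
  have hK : K.FG := hI.map _
  choose c hc using fun g : T => exists_sub_mem_map_pow hK m g.1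
  refine Algebra.FinitePresentation.of_surjective hχ ?_
  have hKχ : ∀ p ∈ K ^ m, χ p = 0 := fun p hp => by
    rw [← Ideal.map_pow] at hp
    have h1 := Ideal.mem_map_of_mem χ.toRingHom hp
    rw [Ideal.map_map, show χ.toRingHom.comp MvPolynomial.C =
      (Ideal.Quotient.mk ((I ^ m).map (algebraMap R A))).comp (algebraMap R A) from
        RingHom.ext fun r => χ.commutes r, ← Ideal.map_map, Ideal.map_quotient_self] at h1
    exact h1
  have hE : RingHom.ker χ.toRingHom = K ^ m ⊔ Ideal.span (Set.range c) := by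
    refine le_antisymm (fun p hp => ?_) (sup_le (fun p hp => hKχ p hp) (Ideal.span_le.2 ?_))
    · have h0 : φ (algebraMap P _ p) ∈ (I ^ m).map (algebraMap R A) :=
        Ideal.Quotient.eq_zero_iff_mem.1 ((hval p).symm.trans hp)
      rw [show algebraMap R A = φ.toRingHom.comp (algebraMap R (AdicRing.RPow R I n)) from
        RingHom.ext fun r => (φ.commutes r).symm, ← Ideal.map_map,
        Ideal.mem_map_iff_of_surjective φ.toRingHom hφ] at h0
      obtain ⟨z, hz, hzp⟩ := h0
      have hker : algebraMap P (AdicRing.RPow R I n) p - z ∈ Ideal.span (T : Set (AdicRing.RPow R I n)) := by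
        show _ ∈ Ideal.span _
        rw [hT, RingHom.mem_ker, map_sub, hzp, sub_eq_zero]; rfl
      have hle : Ideal.span (T : Set (AdicRing.RPow R I n)) ≤
          (K ^ m ⊔ Ideal.span (Set.range c)).map (algebraMap P (AdicRing.RPow R I n)) := by
        refine Ideal.span_le.2 fun g hg => ?_
        rw [show g = algebraMap P (AdicRing.RPow R I n) (c ⟨g, hg⟩) + (g - algebraMap P _ (c ⟨g, hg⟩)) by ring]
        exact add_mem (Ideal.mem_map_of_mem _ (Ideal.mem_sup_right (Ideal.subset_span ⟨_, rfl⟩)))
          (Ideal.map_mono le_sup_left (hc ⟨g, hg⟩))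
      have hz' : z ∈ (K ^ m).map (algebraMap P (AdicRing.RPow R I n)) := by
        rw [← Ideal.map_pow, Ideal.map_map]
        rwa [show (algebraMap P (AdicRing.RPow R I n)).comp MvPolynomial.C = algebraMap R (AdicRing.RPow R I n)
          from RingHom.ext fun r => (algebraMap_rPow n r).symm]
      have hmem : algebraMap P (AdicRing.RPow R I n) p ∈
          (K ^ m ⊔ Ideal.span (Set.range c)).map (algebraMap P (AdicRing.RPow R I n)) := by
        rw [show algebraMap P (AdicRing.RPow R I n) p = (algebraMap P _ p - z) + z by ring]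
        exact add_mem (hle hker) (Ideal.map_mono le_sup_left hz')
      have hres := Ideal.mem_map_of_mem (AdicCompletion.evalₐ K m).toRingHom hmem
      rw [Ideal.map_map, show (AdicCompletion.evalₐ K m).toRingHom.comp (algebraMap P (AdicRing.RPow R I n)) =
        Ideal.Quotient.mk (K ^ m) from RingHom.ext fun q => (AdicCompletion.evalₐ K m).commutes q] at hres
      rw [show (AdicCompletion.evalₐ K m).toRingHom (algebraMap P (AdicRing.RPow R I n) p) =
        Ideal.Quotient.mk (K ^ m) p from (AdicCompletion.evalₐ K m).commutes p] at hres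
      rwa [Ideal.mem_quotient_iff_mem le_sup_left] at hres
    · rintro _ ⟨g, rfl⟩
      rw [SetLike.mem_coe, RingHom.mem_ker]
      refine (hval (c g)).trans (Ideal.Quotient.eq_zero_iff_mem.2 ?_)
      have h1 : φ g.1 = 0 := by
        have : (g.1 : AdicRing.RPow R I n) ∈ RingHom.ker φ.toRingHom := hT ▸ Ideal.subset_span g.2
        exact this
      have h2 := Ideal.mem_map_of_mem φ.toRingHom (hc g)
      rw [map_sub, ← Ideal.map_pow, Ideal.map_map, Ideal.map_map,
        show φ.toRingHom g.1 = 0 from h1, zero_sub] at h2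
      have h3 : ((φ.toRingHom.comp (algebraMap P (AdicRing.RPow R I n))).comp MvPolynomial.C) =
          algebraMap R A := RingHom.ext fun r => by
        show φ (algebraMap P _ (MvPolynomial.C r)) = _
        rw [← algebraMap_rPow, φ.commutes]
      rw [h3] at h2
      exact neg_mem_iff.1 h2
  rw [hE]
  exact Submodule.FG.sup hK.pow (Submodule.fg_span (Set.finite_range c))

/-- The preimage of `I ^ m A` in a presentation is finitely generated. -/
theorem fg_preimage (hI : I.FG) {n : ℕ} (φ : AdicRing.RPow R I n →ₐ[R] A) (hφ : Function.Surjective φ)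
    (m : ℕ) (hfp : Algebra.FinitePresentation R (A ⧸ (I ^ m).map (algebraMap R A))) :
    (((I ^ m).map (algebraMap R A)).comap φ.toRingHom).FG := by
  obtain ⟨χ, hχ, hval⟩ := exists_trunc_hom φ hI hφ m
  let P := MvPolynomial (Fin n) R
  let K : Ideal P := I.map MvPolynomial.C
  have hK : K.FG := hI.map _
  have hker : (RingHom.ker χ.toRingHom).FG := Algebra.FinitePresentation.ker_fG_of_surjective χ hχ
  have hE : ((I ^ m).map (algebraMap R A)).comap φ.toRingHom =
      (RingHom.ker χ.toRingHom).map (algebraMap P (AdicRing.RPow R I n)) ⊔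
        (K ^ m).map (algebraMap P (AdicRing.RPow R I n)) := by
    have hKle : (K ^ m).map (algebraMap P (AdicRing.RPow R I n)) ≤
        ((I ^ m).map (algebraMap R A)).comap φ.toRingHom := by
      rw [← Ideal.map_le_iff_le_comap, ← Ideal.map_pow, Ideal.map_map, Ideal.map_map]
      exact le_of_eq (congrArg (fun f => Ideal.map f (I ^ m)) (RingHom.ext fun r => by
        show φ (algebraMap P _ (MvPolynomial.C r)) = _
        rw [← algebraMap_rPow, φ.commutes]))
    refine le_antisymm (fun s hs => ?_) (sup_le ?_ hKle)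
    · obtain ⟨c, hc⟩ := exists_sub_mem_map_pow hK m s
      rw [show s = algebraMap P _ c + (s - algebraMap P _ c) by ring]
      refine Submodule.add_mem_sup (Ideal.mem_map_of_mem _ ?_) hc
      rw [RingHom.mem_ker]
      refine (hval c).trans (Ideal.Quotient.eq_zero_iff_mem.2 ?_)
      have h := sub_mem (show φ s ∈ (I ^ m).map (algebraMap R A) from hs)
        (show φ (s - algebraMap P _ c) ∈ (I ^ m).map (algebraMap R A) from hKle hc)
      rwa [← map_sub, sub_sub_cancel] at h
    · rw [Ideal.map_le_iff_le_comap]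
      intro c hc
      rw [Ideal.mem_comap, Ideal.mem_comap]
      exact Ideal.Quotient.eq_zero_iff_mem.1 ((hval c).symm.trans hc)
  rw [hE]
  exact Submodule.FG.sup (hker.map _) (Ideal.FG.map hK.pow _)

/-- Topological finite presentation is detected on truncations. -/
theorem topFinitePresentation_of_trunc (hR : AdicRing.IsBase R I) [IsAdicComplete (I.map (algebraMap R A)) A]
    (h : ∀ m, Algebra.FinitePresentation R (A ⧸ (I ^ m).map (algebraMap R A))) :
    AdicRing.TopFinitePresentation R I A := by
  classical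
  have hI := fg_of_isBase hR
  have hA : AdicRing.TopFiniteType R I A := by
    refine topFiniteType_of_finiteType_quotient hI ?_
    have := h 1
    rw [pow_one] at this
    infer_instance
  obtain ⟨n, φ, hφ⟩ := hA
  refine ⟨n, φ, hφ, ?_⟩
  rcases cases_isBase hR with ⟨hN, -⟩ | ⟨hd, hv, t, ht0, rfl, htm, hrad⟩
  · have := isNoetherianRing_rPow (R := R) (I := I) n
    exact IsNoetherian.noetherian _
  let S := AdicRing.RPow R (Ideal.span {t}) n
  let T : S := algebraMap R S t
  let a : Ideal S := RingHom.ker φ.toRingHom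
  have hS : AdicRing.TopFiniteType R (Ideal.span {t}) S := ⟨n, AlgHom.id R S, Function.surjective_id⟩
  let asat : Ideal S :=
    { carrier := {x | ∃ k : ℕ, T ^ k * x ∈ a}
      zero_mem' := ⟨0, by rw [mul_zero]; exact zero_mem _⟩
      add_mem' := by
        rintro x y ⟨k, hk⟩ ⟨l, hl⟩
        refine ⟨k + l, ?_⟩
        rw [mul_add, pow_add, mul_assoc, mul_assoc, mul_left_comm (T ^ k) (T ^ l) x]
        exact add_mem (a.mul_mem_left _ hk) (a.mul_mem_left _ hl)
      smul_mem' := by
        rintro b x ⟨k, hk⟩
        exact ⟨k, by rw [smul_eq_mul, mul_left_comm]; exact a.mul_mem_left _ hk⟩ }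
  have hsat : asat.FG := fg_of_saturated hR hS S S asat fun x k hx => by
    obtain ⟨l, hl⟩ := hx (t ^ k) (Ideal.pow_mem_pow (Ideal.mem_span_singleton_self t) k)
    refine ⟨l + k, ?_⟩
    rw [pow_add, mul_assoc]
    rwa [Algebra.smul_def, map_pow] at hl
  obtain ⟨Ts, hTs⟩ := hsat
  have hb : ∀ g : Ts, ∃ k : ℕ, T ^ k * g.1 ∈ a := fun g => by
    have : g.1 ∈ asat := hTs ▸ Ideal.subset_span g.2
    exact this
  choose k hk using hb
  let n₀ := Finset.univ.sup k
  have hn₀ : ∀ x ∈ asat, T ^ n₀ * x ∈ a := fun x hx => by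
    rw [← hTs] at hx
    induction hx using Submodule.span_induction with
    | mem g hg =>
      obtain ⟨d, hd⟩ := Nat.exists_eq_add_of_le (Finset.le_sup (f := k) (Finset.mem_univ ⟨g, hg⟩))
      rw [show n₀ = k ⟨g, hg⟩ + d from hd, add_comm, pow_add, mul_assoc]
      exact a.mul_mem_left _ (hk ⟨g, hg⟩)
    | zero => rw [mul_zero]; exact zero_mem _
    | add x y _ _ hx hy => rw [mul_add]; exact add_mem hx hy
    | smul c x _ hx => rw [smul_eq_mul, mul_left_comm]; exact a.mul_mem_left _ hx
  have hmapT : ∀ m, ((Ideal.span {t}) ^ m).map (algebraMap R S) = Ideal.span {T ^ m} := fun m => by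
    have key : ∀ {S' : Type u} [CommRing S'] (g : R →+* S'),
        ((Ideal.span {t}) ^ m).map g = Ideal.span {g t ^ m} := fun g => by
      rw [Ideal.span_singleton_pow, Ideal.map_span, Set.image_singleton, map_pow]
    exact key _
  obtain ⟨E, hE⟩ := fg_preimage hI φ hφ (n₀ + 1) (h (n₀ + 1))
  have hsplit : ∀ g : E, ∃ g' ∈ a, g.1 - g' ∈ Ideal.span {T ^ (n₀ + 1)} := fun g => by
    have hg : g.1 ∈ ((Ideal.span {t} ^ (n₀ + 1)).map (algebraMap R A)).comap φ.toRingHom :=
      hE ▸ Ideal.subset_span g.2
    rw [Ideal.mem_comap, show algebraMap R A = φ.toRingHom.comp (algebraMap R S) from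
      RingHom.ext fun r => (φ.commutes r).symm, ← Ideal.map_map,
      Ideal.mem_map_iff_of_surjective φ.toRingHom hφ] at hg
    obtain ⟨z, hz, hzg⟩ := hg
    refine ⟨g.1 - z, ?_, by rw [sub_sub_cancel, ← hmapT]; exact hz⟩
    rw [RingHom.mem_ker, map_sub, hzg, sub_self]
  choose g' hg' hgd using hsplit
  let G : Ideal S := Ideal.span (Set.range g')
  have hGa : G ≤ a := Ideal.span_le.2 (Set.range_subset_iff.2 hg')
  have hEle : ((Ideal.span {t} ^ (n₀ + 1)).map (algebraMap R A)).comap φ.toRingHom ≤
      G ⊔ Ideal.span {T ^ (n₀ + 1)} := by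
    rw [← hE]
    refine Ideal.span_le.2 fun g hg => ?_
    rw [show g = g' ⟨g, hg⟩ + (g - g' ⟨g, hg⟩) by ring]
    exact Submodule.add_mem_sup (Ideal.subset_span ⟨_, rfl⟩) (hgd ⟨g, hg⟩)
  have hstep : a ≤ G ⊔ Ideal.span {T} * a := fun x hx => by
    have hxE : x ∈ ((Ideal.span {t} ^ (n₀ + 1)).map (algebraMap R A)).comap φ.toRingHom := by
      rw [Ideal.mem_comap, show φ.toRingHom x = 0 from hx]
      exact zero_mem _
    obtain ⟨g, hg, z, hz, rfl⟩ := Submodule.mem_sup.1 (hEle hxE)
    obtain ⟨y, rfl⟩ := Ideal.mem_span_singleton'.1 hz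
    have hy : y ∈ asat := ⟨n₀ + 1, by
      have h2 := sub_mem hx (hGa hg)
      rwa [add_sub_cancel_left, mul_comm] at h2⟩
    refine Submodule.add_mem_sup hg ?_
    rw [show y * T ^ (n₀ + 1) = T * (T ^ n₀ * y) by ring]
    exact Ideal.mul_mem_mul (Ideal.mem_span_singleton_self _) (hn₀ y hy)
  have hAR := hasAR_topFiniteType hR hS
  have := isAdicComplete_rPow hR n
  have hT1 : Ideal.span {T} = (Ideal.span {t}).map (algebraMap R S) := by
    have := hmapT 1
    rw [pow_one, pow_one] at this
    exact this.symm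
  rw [show RingHom.ker φ.toRingHom = G from le_of_le_sup hAR hGa (hT1 ▸ hstep)]
  exact Submodule.fg_span (Set.finite_range g')

section Away

variable (f : A) (m : ℕ)

/-- Truncations commute with localisation. -/
theorem exists_awayQuotientEquiv :
    Nonempty ((Localization.Away f ⧸ (I ^ m).map (algebraMap R (Localization.Away f))) ≃ₐ[R]
      Localization.Away (Ideal.Quotient.mk ((I ^ m).map (algebraMap R A)) f)) := by
  let J := (I ^ m).map (algebraMap R A)
  let B := Localization.Away f
  have hJ : J.map (algebraMap A B) = (I ^ m).map (algebraMap R B) := by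
    rw [Ideal.map_map, ← IsScalarTower.algebraMap_eq]
  have : IsLocalization.Away (Ideal.Quotient.mk J f) (B ⧸ J.map (algebraMap A B)) := by
    show IsLocalization (Submonoid.powers _) _
    rw [show Submonoid.powers (Ideal.Quotient.mk J f) = Algebra.algebraMapSubmonoid (A ⧸ J) (Submonoid.powers f)
      from (Submonoid.map_powers (Ideal.Quotient.mk J) f).symm]
    infer_instance
  have : IsScalarTower R (A ⧸ J) (B ⧸ J.map (algebraMap A B)) :=
    IsScalarTower.of_algebraMap_eq fun r => by
      show Ideal.Quotient.mk _ (algebraMap R B r) = Ideal.Quotient.mk _ (algebraMap A B (algebraMap R A r))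
      rw [← IsScalarTower.algebraMap_apply]
  let e := IsLocalization.algEquiv (Submonoid.powers (Ideal.Quotient.mk J f)) (B ⧸ J.map (algebraMap A B))
    (Localization.Away (Ideal.Quotient.mk J f))
  refine ⟨(Ideal.quotientEquivAlgOfEq R hJ.symm).trans ?_⟩
  exact
    { e.toRingEquiv with
      commutes' := fun r => by
        show e (algebraMap R (B ⧸ J.map (algebraMap A B)) r) = _
        rw [IsScalarTower.algebraMap_apply R (A ⧸ J) (B ⧸ J.map (algebraMap A B)), e.commutes,
          ← IsScalarTower.algebraMap_apply] }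

/-- Truncations of a complete localisation. -/
theorem exists_cLocTruncEquiv (hI : I.FG) :
    Nonempty ((AdicRing.CLoc I f ⧸ (I ^ m).map (algebraMap R (AdicRing.CLoc I f))) ≃ₐ[R]
      Localization.Away f ⧸ (I ^ m).map (algebraMap R (Localization.Away f))) := by
  let B := Localization.Away f
  let K : Ideal B := I.map (algebraMap R B)
  have hK : K.FG := hI.map _
  have hev : ∀ x, AdicCompletion.evalₐ K m x = 0 ↔ x ∈ (K ^ m).map (algebraMap B (AdicCompletion K B)) := fun x => by
    obtain ⟨c, hc⟩ := exists_sub_mem_map_pow hK m x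
    have h1 : AdicCompletion.evalₐ K m (x - algebraMap B _ c) = 0 := by
      have h2 := Ideal.mem_map_of_mem (AdicCompletion.evalₐ K m).toRingHom hc
      rw [Ideal.map_map, show (AdicCompletion.evalₐ K m).toRingHom.comp (algebraMap B (AdicCompletion K B)) =
        Ideal.Quotient.mk (K ^ m) from RingHom.ext fun q => (AdicCompletion.evalₐ K m).commutes q,
        Ideal.map_quotient_self] at h2
      exact h2
    rw [map_sub, sub_eq_zero] at h1
    rw [h1, AlgHom.commutes, Ideal.Quotient.algebraMap_eq, Ideal.Quotient.eq_zero_iff_mem,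
      ← algebraMap_mem_map_pow_iff hK]
    exact ⟨fun h => by simpa using add_mem hc h, fun h => by simpa using sub_mem h hc⟩
  let ev : AdicRing.CLoc I f →ₐ[R] B ⧸ K ^ m := (AdicCompletion.evalₐ K m).restrictScalars R
  have hkerev : RingHom.ker ev = (I ^ m).map (algebraMap R (AdicRing.CLoc I f)) := by
    rw [IsScalarTower.algebraMap_eq R B (AdicRing.CLoc I f), ← Ideal.map_map, Ideal.map_pow]
    exact Ideal.ext hev
  exact ⟨(Ideal.quotientEquivAlgOfEq R hkerev.symm).trans
    ((Ideal.quotientKerAlgEquivOfSurjective (f := ev) (AdicCompletion.surjective_evalₐ K m)).trans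
      (Ideal.quotientEquivAlgOfEq R (Ideal.map_pow _ I m).symm))⟩

theorem exists_cLocTrunc (hI : I.FG) :
    Nonempty ((AdicRing.CLoc I f ⧸ (I ^ m).map (algebraMap R (AdicRing.CLoc I f))) ≃ₐ[R]
      Localization.Away (Ideal.Quotient.mk ((I ^ m).map (algebraMap R A)) f)) := by
  obtain ⟨e₁⟩ := exists_cLocTruncEquiv f m hI
  obtain ⟨e₂⟩ := exists_awayQuotientEquiv (I := I) f m
  exact ⟨e₁.trans e₂⟩

theorem isAdicComplete_cLoc (hI : I.FG) :
    IsAdicComplete (I.map (algebraMap R (AdicRing.CLoc I f))) (AdicRing.CLoc I f) := by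
  rw [show I.map (algebraMap R (AdicRing.CLoc I f)) =
    (I.map (algebraMap R (Localization.Away f))).map (algebraMap (Localization.Away f) (AdicRing.CLoc I f)) by
      rw [Ideal.map_map, ← IsScalarTower.algebraMap_eq]]
  exact isAdicComplete_map (hI.map _)

end Away

theorem topFiniteType_cLoc (hI : I.FG) (hA : AdicRing.TopFiniteType R I A) (f : A) :
    AdicRing.TopFiniteType R I (AdicRing.CLoc I f) := by
  have := isAdicComplete_cLoc (I := I) f hI
  refine topFiniteType_of_finiteType_quotient hI ?_
  have h1 := finiteType_trunc hI hA 1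
  obtain ⟨e⟩ := exists_cLocTrunc f 1 hI
  have h2 : Algebra.FiniteType (A ⧸ (I ^ 1).map (algebraMap R A))
      (Localization.Away (Ideal.Quotient.mk ((I ^ 1).map (algebraMap R A)) f)) :=
    have := IsLocalization.Away.finitePresentation (S := Localization.Away (Ideal.Quotient.mk ((I ^ 1).map (algebraMap R A)) f))
      (Ideal.Quotient.mk ((I ^ 1).map (algebraMap R A)) f)
    inferInstance
  have h3 : Algebra.FiniteType R (Localization.Away (Ideal.Quotient.mk ((I ^ 1).map (algebraMap R A)) f)) :=
    Algebra.FiniteType.trans h1 h2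
  exact (h3.equiv e.symm).equiv
    (Ideal.quotientEquivAlgOfEq R (by rw [pow_one]))

theorem topFinitePresentation_cLoc (hR : AdicRing.IsBase R I) (hA : AdicRing.TopFinitePresentation R I A)
    (f : A) : AdicRing.TopFinitePresentation R I (AdicRing.CLoc I f) := by
  have hI := fg_of_isBase hR
  have := isAdicComplete_cLoc (I := I) f hI
  refine topFinitePresentation_of_trunc hR fun m => ?_
  have h1 := finitePresentation_trunc hI hA m
  obtain ⟨e⟩ := exists_cLocTrunc f m hI
  have h2 : Algebra.FinitePresentation (A ⧸ (I ^ m).map (algebraMap R A))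
      (Localization.Away (Ideal.Quotient.mk ((I ^ m).map (algebraMap R A)) f)) :=
    IsLocalization.Away.finitePresentation (Ideal.Quotient.mk _ f)
  exact (Algebra.FinitePresentation.trans R (A ⧸ (I ^ m).map (algebraMap R A))
    (Localization.Away (Ideal.Quotient.mk ((I ^ m).map (algebraMap R A)) f))).equiv e.symm

theorem topFiniteType_of_forall_cLoc (hI : I.FG) [IsAdicComplete (I.map (algebraMap R A)) A] {r : ℕ}
    (f : Fin r → A) (hf : Ideal.span (Set.range f) = ⊤)
    (h : ∀ i, AdicRing.TopFiniteType R I (AdicRing.CLoc I (f i))) : AdicRing.TopFiniteType R I A := by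
  refine topFiniteType_of_finiteType_quotient hI ?_
  let J := (I ^ 1).map (algebraMap R A)
  have hspan : Ideal.span (Set.range fun i => Ideal.Quotient.mk J (f i)) = ⊤ := by
    rw [Set.range_comp' (Ideal.Quotient.mk J) f, ← Ideal.map_span, hf, Ideal.map_top]
  have h1 : Algebra.FiniteType R (A ⧸ J) := by
    rw [← RingHom.finiteType_algebraMap]
    refine RingHom.finiteType_ofLocalizationSpanTarget _ _ hspan ?_
    rintro ⟨_, i, rfl⟩
    obtain ⟨e⟩ := exists_cLocTrunc (f i) 1 hI
    rw [← IsScalarTower.algebraMap_eq, RingHom.finiteType_algebraMap]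
    exact (finiteType_trunc hI (h i) 1).equiv e
  exact h1.equiv (Ideal.quotientEquivAlgOfEq R (congrArg (Ideal.map (algebraMap R A)) (pow_one I)))

theorem topFinitePresentation_of_forall_cLoc (hR : AdicRing.IsBase R I)
    [IsAdicComplete (I.map (algebraMap R A)) A] {r : ℕ} (f : Fin r → A) (hf : Ideal.span (Set.range f) = ⊤)
    (h : ∀ i, AdicRing.TopFinitePresentation R I (AdicRing.CLoc I (f i))) :
    AdicRing.TopFinitePresentation R I A := by
  have hI := fg_of_isBase hR
  refine topFinitePresentation_of_trunc hR fun m => ?_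
  let J := (I ^ m).map (algebraMap R A)
  refine Algebra.FinitePresentation.of_span_eq_top_target (Set.range fun i => Ideal.Quotient.mk J (f i)) ?_ ?_
  · rw [Set.range_comp' (Ideal.Quotient.mk J) f, ← Ideal.map_span, hf, Ideal.map_top]
  · rintro _ ⟨i, rfl⟩
    obtain ⟨e⟩ := exists_cLocTrunc (f i) m hI
    exact (finitePresentation_trunc hI (h i) m).equiv e

end AdicRingLib
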