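import Groth.Agent.AdicRingLib.RigLocal
import Groth.Agent.AdicRingLib.Trunc
import Mathlib.RingTheory.NoetherNormalization
import Mathlib.RingTheory.Adjoin.Polynomial.Basic
import Mathlib.RingTheory.IntegralClosure.IsIntegralClosure.Basic

/-! Rig-points: domains topologically of finite type with trivial generic fibre are finite. -/

set_option autoImplicit false

universe u

open IsLocalRing

namespace AdicRingLib

variable {R : Type u} [CommRing R] [IsDomain R] [ValuationRing R] {t : R} (h : IsHeightOne R t)
include h

/-- An algebra map from restricted power series with prescribed values. -/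
theorem IsHeightOne.exists_hom {B : Type u} [CommRing B] [Algebra R B]
    [IsAdicComplete ((Ideal.span {t}).map (algebraMap R B)) B] {n : ℕ} (y : Fin n → B) :
    ∃ ψ : AdicRing.RPow R (Ideal.span {t}) n →ₐ[R] B, ∀ p : MvPolynomial (Fin n) R,
      ψ (algebraMap (MvPolynomial (Fin n) R) (AdicRing.RPow R (Ideal.span {t}) n) p) = MvPolynomial.aeval y p := by
  let θ : MvPolynomial (Fin n) R →ₐ[R] B := MvPolynomial.aeval y
  let K : Ideal (MvPolynomial (Fin n) R) := (Ideal.span {t}).map MvPolynomial.C
  have hK : K.map θ.toRingHom ≤ (Ideal.span {t}).map (algebraMap R B) := by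
    rw [Ideal.map_map]
    exact le_of_eq (congrArg (fun f => Ideal.map f (Ideal.span {t})) (RingHom.ext fun r => θ.commutes r))
  let Ψ := CompleteLib.completionLift K _ θ.toRingHom hK
  refine ⟨{ Ψ with
    commutes' := fun r => by
      show Ψ (algebraMap R (AdicRing.RPow R (Ideal.span {t}) n) r) = _
      rw [algebraMap_rPow]
      exact (CompleteLib.completionLift_algebraMap K _ θ.toRingHom hK _).trans (θ.commutes r) },
    fun p => CompleteLib.completionLift_algebraMap K _ θ.toRingHom hK p⟩

variable {B : Type u} [CommRing B] [Algebra R B]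

theorem IsHeightOne.map_maximalIdeal_le_radical :
    (maximalIdeal R).map (algebraMap R B) ≤ (Ideal.span {algebraMap R B t}).radical := by
  refine Ideal.map_le_iff_le_comap.2 fun r hr => ?_
  obtain ⟨m, c, hc⟩ := h.radical r hr
  exact ⟨m, by
    rw [← map_pow, hc, map_mul]
    exact Ideal.mul_mem_right _ _ (Ideal.mem_span_singleton_self _)⟩

theorem IsHeightOne.injective_algebraMap [IsDomain B] (htB : algebraMap R B t ≠ 0) :
    Function.Injective (algebraMap R B) := by
  refine (injective_iff_map_eq_zero _).2 fun a ha => by_contra fun ha0 => ?_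
  obtain ⟨n, hn⟩ := h.exists_dvd_pow ha0
  have h1 := map_dvd (algebraMap R B) hn
  rw [ha, zero_dvd_iff, map_pow] at h1
  exact htB (pow_eq_zero_iff'.1 h1).1

/-- A domain topologically of finite type whose generic fibre is a field is finite. -/
theorem IsHeightOne.finite_of_generic_field [IsDomain B] (hB : AdicRing.TopFiniteType R (Ideal.span {t}) B)
    (htB : algebraMap R B t ≠ 0) (hfld : ∀ b : B, b ≠ 0 → ∃ n : ℕ, b ∣ algebraMap R B t ^ n) :
    Module.Finite R B := by
  classical
  have hcomp := isAdicComplete_topFiniteType h.isBase hB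
  have hmapt : (Ideal.span {t}).map (algebraMap R B) = Ideal.span {algebraMap R B t} := by
    rw [Ideal.map_span, Set.image_singleton]
  have hjac : Ideal.span {algebraMap R B t} ≤ (⊥ : Ideal B).jacobson := hmapt ▸ IsAdicComplete.le_jacobson_bot _
  have hinj := h.injective_algebraMap htB
  let J := (maximalIdeal R).map (algebraMap R B)
  have hJtop : J ≠ ⊤ := fun htop => by
    have h1 : (Ideal.span {algebraMap R B t}).radical = ⊤ := top_le_iff.1 (htop ▸ h.map_maximalIdeal_le_radical)
    rw [Ideal.radical_eq_top] at h1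
    obtain ⟨M, hM⟩ := Ideal.exists_maximal B
    exact hM.ne_top (top_le_iff.1 (h1 ▸ hjac.trans (sInf_le ⟨bot_le, hM⟩)))
  have : Nontrivial (B ⧸ J) := Ideal.Quotient.nontrivial_iff.2 hJtop
  let f0 : ResidueField R →+* B ⧸ J := Ideal.Quotient.lift (maximalIdeal R)
    ((Ideal.Quotient.mk J).comp (algebraMap R B))
    fun r hr => Ideal.Quotient.eq_zero_iff_mem.2 (Ideal.mem_map_of_mem _ hr)
  let _ : Algebra (ResidueField R) (B ⧸ J) := f0.toAlgebra
  have : IsScalarTower R (ResidueField R) (B ⧸ J) := IsScalarTower.of_algebraMap_eq fun r => rfl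
  have hft0 : Algebra.FiniteType R (B ⧸ ((Ideal.span {t}) ^ 1).map (algebraMap R B)) :=
    finiteType_trunc (fg_of_isBase h.isBase) hB 1
  have htJ : ((Ideal.span {t}) ^ 1).map (algebraMap R B) ≤ J :=
    Ideal.map_mono (by rw [pow_one, Ideal.span_singleton_le_iff_mem]; exact h.mem)
  have hftR : Algebra.FiniteType R (B ⧸ J) :=
    Algebra.FiniteType.of_surjective (Ideal.Quotient.factorₐ R htJ) (Ideal.Quotient.factor_surjective htJ)
  have : Algebra.FiniteType (ResidueField R) (B ⧸ J) :=
    Algebra.FiniteType.of_restrictScalars_finiteType R _ _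
  obtain ⟨s, g, hginj, hgfin⟩ := exists_finite_inj_algHom_of_fg (ResidueField R) (B ⧸ J)
  choose y hy using fun i : Fin s => Ideal.Quotient.mk_surjective (g (MvPolynomial.X i))
  obtain ⟨ψ, hψ⟩ := h.exists_hom (B := B) y
  let P := MvPolynomial (Fin s) R
  let S := AdicRing.RPow R (Ideal.span {t}) s
  have hres : ∀ p : P, Ideal.Quotient.mk J (MvPolynomial.aeval y p) =
      g (MvPolynomial.map (residue R) p) := by
    intro p
    induction p using MvPolynomial.induction_on with
    | C a =>
      rw [MvPolynomial.aeval_C, MvPolynomial.map_C, ← MvPolynomial.algebraMap_eq, g.commutes]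
      rfl
    | add p q hp hq => rw [map_add, map_add, hp, hq, map_add, map_add]
    | mul_X p i hp => rw [map_mul, map_mul, hp, MvPolynomial.aeval_X, hy, map_mul, MvPolynomial.map_X, map_mul]
  let _ : Algebra S B := ψ.toAlgebra
  have : IsScalarTower R S B := IsScalarTower.of_algebraMap_eq fun r => (ψ.commutes r).symm
  -- `B` is finite over `S`
  let _ : Algebra P B := (MvPolynomial.aeval y).toRingHom.toAlgebra
  have : IsScalarTower R P B := IsScalarTower.of_algebraMap_eq fun r => ((MvPolynomial.aeval y).commutes r).symm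
  let Q := B ⧸ Ideal.span {algebraMap R B t}
  have hQft : Algebra.FiniteType R Q :=
    hft0.equiv (Ideal.quotientEquivAlgOfEq R (by rw [pow_one, hmapt]))
  have hQPft : Algebra.FiniteType P Q := Algebra.FiniteType.of_restrictScalars_finiteType R _ _
  have hQint : Algebra.IsIntegral P Q := ⟨fun q => by
    obtain ⟨b, rfl⟩ := Ideal.Quotient.mk_surjective q
    obtain ⟨p, hp, hpe⟩ := hgfin.to_isIntegral (Ideal.Quotient.mk J b)
    have hlifts : p ∈ Polynomial.lifts (MvPolynomial.map (σ := Fin s) (residue R)) :=
      Polynomial.mem_lifts _ |>.2 (Polynomial.map_surjective _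
        (MvPolynomial.map_surjective _ residue_surjective) p)
    obtain ⟨p', hp', -, hmon⟩ := Polynomial.lifts_and_degree_eq_and_monic hlifts hp
    have h1 : Ideal.Quotient.mk J (Polynomial.aeval b p') = 0 := by
      rw [Polynomial.aeval_def, Polynomial.hom_eval₂,
        show (Ideal.Quotient.mk J).comp (algebraMap P B) = g.toRingHom.comp (MvPolynomial.map (residue R)) from
          RingHom.ext fun r => hres r, ← Polynomial.eval₂_map, hp']
      exact hpe
    obtain ⟨N, hN⟩ := h.map_maximalIdeal_le_radical (Ideal.Quotient.eq_zero_iff_mem.1 h1)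
    refine ⟨p' ^ N, hmon.pow N, ?_⟩
    rw [← Polynomial.aeval_def, map_pow,
      show Polynomial.aeval (Ideal.Quotient.mk (Ideal.span {algebraMap R B t}) b) p' =
        Ideal.Quotient.mk _ (Polynomial.aeval b p') from
          Polynomial.aeval_algHom_apply (Ideal.Quotient.mkₐ P _) b p', ← map_pow,
      Ideal.Quotient.eq_zero_iff_mem]
    exact hN⟩
  have hQfin : Module.Finite P Q := Algebra.IsIntegral.finite
  let _ : Module S Q := Module.compHom Q (algebraMap S B)
  have hPS : ∀ p : P, algebraMap S B (algebraMap P S p) = algebraMap P B p := hψ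
  let JS : Ideal S := (Ideal.span {t}).map (algebraMap R S)
  have hJS : JS.map (algebraMap S B) = Ideal.span {algebraMap R B t} := by
    rw [Ideal.map_map, ← IsScalarTower.algebraMap_eq, hmapt]
  have : Module.Finite S (B ⧸ (JS • ⊤ : Submodule S B)) := by
    obtain ⟨T, hT⟩ := hQfin.fg_top
    choose l hl using fun q : Q => Ideal.Quotient.mk_surjective q
    refine ⟨⟨T.image fun q => Submodule.Quotient.mk (l q), eq_top_iff.2 fun z _ => ?_⟩⟩
    obtain ⟨b, rfl⟩ := Submodule.Quotient.mk_surjective _ z
    have hb : Ideal.Quotient.mk (Ideal.span {algebraMap R B t}) b ∈ Submodule.span P (T : Set Q) := by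
      rw [hT]; trivial
    obtain ⟨c, -, hc⟩ := Submodule.mem_span_finset.1 hb
    have hmem : b - ∑ q ∈ T, algebraMap P B (c q) * l q ∈ JS.map (algebraMap S B) := by
      rw [hJS, ← Ideal.Quotient.eq, map_sum, ← hc]
      refine Finset.sum_congr rfl fun q _ => ?_
      rw [map_mul, hl, Algebra.smul_def]
      rfl
    have hz0 : (Submodule.Quotient.mk (b - ∑ q ∈ T, algebraMap P B (c q) * l q) :
        B ⧸ (JS • ⊤ : Submodule S B)) = 0 :=
      (Submodule.Quotient.mk_eq_zero _).2 (by rw [Ideal.smul_top_eq_map]; exact hmem)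
    rw [show b = ∑ q ∈ T, algebraMap P B (c q) * l q + (b - ∑ q ∈ T, algebraMap P B (c q) * l q) by ring,
      Submodule.Quotient.mk_add, hz0, add_zero]
    rw [← Submodule.mkQ_apply, map_sum]
    refine Submodule.sum_mem _ fun q hq => ?_
    rw [← hPS, ← Algebra.smul_def, map_smul]
    exact Submodule.smul_mem _ _ (Submodule.subset_span (Finset.mem_image_of_mem _ hq))
  have hScomp : IsAdicComplete JS S := isAdicComplete_rPow h.isBase s
  have hHaus : IsHausdorff JS B := by
    refine (IsHausdorff.map_algebraMap_iff (R := S) (S := B) (I := JS) (M := B)).1 ?_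
    rw [hJS, ← hmapt]
    infer_instance
  have hfinS : Module.Finite S B := CompleteLib.finite_of_quotient_finite (I := JS) inferInstance
  -- `S` embeds
  have hS := isModel_rPow h.ne_zero s h.isBase
  have hψinj : ∀ w : S, ψ w = 0 → w = 0 := by
    intro w hw
    by_contra hw0
    have hK := C_fg h.isBase s
    have key : ∀ m, ∃ w', w = algebraMap R S t ^ m * w' ∧ ψ w' = 0 := by
      intro m
      induction m with
      | zero => exact ⟨w, by simp, hw⟩
      | succ m ih =>
        obtain ⟨w', hww, hw'⟩ := ih
        obtain ⟨p, hp⟩ := exists_sub_mem_map_pow hK 1 w'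
        have hpp : w' - algebraMap P S p ∈ Ideal.span {algebraMap R S t} := by
          rw [pow_one, ← map_rPow] at hp
          have hsp : (Ideal.span {t}).map (algebraMap R S) = Ideal.span {algebraMap R S t} :=
            (Ideal.map_span (algebraMap R S) {t}).trans (congrArg Ideal.span Set.image_singleton)
          rwa [hsp] at hp
        obtain ⟨z, hz⟩ := Ideal.mem_span_singleton'.1 hpp
        suffices hdvd : MvPolynomial.C t ∣ p by
          obtain ⟨p', rfl⟩ := hdvd
          refine ⟨z + algebraMap P S p', ?_, ?_⟩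
          · rw [hww, pow_succ, mul_assoc, mul_add, mul_comm _ z, hz, algebraMap_rPow, ← map_mul,
              sub_add_cancel]
          · refine (mul_eq_zero.1 (?_ : algebraMap R B t * ψ (z + algebraMap P S p') = 0)).resolve_left htB
            rw [← ψ.commutes t, ← map_mul, mul_add, mul_comm _ z, hz, algebraMap_rPow, ← map_mul,
              sub_add_cancel, hw']
        by_contra hdvd
        obtain ⟨a, hap, ha⟩ := exists_dvd_all (insert t (p.support.image fun e => p.coeff e))
          ⟨t, Finset.mem_insert_self _ _⟩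
        have hat : ¬ t ∣ a := fun hta => hdvd ((MvPolynomial.C_dvd_iff_dvd_coeff _ _).2 fun e => by
          by_cases he : p.coeff e = 0
          · rw [he]; exact dvd_zero _
          · exact hta.trans (ha _ (Finset.mem_insert_of_mem (Finset.mem_image.2
              ⟨e, MvPolynomial.mem_support_iff.2 he, rfl⟩))))
        obtain ⟨p₀, hp₀⟩ : MvPolynomial.C a ∣ p := (MvPolynomial.C_dvd_iff_dvd_coeff _ _).2 fun e => by
          by_cases he : p.coeff e = 0
          · rw [he]; exact dvd_zero _
          · exact ha _ (Finset.mem_insert_of_mem (Finset.mem_image.2 ⟨e, MvPolynomial.mem_support_iff.2 he, rfl⟩))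
        obtain ⟨d, hd⟩ := ha t (Finset.mem_insert_self _ _)
        have hdm : d ∈ maximalIdeal R := fun hu => hat (by rw [hd]; exact (associated_mul_unit_left a d hu).dvd)
        have h0 : ψ (algebraMap P S p₀ + algebraMap R S d * z) = 0 := by
          refine (mul_eq_zero.1 (?_ : algebraMap R B a * ψ (algebraMap P S p₀ + algebraMap R S d * z) = 0)).resolve_left
            fun h0 => ?_
          · rw [← ψ.commutes a, ← map_mul, mul_add, ← mul_assoc, ← map_mul, ← hd, mul_comm _ z, hz,
              algebraMap_rPow, ← map_mul, ← hp₀, add_sub_cancel, hw']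
          · have : a = 0 := hinj (h0.trans (map_zero _).symm)
            rw [this, zero_mul] at hd
            exact h.ne_zero hd
        have h1 := congrArg (Ideal.Quotient.mk J) h0
        rw [map_add, map_add, map_mul, map_mul, hψ, hres, ψ.commutes, map_zero,
          Ideal.Quotient.eq_zero_iff_mem.2 (Ideal.mem_map_of_mem _ hdm), zero_mul, add_zero,
          ← map_zero g] at h1
        have h2 := hginj h1
        rcases Finset.mem_insert.1 hap with hat' | hcoef
        · exact hat (hat'.symm ▸ dvd_rfl)
        · obtain ⟨e, he, hea⟩ := Finset.mem_image.1 hcoef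
          have hc : p₀.coeff e = 1 := by
            have h3 := congrArg (MvPolynomial.coeff e) hp₀
            rw [MvPolynomial.coeff_C_mul, hea] at h3
            refine (mul_right_inj' fun ha0 => ?_).1 (h3.symm.trans (mul_one a).symm)
            exact MvPolynomial.mem_support_iff.1 he (hea.trans ha0)
          have h4 := congrArg (MvPolynomial.coeff e) h2
          rw [MvPolynomial.coeff_map, hc, map_one, MvPolynomial.coeff_zero] at h4
          exact one_ne_zero h4
    have hScompl := hScomp
    refine hw0 (CompleteLib.eq_zero_of_forall_mem (I := JS) fun m => ?_)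
    obtain ⟨w', hww, -⟩ := key m
    rw [hww, smul_eq_mul, Ideal.mul_top]
    exact Ideal.mul_mem_right _ _ (Ideal.pow_mem_pow (Ideal.mem_map_of_mem _ (Ideal.mem_span_singleton_self t)) m)
  -- there are no variables
  rcases Nat.eq_zero_or_pos s with hs | hs
  · subst hs
    have : Module.Finite R S := by
      let JR : Ideal R := Ideal.span {t}
      have hH : IsHausdorff JR S := (IsHausdorff.map_algebraMap_iff (R := R) (S := S) (I := JR) (M := S)).1
        (isAdicComplete_rPow h.isBase 0).toIsHausdorff
      have := h.isBase.1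
      have hq : Module.Finite R (S ⧸ (JR • ⊤ : Submodule R S)) := by
        refine Module.Finite.of_surjective ((JR • ⊤ : Submodule R S).mkQ.comp (Algebra.linearMap R S)) fun z => ?_
        obtain ⟨w, rfl⟩ := Submodule.mkQ_surjective _ z
        obtain ⟨p, hp⟩ := exists_sub_mem_map_pow (C_fg h.isBase 0) 1 w
        rw [pow_one, ← map_rPow] at hp
        refine ⟨p.coeff 0, ?_⟩
        rw [LinearMap.comp_apply, Submodule.mkQ_apply, Submodule.mkQ_apply, Submodule.Quotient.eq,
          Ideal.smul_top_eq_map, Algebra.linearMap_apply, algebraMap_rPow, ← MvPolynomial.eq_C_of_isEmpty,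
          ← neg_sub]
        exact neg_mem hp
      exact CompleteLib.finite_of_quotient_finite hq
    exact Module.Finite.trans S B
  · exfalso
    let i : Fin s := ⟨0, hs⟩
    let Y : S := algebraMap P S (MvPolynomial.X i)
    have hY : ψ Y ≠ 0 := fun h0 => by
      have h1 := congrArg (Ideal.Quotient.mk J) h0
      rw [hψ, hres, map_zero, MvPolynomial.map_X, ← map_zero g] at h1
      exact MvPolynomial.X_ne_zero i (hginj h1)
    obtain ⟨n, b, hb⟩ := hfld _ hY
    obtain ⟨F, hF, hFb⟩ := Algebra.IsIntegral.isIntegral (R := S) b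
    have hzero : algebraMap S B ((F.scaleRoots Y).eval (algebraMap R S (t ^ n))) = 0 := by
      have hψt : algebraMap S B (algebraMap R S (t ^ n)) = algebraMap S B Y * b := by
        rw [← IsScalarTower.algebraMap_apply, map_pow]; exact hb
      rw [← Polynomial.eval₂_at_apply, hψt]
      exact Polynomial.scaleRoots_eval₂_eq_zero _ hFb
    have hev : (F.scaleRoots Y).eval (algebraMap R S (t ^ n)) = 0 := hψinj _ hzero
    have := h.isBase.1
    have : IsAdicComplete ((Ideal.span {t}).map (algebraMap R R)) R := by
      rw [Algebra.algebraMap_self, Ideal.map_id]; infer_instance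
    obtain ⟨ε, hε⟩ := h.exists_hom (B := R) (fun _ : Fin s => (0 : R))
    have hεY : ε Y = 0 := by rw [hε, MvPolynomial.aeval_X]
    have h5 := congrArg ε hev
    rw [map_zero] at h5
    replace h5 : ε.toRingHom ((F.scaleRoots Y).eval (algebraMap R S (t ^ n))) = 0 := h5
    rw [← Polynomial.eval_map_apply] at h5
    have hmapF : (F.scaleRoots Y).map ε.toRingHom = Polynomial.X ^ F.natDegree := by
      ext j
      rw [Polynomial.coeff_map, Polynomial.coeff_scaleRoots, Polynomial.coeff_X_pow]
      split_ifs with hj
      · rw [hj, Nat.sub_self, pow_zero, mul_one, hF.coeff_natDegree]; exact map_one ε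
      · rcases lt_or_gt_of_ne hj with hlt | hgt
        · show ε (_ * _) = 0
          rw [map_mul, map_pow, hεY, zero_pow (by omega), mul_zero]
        · rw [Polynomial.coeff_eq_zero_of_natDegree_lt hgt, zero_mul]; exact map_zero ε
    rw [hmapF, Polynomial.eval_pow, Polynomial.eval_X, show ε.toRingHom (algebraMap R S (t ^ n)) = t ^ n from
      ε.commutes _, ← pow_mul] at h5
    exact h.ne_zero (pow_eq_zero_iff'.1 h5).1

/-- The generic fibre of a domain of dimension at most one is a field. -/
theorem IsHeightOne.dvd_pow_of_ringKrullDim_le_one [IsDomain B] (hB : AdicRing.TopFiniteType R (Ideal.span {t}) B)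
    (hdim : ringKrullDim B ≤ 1) (b : B) (hb : b ≠ 0) : ∃ n : ℕ, b ∣ algebraMap R B t ^ n := by
  have := isAdicComplete_topFiniteType h.isBase hB
  have hjac : (Ideal.span {t}).map (algebraMap R B) ≤ (⊥ : Ideal B).jacobson := IsAdicComplete.le_jacobson_bot _
  have : Ring.KrullDimLE 1 B := (Order.krullDimLE_iff _ _).2 hdim
  have hrad : algebraMap R B t ∈ (Ideal.span {b}).radical := by
    rw [Ideal.radical_eq_sInf, Submodule.mem_sInf]
    rintro P ⟨hP, hPp⟩
    have hne : P ≠ ⊥ := fun h0 => hb (by
      have h1 : b ∈ P := hP (Ideal.mem_span_singleton_self b)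
      rwa [h0, Ideal.mem_bot] at h1)
    have hPm := Ideal.isMaximal_of_isPrime_of_ne_bot P hne
    exact (hjac.trans (sInf_le ⟨bot_le, hPm⟩)) (Ideal.mem_map_of_mem _ (Ideal.mem_span_singleton_self t))
  obtain ⟨n, hn⟩ := hrad
  exact ⟨n, Ideal.mem_span_singleton.1 hn⟩

theorem IsHeightOne.finite_of_ringKrullDim_le_one [IsDomain B] (hB : AdicRing.TopFiniteType R (Ideal.span {t}) B)
    (htB : algebraMap R B t ≠ 0) (hdim : ringKrullDim B ≤ 1) : Module.Finite R B :=
  h.finite_of_generic_field hB htB (h.dvd_pow_of_ringKrullDim_le_one hB hdim)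

theorem IsHeightOne.algebraMap_t_ne_zero [Nontrivial B] (hT : AdicRing.NoPowTorsion (Ideal.span {t}) B) :
    algebraMap R B t ≠ 0 := fun h0 => one_ne_zero (hT (1 : B) 1 fun a ha => by
  rw [pow_one, Ideal.mem_span_singleton'] at ha
  obtain ⟨c, rfl⟩ := ha
  rw [Algebra.smul_def, map_mul, h0, mul_zero, zero_mul])

/-- Integral over `R`, or the inverse is. -/
theorem IsHeightOne.isIntegral_or_isIntegral_inv {L : Type u} [Field L] [Algebra R L]
    (hinj : Function.Injective (algebraMap R L)) {x : L} (hx : IsAlgebraic R x) :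
    IsIntegral R x ∨ IsIntegral R x⁻¹ := by
  classical
  obtain ⟨g, hg0, hgx⟩ := hx
  obtain ⟨c, hcs, hc⟩ := exists_dvd_all (g.support.image g.coeff)
    ((Polynomial.support_nonempty.2 hg0).image _)
  obtain ⟨e, he, hec⟩ := Finset.mem_image.1 hcs
  have hc0 : c ≠ 0 := hec ▸ Polynomial.mem_support_iff.1 he
  obtain ⟨g', hg'⟩ : Polynomial.C c ∣ g := (Polynomial.C_dvd_iff_dvd_coeff _ _).2 fun i => by
    by_cases hi : g.coeff i = 0
    · rw [hi]; exact dvd_zero _
    · exact hc _ (Finset.mem_image.2 ⟨i, Polynomial.mem_support_iff.2 hi, rfl⟩)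
  have he1 : g'.coeff e = 1 := by
    have h3 := congrArg (fun p => Polynomial.coeff p e) hg'
    simp only [Polynomial.coeff_C_mul, hec] at h3
    exact (mul_right_inj' hc0).1 (h3.symm.trans (mul_one c).symm)
  have hg'x : Polynomial.aeval x g' = 0 := by
    rw [hg', map_mul, Polynomial.aeval_C] at hgx
    exact (mul_eq_zero.1 hgx).resolve_left fun h0 => hc0 (hinj (h0.trans (map_zero _).symm))
  let C := integralClosure R L
  have hinjC : Function.Injective (algebraMap R C) := fun a b hab => hinj (congrArg Subtype.val hab)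
  have hCint : Algebra.IsIntegral R C := integralClosure.AlgebraIsIntegral
  have := h.isLocalRing_of_isIntegral hinjC
  -- Horner's partial evaluations
  let b : ℕ → L := fun j => ∑ i ∈ Finset.range (g'.natDegree + 1 - j), algebraMap R L (g'.coeff (j + i)) * x ^ i
  have hb0 : b 0 = 0 := by
    show ∑ i ∈ Finset.range (g'.natDegree + 1 - 0), algebraMap R L (g'.coeff (0 + i)) * x ^ i = 0
    rw [Polynomial.aeval_eq_sum_range] at hg'x
    simpa [Algebra.smul_def] using hg'x
  have hstep : ∀ j, j ≤ g'.natDegree → b j = algebraMap R L (g'.coeff j) + x * b (j + 1) := fun j hj => by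
    show ∑ i ∈ Finset.range (g'.natDegree + 1 - j), algebraMap R L (g'.coeff (j + i)) * x ^ i = _
    rw [show g'.natDegree + 1 - j = (g'.natDegree + 1 - (j + 1)) + 1 by omega, Finset.sum_range_succ',
      add_comm, Finset.mul_sum, add_zero, pow_zero, mul_one]
    refine congrArg _ (Finset.sum_congr rfl fun i _ => ?_)
    rw [show j + 1 + i = j + (i + 1) by omega, pow_succ]
    ring
  -- each `b (j + 1)` and `x * b (j + 1)` is integral
  have hbint : ∀ d j, j + d = g'.natDegree + 1 → 1 ≤ j → IsIntegral R (b j) ∧ IsIntegral R (x * b j) := by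
    intro d
    induction d with
    | zero =>
      intro j hj _
      have hb : b j = 0 := by
        show ∑ i ∈ Finset.range (g'.natDegree + 1 - j), _ = 0
        rw [show g'.natDegree + 1 - j = 0 by omega]; rfl
      rw [hb, mul_zero]
      exact ⟨isIntegral_zero, isIntegral_zero⟩
    | succ d ih =>
      intro j hj hj1
      have hbj : IsIntegral R (b j) := by
        rw [hstep j (by omega)]
        exact isIntegral_algebraMap.add (ih (j + 1) (by omega) (by omega)).2
      refine ⟨hbj, ?_⟩
      let cj : C := ⟨b j, hbj⟩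
      let q : Polynomial C := Polynomial.C cj * Polynomial.X ^ j +
        ∑ i ∈ Finset.range j, Polynomial.C (algebraMap R C (g'.coeff i)) * Polynomial.X ^ i
      have hq0 : Polynomial.aeval x q = 0 := by
        have hform : ∀ m, m ≤ j → b 0 = (∑ i ∈ Finset.range m, algebraMap R L (g'.coeff i) * x ^ i) + x ^ m * b m := by
          intro m hm
          induction m with
          | zero => simp
          | succ m ihm => rw [ihm (by omega), hstep m (by omega), Finset.sum_range_succ, pow_succ]; ring
        have h1 := hform j le_rfl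
        rw [hb0] at h1
        simp only [q, map_add, map_mul, Polynomial.aeval_C, map_pow, Polynomial.aeval_X, map_sum]
        rw [show (algebraMap C L) cj = b j from rfl]
        conv_rhs => rw [h1]
        rw [add_comm, mul_comm (b j)]
        rfl
      have hdeg : (∑ i ∈ Finset.range j, Polynomial.C (algebraMap R C (g'.coeff i)) * Polynomial.X ^ i).degree < (j : WithBot ℕ) :=
        lt_of_le_of_lt (Polynomial.degree_sum_le _ _) ((Finset.sup_lt_iff (WithBot.bot_lt_coe j)).2 fun i hi =>
          lt_of_le_of_lt (Polynomial.degree_C_mul_X_pow_le _ _) (WithBot.coe_lt_coe.2 (Finset.mem_range.1 hi)))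
      by_cases hcj : cj = 0
      · rw [show b j = 0 from congrArg Subtype.val hcj, mul_zero]
        exact isIntegral_zero
      have hlead : q.leadingCoeff = cj := by
        show (_ + _ : Polynomial C).leadingCoeff = _
        rw [Polynomial.leadingCoeff_add_of_degree_lt' (by rwa [Polynomial.degree_C_mul_X_pow _ hcj]),
          Polynomial.leadingCoeff_C_mul_X_pow]
      have h2 := isIntegral_leadingCoeff_smul q x hq0
      rw [hlead] at h2
      have h3 : IsIntegral R (cj • x) := isIntegral_trans (cj • x) h2
      rw [mul_comm]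
      exact h3
  by_cases hu : IsIntegral R x
  · exact Or.inl hu
  refine Or.inr ?_
  -- some `b j` or `x * b j` is a unit of the integral closure
  by_contra hv
  have hmem : ∀ j, 1 ≤ j → j ≤ g'.natDegree + 1 → ∀ (h1 : IsIntegral R (b j)) (h2 : IsIntegral R (x * b j)),
      (⟨b j, h1⟩ : C) ∈ maximalIdeal C ∧ (⟨x * b j, h2⟩ : C) ∈ maximalIdeal C := by
    intro j _ _ h1 h2
    refine ⟨fun hunit => hu ?_, fun hunit => hv ?_⟩
    · obtain ⟨w, hw⟩ := hunit.exists_right_inv
      have hw' : b j * (w : L) = 1 := congrArg Subtype.val hw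
      have : IsIntegral R ((x * b j) * (w : L)) := h2.mul w.2
      rwa [mul_assoc, hw', mul_one] at this
    · obtain ⟨w, hw⟩ := hunit.exists_right_inv
      have hw' : x * b j * (w : L) = 1 := congrArg Subtype.val hw
      have hx0 : x ≠ 0 := fun h0 => by rw [h0, zero_mul, zero_mul] at hw'; exact zero_ne_one hw'
      have : IsIntegral R (b j * (w : L)) := h1.mul w.2
      rwa [show b j * (w : L) = x⁻¹ by field_simp; linear_combination hw'] at this
  have hcoeff : ∀ i, i ≤ g'.natDegree → algebraMap R C (g'.coeff i) ∈ maximalIdeal C := by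
    intro i hi
    obtain ⟨h1, h2⟩ := hbint (g'.natDegree - i) (i + 1) (by omega) (by omega)
    have hx2 := (hmem (i + 1) (by omega) (by omega) h1 h2).2
    rcases Nat.eq_zero_or_pos i with rfl | hi0
    · rw [show algebraMap R C (g'.coeff 0) = -⟨x * b 1, h2⟩ from Subtype.ext (by
        show algebraMap R L (g'.coeff 0) = -(x * b 1)
        have := hstep 0 (Nat.zero_le _)
        rw [hb0] at this
        linear_combination -this)]
      exact neg_mem hx2
    · obtain ⟨h3, h4⟩ := hbint (g'.natDegree + 1 - i) i (by omega) hi0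
      rw [show algebraMap R C (g'.coeff i) = ⟨b i, h3⟩ - ⟨x * b (i + 1), h2⟩ from Subtype.ext (by
        show algebraMap R L (g'.coeff i) = b i - x * b (i + 1)
        rw [hstep i hi]; ring)]
      exact sub_mem (hmem i hi0 (by omega) h3 h4).1 hx2
  have h1 := hcoeff e (Polynomial.le_natDegree_of_ne_zero (by rw [he1]; exact one_ne_zero))
  rw [he1, map_one] at h1
  exact h1 isUnit_one

end AdicRingLib
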