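import Groth.Agent.AdicRingLib.RigClosedFinite
import Groth.Agent.AdicRingLib.CompLoc
import Mathlib.RingTheory.Localization.Integral
import Mathlib.Algebra.Polynomial.Lifts

/-! Rig-closed points seen through completed localisations. -/

set_option autoImplicit false

universe u

namespace AdicRingLib.RigClosed

open Polynomial in
/-- For a residue field of a finite type algebra, some denominator makes it finite. -/
theorem exists_denominator {A B : Type u} [CommRing A] [CommRing B] [Algebra A B] (J : Ideal B)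
    (hft : Algebra.FiniteType A (B ⧸ J)) (m : Ideal B) [m.IsMaximal] (hJm : J ≤ m) :
    ∃ f : A, algebraMap A B f ∉ m ∧ ∀ (R : Type u) [CommRing R] [Algebra A R] [Algebra R (B ⧸ m)]
      [IsScalarTower A R (B ⧸ m)], IsUnit (algebraMap A R f) → Module.Finite R (B ⧸ m) := by
  classical
  let := Ideal.Quotient.field m
  let n := m.comap (algebraMap A B)
  let := (Ideal.quotientMap m (algebraMap A B) (le_refl n)).toAlgebra
  have : IsScalarTower A (A ⧸ n) (B ⧸ m) := IsScalarTower.of_algebraMap_eq fun a => rfl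
  have hinj : Function.Injective (algebraMap (A ⧸ n) (B ⧸ m)) := Ideal.quotientMap_injective
  have : FaithfulSMul (A ⧸ n) (B ⧸ m) := (faithfulSMul_iff_algebraMap_injective _ _).2 hinj
  have hft' : Algebra.FiniteType A (B ⧸ m) :=
    hft.of_surjective (Ideal.Quotient.factorₐ A hJm) (Ideal.Quotient.factor_surjective hJm)
  let K := FractionRing (A ⧸ n)
  let := FractionRing.liftAlgebra (A ⧸ n) (B ⧸ m)
  have : Algebra.FiniteType (A ⧸ n) (B ⧸ m) := Algebra.FiniteType.of_restrictScalars_finiteType A _ _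
  have : Algebra.FiniteType K (B ⧸ m) := Algebra.FiniteType.of_restrictScalars_finiteType (A ⧸ n) _ _
  have := finite_of_finite_type_of_isJacobsonRing K (B ⧸ m)
  have halg : Algebra.IsAlgebraic (A ⧸ n) (B ⧸ m) :=
    (IsFractionRing.comap_isAlgebraic_iff (A := A ⧸ n) (K := K) (C := B ⧸ m)).2 inferInstance
  obtain ⟨s, hs⟩ := (hft'.out : (⊤ : Subalgebra A (B ⧸ m)).FG)
  have hlead : ∀ x : B ⧸ m, ∃ P : A[X], aeval x P = 0 ∧ P.leadingCoeff ∉ n := fun x => by
    obtain ⟨P, hP0, hPx⟩ := halg.isAlgebraic x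
    obtain ⟨P₀, hP₀, hdeg⟩ := Polynomial.exists_degree_eq_of_mem_lifts
      (Polynomial.mem_lifts_of_surjective (Ideal.Quotient.mk_surjective (I := n)) P)
    refine ⟨P₀, ?_, fun h => hP0 ?_⟩
    · rwa [← hP₀, ← Ideal.Quotient.algebraMap_eq, Polynomial.aeval_map_algebraMap] at hPx
    · rw [← Polynomial.leadingCoeff_eq_zero, Polynomial.leadingCoeff, Polynomial.natDegree, ← hdeg, ← hP₀,
        Polynomial.coeff_map]
      exact Ideal.Quotient.eq_zero_iff_mem.2 h
  choose P hPx hPlead using hlead
  refine ⟨∏ x ∈ s, (P x).leadingCoeff, fun h => ?_, fun R _ _ _ _ hu => ?_⟩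
  · rw [map_prod, Ideal.IsPrime.prod_mem_iff] at h
    obtain ⟨x, -, hx⟩ := h
    exact hPlead x hx
  · rw [map_prod, IsUnit.prod_iff] at hu
    have hint : ∀ x ∈ (s : Set (B ⧸ m)), IsIntegral R x := fun x hx => by
      have hne : P x ≠ 0 := fun e => hPlead x (by rw [e, leadingCoeff_zero]; exact n.zero_mem)
      obtain ⟨v, hv⟩ := hu x hx
      rcases subsingleton_or_nontrivial R with hR | hR
      · exact absurd (congrArg (algebraMap R (B ⧸ m)) (Subsingleton.elim (1 : R) 0))
          (by rw [map_one, map_zero]; exact one_ne_zero)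
      have hlc : ((P x).map (algebraMap A R)).leadingCoeff = v := by
        rw [hv, leadingCoeff_map_of_leadingCoeff_ne_zero]
        exact hv ▸ v.ne_zero
      refine ⟨C (↑v⁻¹ : R) * (P x).map (algebraMap A R),
        monic_C_mul_of_mul_leadingCoeff_eq_one (by rw [hlc, Units.inv_mul]), ?_⟩
      rw [← aeval_def, map_mul, aeval_map_algebraMap, hPx, mul_zero]
    have htop : Algebra.adjoin R (s : Set (B ⧸ m)) = ⊤ := by
      refine eq_top_iff.2 fun y _ => ?_
      have hy : y ∈ Algebra.adjoin A (s : Set (B ⧸ m)) := hs ▸ Algebra.mem_top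
      exact Algebra.adjoin_le (A := B ⧸ m) (S := (Algebra.adjoin R (s : Set (B ⧸ m))).restrictScalars A)
        Algebra.subset_adjoin hy
    have := fg_adjoin_of_finite s.finite_toSet hint
    rw [htop, Algebra.top_toSubmodule] at this
    exact ⟨this⟩

variable {A : Type u} [CommRing A] (I : Ideal A)

theorem finiteType_trans_quotient {B C : Type u} [CommRing B] [CommRing C] [Algebra A B] [Algebra B C]
    [Algebra A C] [IsScalarTower A B C] (J : Ideal B) (K : Ideal C) (hle : J.map (algebraMap B C) ≤ K)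
    (hB : Algebra.FiniteType A (B ⧸ J)) (hC : Algebra.FiniteType B (C ⧸ K)) :
    Algebra.FiniteType A (C ⧸ K) := by
  let := (Ideal.quotientMap K (algebraMap B C) (Ideal.map_le_iff_le_comap.1 hle)).toAlgebra
  have : IsScalarTower B (B ⧸ J) (C ⧸ K) := IsScalarTower.of_algebraMap_eq fun b => rfl
  have : IsScalarTower A (B ⧸ J) (C ⧸ K) := IsScalarTower.of_algebraMap_eq fun a => by
    rw [IsScalarTower.algebraMap_apply A B (B ⧸ J), ← IsScalarTower.algebraMap_apply B (B ⧸ J),
      ← IsScalarTower.algebraMap_apply]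
  have := Algebra.FiniteType.of_restrictScalars_finiteType B (B ⧸ J) (C ⧸ K)
  exact hB.trans this

theorem isAdicComplete_point {C : Type u} [CommRing C] [IsNoetherianRing C] [Algebra A C]
    [IsAdicComplete (I.map (algebraMap A C)) C] (q : Ideal C) :
    IsAdicComplete (I.map (algebraMap A (C ⧸ q))) (C ⧸ q) := by
  have h := isAdicComplete_quotient (I.map (algebraMap A C)) q
  rwa [Ideal.map_map] at h

theorem exists_point {C : Type u} [CommRing C] [IsNoetherianRing C] [Algebra A C]
    [IsAdicComplete (I.map (algebraMap A C)) C]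
    (hft : Algebra.FiniteType A (C ⧸ I.map (algebraMap A C))) (q : PrimeSpectrum C)
    (hq : ¬ I.map (algebraMap A C) ≤ q.asIdeal ∧
      ∀ y : PrimeSpectrum C, q ≤ y → ¬ I.map (algebraMap A C) ≤ y.asIdeal → y = q) :
    ∃ f : A, IsUnit (algebraMap A (C ⧸ q.asIdeal) f) ∧
      ∀ (R : Type u) [CommRing R] [Algebra A R] [Algebra R (C ⧸ q.asIdeal)]
        [IsScalarTower A R (C ⧸ q.asIdeal)] [IsAdicComplete (I.map (algebraMap A R)) R],
        IsUnit (algebraMap A R f) → Module.Finite R (C ⧸ q.asIdeal) := by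
  obtain ⟨m, hm, hqm⟩ := Ideal.exists_le_maximal q.asIdeal q.2.ne_top
  have hJm : I.map (algebraMap A C) ≤ m := (IsAdicComplete.le_jacobson_bot _).trans (sInf_le ⟨bot_le, hm⟩)
  obtain ⟨f, hfm, hfin⟩ := exists_denominator _ hft m hJm
  have := isLocalRing_quotient _ q hq
  have hc := isAdicComplete_point I (C := C) q.asIdeal
  let M := m.map (Ideal.Quotient.mk q.asIdeal)
  have hMmax : M.IsMaximal :=
    Ideal.IsMaximal.map_of_surjective_of_ker_le Ideal.Quotient.mk_surjective (by rwa [Ideal.mk_ker])
  refine ⟨f, ?_, ?_⟩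
  · by_contra hu
    rw [← mem_nonunits_iff, ← IsLocalRing.mem_maximalIdeal, ← IsLocalRing.eq_maximalIdeal hMmax] at hu
    have h2 : algebraMap A C f ∈ M.comap (Ideal.Quotient.mk q.asIdeal) := hu
    rw [Ideal.comap_map_of_surjective _ Ideal.Quotient.mk_surjective, ← RingHom.ker_eq_comap_bot,
      Ideal.mk_ker, sup_eq_left.2 hqm] at h2
    exact hfm h2
  intro R _ _ _ _ hR hu
  let D := C ⧸ q.asIdeal
  obtain ⟨hJ0, hall⟩ := (forall_le_map_iff _ q).1 hq
  have hJ : (I.map (algebraMap A R)).map (algebraMap R D) = I.map (algebraMap A D) := by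
    rw [Ideal.map_map, ← IsScalarTower.algebraMap_eq]
  have hJ' : (I.map (algebraMap A C)).map (Ideal.Quotient.mk q.asIdeal) = I.map (algebraMap A D) := by
    rw [Ideal.map_map]; rfl
  have hJrad : M ≤ ((I.map (algebraMap A R)).map (algebraMap R D)).radical := by
    have := isAdicComplete_quotient (I.map (algebraMap A C)) q.asIdeal
    rw [hJ, ← hJ']
    exact (eq_radical_of_forall_le hJ0 hall M fun e => hJ0 (le_bot_iff.1
      (e ▸ (IsAdicComplete.le_jacobson_bot _).trans (sInf_le ⟨bot_le, hMmax⟩)))).le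
  let eM : (D ⧸ M) ≃ₐ[A] C ⧸ m := DoubleQuot.quotQuotEquivQuotOfLEₐ A hqm
  let := (eM.toRingHom.comp (algebraMap R (D ⧸ M))).toAlgebra
  have : IsScalarTower A R (C ⧸ m) := IsScalarTower.of_algebraMap_eq fun a => by
    show _ = eM (algebraMap R (D ⧸ M) (algebraMap A R a))
    rw [← IsScalarTower.algebraMap_apply, eM.commutes]
  have := hfin R hu
  let eR : (C ⧸ m) ≃ₐ[R] D ⧸ M :=
    AlgEquiv.ofRingEquiv (f := eM.symm.toRingEquiv) fun r => eM.symm_apply_apply _
  have : Module.Finite R (D ⧸ M) := Module.Finite.equiv eR.toLinearEquiv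
  have : IsAdicComplete ((I.map (algebraMap A R)).map (algebraMap R D)) D := hJ ▸ hc
  exact finite_of_radical_eq (I.map (algebraMap A R)) M hJrad

/-- The image point of a point with finite residue domain is rig-closed. -/
theorem rigClosed_point {C : Type u} [CommRing C] [Algebra A C] (q : PrimeSpectrum C)
    (hq : ¬ I.map (algebraMap A C) ≤ q.asIdeal ∧
      ∀ y : PrimeSpectrum C, q ≤ y → ¬ I.map (algebraMap A C) ≤ y.asIdeal → y = q)
    {R : Type u} [CommRing R] [Algebra A R] (φ : R →+* C ⧸ q.asIdeal)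
    (hφ : ∀ a, φ (algebraMap A R a) = algebraMap A (C ⧸ q.asIdeal) a) (hfin : φ.Finite)
    (p : PrimeSpectrum R) (hp : p.asIdeal = RingHom.ker φ) :
    ¬ I.map (algebraMap A R) ≤ p.asIdeal ∧
      ∀ y : PrimeSpectrum R, p ≤ y → ¬ I.map (algebraMap A R) ≤ y.asIdeal → y = p := by
  let D := C ⧸ q.asIdeal
  let := φ.toAlgebra
  have : IsScalarTower A R D := IsScalarTower.of_algebraMap_eq fun a => (hφ a).symm
  have : Module.Finite R D := hfin
  have : Module.Finite R (D ⧸ (⊥ : Ideal D)) := Module.Finite.equiv (AlgEquiv.quotientBot R D).symm.toLinearEquiv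
  obtain ⟨hJ0, hall⟩ := (forall_le_map_iff _ q).1 hq
  have hJ : (I.map (algebraMap A R)).map (algebraMap R D) =
      (I.map (algebraMap A C)).map (Ideal.Quotient.mk q.asIdeal) := by
    rw [Ideal.map_map, Ideal.map_map, ← IsScalarTower.algebraMap_eq]; rfl
  have h := comap_rigClosed_of_finite (I.map (algebraMap A R)) (⟨⊥, Ideal.isPrime_bot⟩ : PrimeSpectrum D)
    ⟨fun h => hJ0 (le_bot_iff.1 ((le_of_eq hJ.symm).trans h)), fun y _ hy => PrimeSpectrum.ext (by
      by_contra hne
      exact hy ((le_of_eq hJ).trans (hall y.asIdeal y.2 hne)))⟩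
  have hp' : p = PrimeSpectrum.comap (algebraMap R D) ⟨⊥, Ideal.isPrime_bot⟩ :=
    PrimeSpectrum.ext (hp.trans (RingHom.ker_eq_comap_bot φ))
  rw [hp']
  exact h

end AdicRingLib.RigClosed

namespace AdicRingLib.CL

variable {A B : Type u} [CommRing A] [CommRing B] [Algebra A B] {f : A}

theorem apply_of_comp_eq {I : Ideal A} {K : Ideal B}
    {ψ : CL I f →+* CL K (algebraMap A B f)}
    (h : ψ.comp (algebraMap (Localization.Away f) (CL I f)) =
      (algebraMap (Localization.Away (algebraMap A B f)) (CL K (algebraMap A B f))).comp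
        (Localization.awayMap (algebraMap A B) f)) (a : A) :
    ψ (algebraMap A (CL I f) a) = algebraMap B (CL K (algebraMap A B f)) (algebraMap A B a) :=
  (congrArg ψ (IsScalarTower.algebraMap_apply A (Localization.Away f) _ a)).trans <|
    (RingHom.congr_fun h (algebraMap A (Localization.Away f) a)).trans <|
      (congrArg (algebraMap (Localization.Away (algebraMap A B f)) (CL K (algebraMap A B f)))
        (IsLocalization.map_eq (S := Localization.Away f) _ a)).trans
          (IsScalarTower.algebraMap_apply B (Localization.Away (algebraMap A B f)) _ (algebraMap A B a)).symm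

theorem comp_eq_of_apply {I : Ideal A} {K : Ideal B}
    {ψ : CL I f →+* CL K (algebraMap A B f)}
    (h : ∀ a, ψ (algebraMap A (CL I f) a) = algebraMap B (CL K (algebraMap A B f)) (algebraMap A B a)) :
    ψ.comp (algebraMap (Localization.Away f) (CL I f)) =
      (algebraMap (Localization.Away (algebraMap A B f)) (CL K (algebraMap A B f))).comp
        (Localization.awayMap (algebraMap A B) f) := by
  refine loc_ext f _ _ fun a => ?_
  refine (congrArg ψ (IsScalarTower.algebraMap_apply A (Localization.Away f) _ a).symm).trans ((h a).trans ?_)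
  exact (IsScalarTower.algebraMap_apply B (Localization.Away (algebraMap A B f)) _ (algebraMap A B a)).trans
    (congrArg (algebraMap (Localization.Away (algebraMap A B f)) (CL K (algebraMap A B f)))
      (IsLocalization.map_eq (S := Localization.Away f) _ a)).symm

end AdicRingLib.CL
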