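import Groth.Agent.AdicRingLib.Division
import Groth.Agent.CompleteLib.Noetherian
import Mathlib.Algebra.MvPolynomial.PDeriv
import Mathlib.RingTheory.MvPolynomial.WeightedHomogeneous
import Mathlib.Algebra.MvPolynomial.Equiv
import Mathlib.RingTheory.FiniteType

/-!
Saturated submodules of finite modules over finitely generated algebras over a `t`-adically complete
model of restricted power series over a valuation ring are finitely generated.
-/

set_option autoImplicit false

universe u v w

open MvPolynomial IsLocalRing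

namespace AdicRingLib

/-- `A` looks like restricted power series over `(R, t)` in the variables `σ`. -/
structure IsModel {R : Type u} [CommRing R] (t : R) (σ : Type) (A : Type v) [CommRing A] [Algebra R A] :
    Prop where
  complete : IsAdicComplete (Ideal.span {algebraMap R A t}) A
  regular : ∀ x : A, algebraMap R A t * x = 0 → x = 0
  exists_approx : ∃ π : MvPolynomial σ R →ₐ[R] A,
    (∀ a, ∃ p, a - π p ∈ Ideal.span {algebraMap R A t}) ∧
      ∀ p, π p ∈ Ideal.span {algebraMap R A t} → C t ∣ p

variable {R : Type u} [CommRing R] [IsDomain R] [ValuationRing R] {t : R} {σ : Type} [Finite σ]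
  {A : Type v} [CommRing A] [Algebra R A]

theorem fg_mod (hA : IsModel t σ A) (ht0 : t ≠ 0) (htm : t ∈ maximalIdeal R)
    (hrad : ∀ a ∈ maximalIdeal R, ∃ n : ℕ, t ∣ a ^ n) {τ : Type} [Finite τ]
    (N : Ideal (MvPolynomial τ A))
    (hsat : ∀ x, C (algebraMap R A t) * x ∈ N → x ∈ N) :
    ∃ G : Ideal (MvPolynomial τ A), G.FG ∧ G ≤ N ∧
      ∀ x ∈ N, ∃ g ∈ G, ∃ y ∈ N, x = g + C (algebraMap R A t) * y := by
  classical
  obtain ⟨π, hπsur, hπker⟩ := hA.exists_approx
  let e := sumAlgEquiv R τ σ
  let Φ : MvPolynomial (τ ⊕ σ) R →+* MvPolynomial τ A :=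
    (MvPolynomial.map π.toRingHom).comp e.toRingEquiv.toRingHom
  let T : MvPolynomial τ A := C (algebraMap R A t)
  have hPC : ∀ c : R, Φ (C c) = C (algebraMap R A c) := fun c => by
    show MvPolynomial.map π.toRingHom (e (C c)) = _
    rw [show e (C c) = C (C c) from e.commutes c, map_C]
    exact congrArg C (π.commutes c)
  have hker : ∀ q, Φ q ∈ Ideal.span {T} → C t ∣ q := fun q hq => by
    rw [Ideal.mem_span_singleton, C_dvd_iff_dvd_coeff] at hq
    have h1 : ∀ a, C t ∣ (e q).coeff a := fun a => hπker _ (by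
      rw [Ideal.mem_span_singleton]
      have h2 := hq a
      rwa [show (Φ q).coeff a = π ((e q).coeff a) from coeff_map _ _ _] at h2)
    have h2 : (C (C t) : MvPolynomial τ (MvPolynomial σ R)) ∣ e q := (C_dvd_iff_dvd_coeff _ _).2 h1
    rw [show (C (C t) : MvPolynomial τ (MvPolynomial σ R)) = e (C t) from (e.commutes t).symm] at h2
    simpa using map_dvd e.symm h2
  have hsur : ∀ p, ∃ q, p - Φ q ∈ Ideal.span {T} := fun p => by
    choose l hl using hπsur
    refine ⟨e.symm (∑ a ∈ p.support, monomial a (l (p.coeff a))), ?_⟩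
    show p - MvPolynomial.map π.toRingHom (e (e.symm _)) ∈ _
    rw [e.apply_symm_apply, map_sum]
    nth_rewrite 1 [p.as_sum]
    rw [← Finset.sum_sub_distrib]
    refine Ideal.sum_mem _ fun a _ => ?_
    rw [map_monomial, ← map_sub]
    obtain ⟨c, hc⟩ := Ideal.mem_span_singleton'.1 (hl (p.coeff a))
    rw [show p.coeff a - π.toRingHom (l (p.coeff a)) = algebraMap R A t * c by rw [mul_comm, hc]; rfl,
      ← C_mul_monomial]
    exact Ideal.mul_mem_right _ _ (Ideal.mem_span_singleton_self _)
  let J : Ideal (MvPolynomial (τ ⊕ σ) R) := (N ⊔ Ideal.span {T}).comap Φ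
  have hJ : J.FG := by
    refine fg_of_pure ht0 htm hrad J ?_ fun c d hcd x hx => ?_
    · show Φ (C t) ∈ N ⊔ Ideal.span {T}
      rw [hPC]
      exact Ideal.mem_sup_right (Ideal.mem_span_singleton_self _)
    · rw [Ideal.mem_comap, map_mul, hPC] at hx
      obtain ⟨n, hn, z, hz, hnz⟩ := Submodule.mem_sup.1 hx
      obtain ⟨y, rfl⟩ := Ideal.mem_span_singleton'.1 hz
      have h1 : C (algebraMap R A c) * (Φ x - C (algebraMap R A d) * y) ∈ N := by
        rw [mul_sub, ← hnz, ← mul_assoc, ← map_mul, ← map_mul, ← hcd, mul_comm y,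
          add_sub_cancel_right]
        exact hn
      have h2 : Φ x - C (algebraMap R A d) * y ∈ N := hsat _ (by
        rw [hcd, map_mul, map_mul, mul_comm (C (algebraMap R A c)), mul_assoc]
        exact N.mul_mem_left _ h1)
      obtain ⟨q, hq⟩ := hsur y
      refine Submodule.mem_sup.2 ⟨x - C d * q, ?_, C d * q,
        Ideal.mul_mem_right _ _ (Ideal.mem_span_singleton_self _), by abel⟩
      rw [Ideal.mem_comap, map_sub, map_mul, hPC,
        show Φ x - C (algebraMap R A d) * Φ q =
          (Φ x - C (algebraMap R A d) * y) + C (algebraMap R A d) * (y - Φ q) by ring]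
      exact add_mem (Ideal.mem_sup_left h2) (Ideal.mem_sup_right (Ideal.mul_mem_left _ _ hq))
  obtain ⟨S, hS⟩ := hJ
  have hgen : ∀ g : S, ∃ n z, n ∈ N ∧ z ∈ Ideal.span {T} ∧ n + z = Φ g.1 := fun g => by
    have hg0 : g.1 ∈ J := hS ▸ Ideal.subset_span g.2
    obtain ⟨n, hn, z, hz, h⟩ := Submodule.mem_sup.1 (Ideal.mem_comap.1 hg0)
    exact ⟨n, z, hn, hz, h⟩
  choose n z hn hz hnz using hgen
  refine ⟨Ideal.span (Set.range n), Submodule.fg_span (Set.finite_range n),
    Ideal.span_le.2 (Set.range_subset_iff.2 hn), fun x hx => ?_⟩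
  obtain ⟨q, hq⟩ := hsur x
  have hqJ : q ∈ J := by
    show Φ q ∈ N ⊔ Ideal.span {T}
    rw [show Φ q = x + -(x - Φ q) by ring]
    exact add_mem (Ideal.mem_sup_left hx) (Ideal.mem_sup_right (neg_mem hq))
  have hle : J.map Φ ≤ Ideal.span (Set.range n) ⊔ Ideal.span {T} := by
    rw [← hS, Ideal.map_span]
    refine Ideal.span_le.2 ?_
    rintro _ ⟨g, hg, rfl⟩
    rw [show Φ g = n ⟨g, hg⟩ + z ⟨g, hg⟩ from (hnz ⟨g, hg⟩).symm]
    exact Submodule.add_mem_sup (Ideal.subset_span ⟨⟨g, hg⟩, rfl⟩) (hz _)
  obtain ⟨g', hg', z', hz', hgz⟩ := Submodule.mem_sup.1 (hle (Ideal.mem_map_of_mem Φ hqJ))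
  obtain ⟨y, hy⟩ := Ideal.mem_span_singleton'.1 (add_mem hz' hq)
  have heq : x = g' + T * y := by rw [mul_comm T, hy, ← add_assoc, hgz]; ring
  refine ⟨g', hg', y, hsat _ ?_, heq⟩
  have h := sub_mem hx ((Ideal.span_le.2 (Set.range_subset_iff.2 hn)) hg')
  rwa [heq, add_sub_cancel_left] at h

/-- The substitution `X none ↦ 1`. -/
noncomputable def dehom (A : Type v) [CommRing A] (τ : Type) :
    MvPolynomial (Option τ) A →ₐ[A] MvPolynomial τ A :=
  aeval fun o => o.elim 1 X

theorem dehom_rename {τ : Type} (p : MvPolynomial τ A) : dehom A τ (rename some p) = p := by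
  rw [dehom, aeval_rename]
  exact aeval_X_left_apply p

/-- Saturated ideals of a polynomial ring over the model are finitely generated. -/
theorem fg_saturated_ideal (hA : IsModel t σ A) (ht0 : t ≠ 0) (htm : t ∈ maximalIdeal R)
    (hrad : ∀ a ∈ maximalIdeal R, ∃ n : ℕ, t ∣ a ^ n) {τ : Type} [Finite τ]
    (N : Ideal (MvPolynomial τ A))
    (hsat : ∀ x, C (algebraMap R A t) * x ∈ N → x ∈ N) : N.FG := by
  classical
  have := hA.complete
  let tA : A := algebraMap R A t
  let Nh : Ideal (MvPolynomial (Option τ) A) :=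
    Ideal.span {p | ∃ d, p.IsHomogeneous d ∧ dehom A τ p ∈ N}
  have hcomp : ∀ p ∈ Nh, ∀ h d, dehom A τ (homogeneousComponent d (h * p)) ∈ N := by
    intro p hp
    induction hp using Submodule.span_induction with
    | mem q hq =>
      obtain ⟨e, he, hqN⟩ := hq
      intro h d
      rw [CompleteLib.homogeneousComponent_mul_isHomogeneous he]
      split_ifs with hed
      · rw [map_mul]; exact N.mul_mem_left _ hqN
      · rw [map_zero]; exact zero_mem _
    | zero => intro h d; rw [mul_zero, map_zero, map_zero]; exact zero_mem _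
    | add x y _ _ hx hy => intro h d; rw [mul_add, map_add, map_add]; exact add_mem (hx h d) (hy h d)
    | smul c x _ hx => intro h d; rw [smul_eq_mul, ← mul_assoc]; exact hx _ d
  have hcompmem : ∀ p ∈ Nh, ∀ d, homogeneousComponent d p ∈ Nh := fun p hp d =>
    Ideal.subset_span ⟨d, homogeneousComponent_isHomogeneous d p, by
      simpa using hcomp p hp 1 d⟩
  have hsath : ∀ p, C tA * p ∈ Nh → p ∈ Nh := fun p hp => by
    rw [← sum_homogeneousComponent p]
    refine Ideal.sum_mem _ fun d _ => Ideal.subset_span ⟨d, homogeneousComponent_isHomogeneous d p, hsat _ ?_⟩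
    have h := hcomp _ hp 1 d
    rw [one_mul, homogeneousComponent_C_mul, map_mul] at h
    rwa [show dehom A τ (C tA) = C tA from (dehom A τ).commutes tA] at h
  obtain ⟨G₀, hG₀, hG₀N, hdec⟩ := fg_mod hA ht0 htm hrad Nh hsath
  obtain ⟨S, rfl⟩ := hG₀
  let P := Finset.biUnion S fun g =>
    (Finset.range (g.totalDegree + 1)).image fun d => (d, homogeneousComponent d g)
  let G : Ideal (MvPolynomial (Option τ) A) := Ideal.span (Prod.snd '' (P : Set (ℕ × MvPolynomial (Option τ) A)))
  have hP : ∀ i ∈ P, i.2.IsHomogeneous i.1 ∧ i.2 ∈ Nh := fun i hi => by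
    obtain ⟨g, hg, hd⟩ := Finset.mem_biUnion.1 hi
    obtain ⟨d, -, rfl⟩ := Finset.mem_image.1 hd
    exact ⟨homogeneousComponent_isHomogeneous d g, hcompmem g (hG₀N (Ideal.subset_span hg)) d⟩
  have hGN : G ≤ Nh := Ideal.span_le.2 (by rintro _ ⟨i, hi, rfl⟩; exact (hP i hi).2)
  have hG₀G : Ideal.span (S : Set (MvPolynomial (Option τ) A)) ≤ G := Ideal.span_le.2 fun g hg => by
    rw [SetLike.mem_coe, ← sum_homogeneousComponent g]
    exact Ideal.sum_mem _ fun d hd => Ideal.subset_span
      ⟨(d, homogeneousComponent d g), Finset.mem_biUnion.2 ⟨g, hg, Finset.mem_image.2 ⟨d, hd, rfl⟩⟩, rfl⟩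
  have key : ∀ D : ℕ, ∀ x ∈ Nh, x.IsHomogeneous D → x ∈ G := by
    intro D
    let M : Submodule A (MvPolynomial (Option τ) A) :=
      Nh.restrictScalars A ⊓ homogeneousSubmodule (Option τ) A D
    let GD : Submodule A (MvPolynomial (Option τ) A) := ⨆ i ∈ P.filter fun i => i.1 ≤ D,
      (homogeneousSubmodule (Option τ) A (D - i.1)).map (LinearMap.mulRight A i.2)
    have hGDfg : GD.FG := Submodule.fg_biSup _ _ fun i _ =>
      (weightedHomogeneousSubmodule_fg (R := A) 1 (fun _ => one_ne_zero) (D - i.1)).map _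
    have hGDM : GD ≤ M := iSup₂_le fun i hi => by
      rintro _ ⟨h, hh, rfl⟩
      obtain ⟨hi1, hi2⟩ := Finset.mem_filter.1 hi
      refine ⟨Nh.mul_mem_left _ (hP i hi1).2, ?_⟩
      rw [SetLike.mem_coe, mem_homogeneousSubmodule, LinearMap.mulRight_apply]
      convert (hh : MvPolynomial.IsHomogeneous h (D - i.1)).mul (hP i hi1).1
      omega
    have hGDG : ∀ x ∈ GD, x ∈ G := fun x hx => by
      have : GD ≤ G.restrictScalars A := iSup₂_le fun i hi => by
        rintro _ ⟨h, -, rfl⟩
        exact G.mul_mem_left _ (Ideal.subset_span ⟨i, (Finset.mem_filter.1 hi).1, rfl⟩)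
      exact this hx
    have hGfull : ∀ g ∈ G, homogeneousComponent D g ∈ GD := by
      have : ∀ g ∈ G, ∀ h, homogeneousComponent D (h * g) ∈ GD := by
        intro g hg
        induction hg using Submodule.span_induction with
        | mem q hq =>
          obtain ⟨i, hi, rfl⟩ := hq
          intro h
          rw [CompleteLib.homogeneousComponent_mul_isHomogeneous (hP i hi).1]
          split_ifs with hid
          · exact Submodule.mem_iSup_of_mem i (Submodule.mem_iSup_of_mem (Finset.mem_filter.2 ⟨hi, hid⟩)
              ⟨_, homogeneousComponent_isHomogeneous _ h, rfl⟩)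
          · exact zero_mem _
        | zero => intro h; rw [mul_zero, map_zero]; exact zero_mem _
        | add x y _ _ hx hy => intro h; rw [mul_add, map_add]; exact add_mem (hx h) (hy h)
        | smul c x _ hx => intro h; rw [smul_eq_mul, ← mul_assoc]; exact hx _
      exact fun g hg => by simpa using this g hg 1
    obtain ⟨s, hs⟩ := hGDfg
    let ev : s → M := fun i => ⟨i.1, hGDM (hs ▸ Submodule.subset_span i.2)⟩
    have hHaus : ∀ z : M, (∀ m, z ∈ Ideal.span {tA} ^ m • (⊤ : Submodule A M)) → z = 0 := fun z hz => by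
      refine Subtype.ext (MvPolynomial.ext _ _ fun a => ?_)
      rw [ZeroMemClass.coe_zero, coeff_zero]
      refine CompleteLib.eq_zero_of_forall_mem (I := Ideal.span {tA}) fun m => ?_
      have h := hz m
      rw [Ideal.span_singleton_pow, Submodule.ideal_span_singleton_smul] at h
      obtain ⟨w, -, hw⟩ := h
      rw [smul_eq_mul, Ideal.mul_top, Ideal.span_singleton_pow, Ideal.mem_span_singleton]
      exact ⟨(w : MvPolynomial (Option τ) A).coeff a, by
        rw [← hw]; exact coeff_smul a _ _⟩
    have hgen : Submodule.span A (Set.range ev) ⊔ Ideal.span {tA} • (⊤ : Submodule A M) = ⊤ := by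
      refine eq_top_iff.2 fun y _ => ?_
      obtain ⟨g, hg, y₁, hy₁, hy⟩ := hdec y.1 y.2.1
      have hgD := hGfull g (hG₀G hg)
      have hy₁M : homogeneousComponent D y₁ ∈ M :=
        ⟨hcompmem y₁ hy₁ D, homogeneousComponent_isHomogeneous D y₁⟩
      have hyeq : y = (⟨_, hGDM hgD⟩ : M) + tA • (⟨_, hy₁M⟩ : M) := Subtype.ext (by
        rw [Submodule.coe_add, Submodule.coe_smul, smul_eq_C_mul, ← homogeneousComponent_C_mul, ← map_add,
          ← hy, homogeneousComponent_of_mem y.2.2, if_pos rfl])
      rw [hyeq]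
      refine Submodule.add_mem_sup ?_ (Submodule.smul_mem_smul (Ideal.mem_span_singleton_self _) trivial)
      suffices h : ∀ x, ∀ hx : x ∈ Submodule.span A (s : Set (MvPolynomial (Option τ) A)),
          (⟨x, hGDM (hs ▸ hx)⟩ : M) ∈ Submodule.span A (Set.range ev) from h _ (hs.symm ▸ hgD)
      intro x hx
      induction hx using Submodule.span_induction with
      | mem q hq => exact Submodule.subset_span ⟨⟨q, hq⟩, rfl⟩
      | zero => exact zero_mem _
      | add a b _ _ ha hb => exact add_mem ha hb
      | smul c a _ ha => exact Submodule.smul_mem _ c ha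
    have htop := (CompleteLib.approx_filtration_eq (I := Ideal.span {tA}) ev
      (fun m => Ideal.span {tA} ^ m • ⊤) (fun a b hab => CompleteLib.pow_smul_top_anti hab) hHaus
      (fun m => le_rfl) (fun m => by
        conv_lhs => rw [← hgen]
        rw [Submodule.smul_sup, ← Submodule.mul_smul, ← pow_succ]) (by simp)).1
    intro x hx hxD
    refine hGDG x ?_
    have h : (⟨x, hx, hxD⟩ : M) ∈ GD.comap M.subtype := by
      have hle : Submodule.span A (Set.range ev) ≤ GD.comap M.subtype :=
        Submodule.span_le.2 (Set.range_subset_iff.2 fun i => hs ▸ Submodule.subset_span i.2)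
      exact hle (htop ▸ trivial)
    exact h
  have hN : N = G.map (dehom A τ).toRingHom := by
    refine le_antisymm (fun x hx => ?_) (Ideal.map_le_iff_le_comap.2 fun p hp => ?_)
    · let D := x.totalDegree
      let xh := ∑ d ∈ Finset.range (D + 1), X none ^ (D - d) * rename some (homogeneousComponent d x)
      have hd : dehom A τ xh = x := by
        rw [map_sum]
        conv_rhs => rw [← sum_homogeneousComponent x]
        refine Finset.sum_congr rfl fun d _ => ?_
        rw [map_mul, map_pow, dehom_rename, dehom, aeval_X, Option.elim_none, one_pow, one_mul]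
      have hh : xh.IsHomogeneous D := MvPolynomial.IsHomogeneous.sum _ _ _ fun d hd => by
        have hdD : d ≤ D := Nat.lt_succ_iff.1 (Finset.mem_range.1 hd)
        have h := ((isHomogeneous_X A (none : Option τ)).pow (D - d)).mul
          ((homogeneousComponent_isHomogeneous d x).rename_isHomogeneous (f := some))
        rwa [one_mul, Nat.sub_add_cancel hdD] at h
      exact hd ▸ Ideal.mem_map_of_mem _ (key D xh (Ideal.subset_span ⟨D, hh, hd.symm ▸ hx⟩) hh)
    · rw [Ideal.mem_comap]
      have h := hGN hp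
      rw [← sum_homogeneousComponent p, map_sum]
      exact Ideal.sum_mem _ fun d _ => by simpa using hcomp p h 1 d
  rw [hN]
  exact Ideal.FG.map (Submodule.fg_span (P.finite_toSet.image _)) _

/-- Saturated submodules of finite modules over a finitely generated algebra over the model are
finitely generated. -/
theorem fg_saturated_module (hA : IsModel t σ A) (ht0 : t ≠ 0) (htm : t ∈ maximalIdeal R)
    (hrad : ∀ a ∈ maximalIdeal R, ∃ n : ℕ, t ∣ a ^ n) {B : Type w} [CommRing B] [Algebra A B]
    [Algebra.FiniteType A B] {M : Type w} [AddCommGroup M] [Module B M] [Module.Finite B M]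
    (N : Submodule B M)
    (hsat : ∀ x, algebraMap A B (algebraMap R A t) • x ∈ N → x ∈ N) : N.FG := by
  classical
  obtain ⟨n, f, hf⟩ := Algebra.FiniteType.iff_quotient_mvPolynomial''.1 ‹Algebra.FiniteType A B›
  obtain ⟨r, π, hπ⟩ := Module.Finite.exists_fin' B M
  let tA : A := algebraMap R A t
  let B' := MvPolynomial (Fin n) A
  let lin : MvPolynomial (Fin r) B' →+ (Fin r → B') :=
    { toFun := fun p j => constantCoeff (pderiv j p)
      map_zero' := by funext j; simp
      map_add' := fun p q => by funext j; simp }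
  let ψ : (Fin r → B') → M := fun v => π fun j => f (v j)
  have hψadd : ∀ v w, ψ (v + w) = ψ v + ψ w := fun v w => by
    show π _ = π _ + π _
    rw [← map_add]; congr 1; funext j; exact map_add f _ _
  have hψsmul : ∀ (c : B') v, ψ (c • v) = f c • ψ v := fun c v => by
    show π _ = f c • π _
    rw [← map_smul]; congr 1; funext j; exact map_mul f _ _
  have hlinmul : ∀ h p : MvPolynomial (Fin r) B', constantCoeff p = 0 →
      lin (h * p) = constantCoeff h • lin p := fun h p hp => by
    funext j
    show constantCoeff (pderiv j (h * p)) = constantCoeff h * constantCoeff (pderiv j p)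
    rw [pderiv_mul, map_add, map_mul, map_mul, hp, mul_zero, zero_add]
  let Nd : Ideal (MvPolynomial (Fin r) B') :=
    { carrier := {p | constantCoeff p = 0 ∧ ψ (lin p) ∈ N}
      zero_mem' := ⟨map_zero _, by
        rw [map_zero]
        show π _ ∈ N
        rw [show (fun j => f ((0 : Fin r → B') j)) = 0 by funext j; exact map_zero f, map_zero]
        exact zero_mem _⟩
      add_mem' := fun {p q} hp hq => ⟨by rw [map_add, hp.1, hq.1, add_zero], by
        rw [map_add, hψadd]; exact add_mem hp.2 hq.2⟩
      smul_mem' := fun h p hp => ⟨by rw [smul_eq_mul, map_mul, hp.1, mul_zero], by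
        rw [smul_eq_mul, hlinmul h p hp.1, hψsmul]; exact N.smul_mem _ hp.2⟩ }
  let e := sumAlgEquiv A (Fin r) (Fin n)
  have hNd : Nd.FG := by
    have h : (Nd.comap e.toRingEquiv.toRingHom).FG := fg_saturated_ideal hA ht0 htm hrad _ fun x hx => by
      rw [Ideal.mem_comap, map_mul] at hx
      rw [Ideal.mem_comap]
      have hC : e.toRingEquiv.toRingHom (C tA) = C (C tA) := e.commutes tA
      rw [hC] at hx
      obtain ⟨h0, h1⟩ := hx
      rw [map_mul, constantCoeff_C] at h0
      refine ⟨?_, ?_⟩
      · refine MvPolynomial.ext _ _ fun a => ?_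
        rw [coeff_zero]
        refine hA.regular _ ?_
        have := congrArg (MvPolynomial.coeff a) h0
        rwa [coeff_C_mul, coeff_zero] at this
      · refine hsat _ ?_
        have hlinC : lin (C (C tA) * e.toRingEquiv.toRingHom x) =
            (C tA : B') • lin (e.toRingEquiv.toRingHom x) := by
          funext j
          show constantCoeff (pderiv j (C (C tA) * _)) = C tA * constantCoeff (pderiv j _)
          rw [pderiv_C_mul, map_mul, constantCoeff_C]
        rw [hlinC, hψsmul] at h1
        rwa [show f (C tA) = algebraMap A B tA from f.commutes tA] at h1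
    have := Ideal.FG.map h e.toRingEquiv.toRingHom
    rwa [Ideal.map_comap_of_surjective e.toRingEquiv.toRingHom e.toRingEquiv.surjective] at this
  obtain ⟨S, hS⟩ := hNd
  refine ⟨S.image fun g => ψ (lin g), le_antisymm (Submodule.span_le.2 ?_) fun x hx => ?_⟩
  · rw [Finset.coe_image]
    rintro _ ⟨g, hg, rfl⟩
    exact ((hS ▸ Ideal.subset_span hg : g ∈ Nd)).2
  · obtain ⟨v, rfl⟩ := hπ x
    choose v' hv' using fun j => hf (v j)
    let p : MvPolynomial (Fin r) B' := ∑ j, C (v' j) * X j
    have hp0 : constantCoeff p = 0 := by simp [p]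
    have hlin : lin p = v' := by
      funext j
      show constantCoeff (pderiv j p) = v' j
      simp only [p, map_sum]
      rw [Finset.sum_eq_single j (fun i _ hij => by simp [pderiv_C_mul, pderiv_X, hij]) (by simp)]
      simp [pderiv_C_mul]
    have hψp : ψ (lin p) = π v := by
      rw [hlin]; exact congrArg π (funext hv')
    have hpN : p ∈ Ideal.span (S : Set (MvPolynomial (Fin r) B')) := by
      show p ∈ Ideal.span _
      rw [hS]
      exact ⟨hp0, by rw [hψp]; exact hx⟩
    rw [← hψp]
    suffices H : ∀ q ∈ Ideal.span (S : Set (MvPolynomial (Fin r) B')), ∀ h,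
        ψ (lin (h * q)) ∈ Submodule.span B ((S.image fun g => ψ (lin g) : Finset M) : Set M) by
      simpa using H p hpN 1
    intro q hq
    induction hq using Submodule.span_induction with
    | mem g hg =>
      intro h
      rw [hlinmul h g ((hS ▸ Ideal.subset_span hg : g ∈ Nd)).1, hψsmul]
      exact Submodule.smul_mem _ _ (Submodule.subset_span (Finset.mem_image_of_mem _ hg))
    | zero =>
      intro h
      rw [mul_zero, map_zero, show ψ 0 = 0 by
        show π _ = 0
        rw [show (fun j => f ((0 : Fin r → B') j)) = 0 by funext j; exact map_zero f, map_zero]]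
      exact zero_mem _
    | add a b _ _ ha hb => intro h; rw [mul_add, map_add, hψadd]; exact add_mem (ha h) (hb h)
    | smul c a _ ha => intro h; rw [smul_eq_mul, ← mul_assoc]; exact ha _

end AdicRingLib
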