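import Groth.Agent.AdicRingLib.Base
import Mathlib.RingTheory.Flat.TorsionFree
import Mathlib.LinearAlgebra.TensorProduct.Pi
import Mathlib.Algebra.Module.FinitePresentation

/-! Torsion, coherence and finite presentation. -/

set_option autoImplicit false

universe u

open TensorProduct

namespace AdicRingLib

/-- Flat modules over a ring without `I`-power torsion have none. -/
theorem noPowTorsion_of_flat {R A M : Type u} [CommRing R] [CommRing A] [Algebra R A] [AddCommGroup M]
    [Module A M] [Module R M] [IsScalarTower R A M] {I : Ideal R} (hI : I.FG) (hA : AdicRing.NoPowTorsion I A)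
    [Module.Flat A M] : AdicRing.NoPowTorsion I M := by
  classical
  intro x n hx
  obtain ⟨k, g, hg⟩ := Submodule.fg_iff_exists_fin_generating_family.1 (hI.pow (n := n))
  let u : A →ₗ[A] (Fin k → A) := LinearMap.pi fun i => LinearMap.lsmul A A (algebraMap R A (g i))
  have hu : Function.Injective u := by
    rw [← LinearMap.ker_eq_bot, LinearMap.ker_eq_bot']
    intro a ha
    refine hA a n fun b hb => ?_
    rw [← hg] at hb
    induction hb using Submodule.span_induction with
    | mem y hy =>
      obtain ⟨i, rfl⟩ := hy
      rw [Algebra.smul_def]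
      exact congrFun ha i
    | zero => rw [zero_smul]
    | add y z _ _ hy hz => rw [add_smul, hy, hz, add_zero]
    | smul c y _ hy => rw [smul_eq_mul, mul_smul, hy, smul_zero]
  have h := Module.Flat.lTensor_preserves_injective_linearMap (M := M) u hu
  have h0 : x ⊗ₜ[A] (1 : A) = 0 := h (by
    rw [map_zero, LinearMap.lTensor_tmul]
    refine (TensorProduct.piScalarRight A A M (Fin k)).injective ?_
    rw [map_zero]
    funext i
    simp only [piScalarRight_apply, piScalarRightHom_tmul, u, LinearMap.pi_apply, LinearMap.lsmul_apply,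
      smul_eq_mul, mul_one, algebraMap_smul, Pi.zero_apply]
    exact hx _ (hg ▸ Submodule.subset_span ⟨i, rfl⟩))
  simpa using congrArg (TensorProduct.rid A M) h0

variable {R : Type u} [CommRing R] {I : Ideal R}

theorem noPowTorsion_base (hR : AdicRing.IsBase R I) : AdicRing.NoPowTorsion I R := by
  rcases hR.2 with ⟨-, h⟩ | ⟨_, -, -, t, ht, rfl⟩
  · exact h
  · intro x n hx
    have h := hx (t ^ n) (Ideal.pow_mem_pow (Ideal.mem_span_singleton_self t) n)
    exact (mul_eq_zero.1 h).resolve_left (pow_ne_zero n ht)

theorem flat_rPow (hR : AdicRing.IsBase R I) (n : ℕ) : Module.Flat R (AdicRing.RPow R I n) := by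
  rcases cases_isBase hR with ⟨hN, -⟩ | ⟨hd, hv, t, ht0, rfl, htm, hrad⟩
  · exact Module.Flat.trans R (MvPolynomial (Fin n) R) _
  · have hS := isModel_rPow ht0 n hR
    rw [Module.Flat.flat_iff_torsion_eq_bot_of_isBezout, eq_bot_iff]
    rintro x ⟨⟨a, ha⟩, hx⟩
    rw [Submodule.mem_bot]
    have ha0 : a ≠ 0 := nonZeroDivisors.ne_zero ha
    have hpow : ∀ (m : ℕ) (y : AdicRing.RPow R (Ideal.span {t}) n),
        algebraMap R (AdicRing.RPow R (Ideal.span {t}) n) t ^ m * y = 0 → y = 0 := by
      intro m
      induction m with
      | zero => intro y hy; simpa using hy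
      | succ m ih => intro y hy; rw [pow_succ', mul_assoc] at hy; exact ih y (hS.regular _ hy)
    obtain ⟨m, d, hd⟩ : ∃ (m : ℕ) (d : R), t ^ m = a * d := by
      by_cases hu : IsUnit a
      · obtain ⟨b, hb⟩ := hu.exists_right_inv
        exact ⟨0, b, by rw [pow_zero, hb]⟩
      by_contra hcon
      push Not at hcon
      have hdvd : ∀ m, t ^ m ∣ a := fun m => by
        rcases ValuationRing.dvd_total (t ^ m) a with h | ⟨d, hd⟩
        exacts [h, absurd hd (hcon m d)]
      have := hR.1
      refine ha0 (IsHausdorff.haus (I := Ideal.span {t}) inferInstance a fun m => ?_)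
      rw [SModEq.sub_mem, sub_zero, smul_eq_mul, Ideal.mul_top, Ideal.span_singleton_pow,
        Ideal.mem_span_singleton]
      exact hdvd m
    refine hpow m x ?_
    rw [← map_pow, ← Algebra.smul_def, hd, mul_comm, mul_smul]
    rw [show a • x = 0 from hx, smul_zero]

theorem noPowTorsion_rPow (hR : AdicRing.IsBase R I) (n : ℕ) :
    AdicRing.NoPowTorsion I (AdicRing.RPow R I n) := by
  have := flat_rPow hR n
  exact noPowTorsion_of_flat (A := R) (fg_of_isBase hR) (noPowTorsion_base hR)

variable {A : Type u} [CommRing A] [Algebra R A]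

/-- Finitely generated modules without torsion are finitely presented. -/
theorem finitePresentation_of_noPowTorsion (hR : AdicRing.IsBase R I) (hA : AdicRing.TopFiniteType R I A)
    (M : Type u) [AddCommGroup M] [Module A M] [Module R M] [IsScalarTower R A M] [Module.Finite A M]
    (hM : AdicRing.NoPowTorsion I M) : Module.FinitePresentation A M := by
  obtain ⟨r, π, hπ⟩ := Module.Finite.exists_fin' A M
  refine Module.finitePresentation_of_surjective π hπ ?_
  refine fg_of_saturated hR hA A (Fin r → A) (LinearMap.ker π) fun x n hx => ?_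
  refine hM (π x) n fun a ha => ?_
  rw [← algebraMap_smul A a (π x), ← map_smul, algebraMap_smul]
  exact hx a ha

/-- Algebras topologically of finite presentation are coherent. -/
theorem finitePresentation_ideal (hR : AdicRing.IsBase R I) (hA : AdicRing.TopFinitePresentation R I A)
    (J : Ideal A) (hJ : J.FG) : Module.FinitePresentation A J := by
  obtain ⟨n, φ, hφ, hker⟩ := hA
  let S := AdicRing.RPow R I n
  let _ : Algebra S A := φ.toAlgebra
  have : IsScalarTower R S A := IsScalarTower.of_algebraMap_eq fun r => (φ.commutes r).symm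
  have hS : AdicRing.TopFiniteType R I S := ⟨n, AlgHom.id R S, Function.surjective_id⟩
  let J' : Ideal S := J.comap (algebraMap S A)
  have hJ' : J'.FG := by
    have h1 : (Submodule.map (Algebra.linearMap S A) J').FG := by
      rw [show Submodule.map (Algebra.linearMap S A) J' = J.restrictScalars S by
        ext y
        refine ⟨?_, fun hy => ?_⟩
        · rintro ⟨z, hz, rfl⟩; exact hz
        · obtain ⟨z, rfl⟩ := hφ y; exact ⟨z, hy, rfl⟩]
      exact Submodule.FG.restrictScalars_of_surjective hJ hφ
    refine Submodule.fg_of_fg_map_of_fg_inf_ker (Algebra.linearMap S A) h1 ?_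
    rw [inf_eq_right.2 fun z hz => by
      show algebraMap S A z ∈ J
      rw [show algebraMap S A z = 0 from hz]
      exact zero_mem _]
    exact hker
  have : Module.Finite S J' := Module.Finite.iff_fg.2 hJ'
  have hfp : Module.FinitePresentation S J' := finitePresentation_of_noPowTorsion hR hS J'
    fun x m hx => Subtype.ext (noPowTorsion_rPow hR n x.1 m fun a ha => congrArg Subtype.val (hx a ha))
  let q : J' →ₗ[S] J :=
    { toFun := fun x => ⟨algebraMap S A x.1, x.2⟩
      map_add' := fun x y => Subtype.ext (map_add _ _ _)
      map_smul' := fun c x => Subtype.ext (by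
        show algebraMap S A (c * x.1) = _
        rw [map_mul]
        exact (Algebra.smul_def c (algebraMap S A x.1)).symm) }
  have hq : Function.Surjective q := fun y => by
    obtain ⟨z, hz⟩ := hφ y.1
    exact ⟨⟨z, show φ z ∈ J from hz ▸ y.2⟩, Subtype.ext hz⟩
  have hfpJ : Module.FinitePresentation S J := by
    refine Module.finitePresentation_of_surjective q hq ?_
    refine Submodule.fg_of_fg_map_injective J'.subtype J'.injective_subtype ?_
    rw [show (LinearMap.ker q).map J'.subtype = LinearMap.ker (Algebra.linearMap S A) by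
      ext z
      refine ⟨?_, fun hz => ?_⟩
      · rintro ⟨w, hw, rfl⟩; exact congrArg Subtype.val hw
      · exact ⟨⟨z, by show algebraMap S A z ∈ J; rw [show algebraMap S A z = 0 from hz]; exact zero_mem _⟩,
          Subtype.ext hz, rfl⟩]
    exact hker
  have : Module.Finite A J := Module.Finite.iff_fg.2 hJ
  obtain ⟨s, π, hπ⟩ := Module.Finite.exists_fin' A J
  refine Module.finitePresentation_of_surjective π hπ ?_
  have : Module.Finite S A := Module.Finite.of_surjective (Algebra.linearMap S A) hφ
  have h2 : (LinearMap.ker (π.restrictScalars S)).FG :=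
    Module.FinitePresentation.fg_ker (π.restrictScalars S) hπ
  obtain ⟨T, hT⟩ := h2
  refine ⟨T, le_antisymm (Submodule.span_le.2 fun y hy => ?_) fun y hy => ?_⟩
  · exact ((hT ▸ Submodule.subset_span hy : y ∈ LinearMap.ker (π.restrictScalars S)) :)
  · have h3 : y ∈ Submodule.span S (T : Set (Fin s → A)) := by rw [hT]; exact hy
    exact Submodule.span_le_restrictScalars S A _ h3

end AdicRingLib
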